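import Groth.Agent.Der55.SpecialSystem
import Groth.Agent.TriCat.DerivedCoproducts
import Mathlib.Algebra.Homology.DerivedCategory.Ext.ExactSequences
import Mathlib.Algebra.Homology.DerivedCategory.KInjective
import Mathlib.CategoryTheory.Abelian.Injective.Basic
import Mathlib.CategoryTheory.Adjunction.Additive

/-! Morphisms from bounded above complexes of adapted objects into images of K-injective complexes
under an exact right adjoint. -/

universe w w' v u v' u'

open CategoryTheory Limits Abelian Pretriangulated ZeroObject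

namespace Groth.Agent.Der55

variable {A : Type u} [Category.{v} A] [Abelian A] {B : Type u'} [Category.{v'} B] [Abelian B]
  [HasExt.{w} B]

variable (T : A ⥤ B)

/-- Objects without higher Ext into the images of the injectives. -/
def adapted : ObjectProperty B := fun X =>
  ∀ (I : A), Injective I → ∀ k : ℕ, Subsingleton (Ext X (T.obj I) (k + 1))

variable {T}

instance : (adapted T).IsClosedUnderIsomorphisms where
  of_iso {X Y} e h I hI k := by
    have := h I hI k
    refine subsingleton_of_forall_eq 0 fun x => ?_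
    have h0 : (Ext.mk₀ e.hom).comp x (zero_add _) = 0 := Subsingleton.elim _ _
    have := congrArg (fun y => (Ext.mk₀ e.inv).comp y (zero_add _)) h0
    rw [Ext.mk₀_comp_mk₀_assoc, Iso.inv_hom_id, Ext.mk₀_id_comp, Ext.comp_zero] at this
    exact this

lemma adapted_of_isZero (Z : B) (hZ : IsZero Z) : adapted T Z := fun I _ k =>
  subsingleton_of_forall_eq 0 fun x => by
    have := congrArg (fun f => (Ext.mk₀ f).comp x (zero_add (k + 1))) (hZ.eq_of_src (𝟙 Z) 0)
    simpa using this

lemma adapted_middle {S : ShortComplex B} (hS : S.ShortExact) (h₁ : adapted T S.X₁)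
    (h₃ : adapted T S.X₃) : adapted T S.X₂ := fun I hI k => by
  refine subsingleton_of_forall_eq 0 fun x => ?_
  have := h₁ I hI k
  have := h₃ I hI k
  obtain ⟨y, hy⟩ := Ext.contravariant_sequence_exact₂ hS (T.obj I) x (Subsingleton.elim _ _)
  rw [← hy, Subsingleton.elim y 0, Ext.comp_zero]

lemma adapted_biprod (X Y : B) (hX : adapted T X) (hY : adapted T Y) : adapted T (X ⊞ Y) :=
  adapted_middle (S := ShortComplex.mk (biprod.inl : X ⟶ X ⊞ Y) biprod.snd (by simp))
    (ShortComplex.Splitting.ofHasBinaryBiproduct X Y).shortExact hX hY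

lemma adapted_left {S : ShortComplex B} (hS : S.ShortExact) (h₂ : adapted T S.X₂)
    (h₃ : adapted T S.X₃) : adapted T S.X₁ := fun I hI k => by
  refine subsingleton_of_forall_eq 0 fun x => ?_
  have := h₂ I hI k
  have := h₃ I hI (k + 1)
  obtain ⟨y, hy⟩ := Ext.contravariant_sequence_exact₁ hS (T.obj I) x (by omega : 1 + (k + 1) = k + 1 + 1)
    (Subsingleton.elim _ _)
  rw [← hy, Subsingleton.elim y 0, Ext.comp_zero]

omit [HasExt.{w} B] in
lemma cyclesSC_shortExact (K : CochainComplex B ℤ) (hK : K.Acyclic) (i : ℤ) :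
    (ShortComplex.mk (K.iCycles i) (K.toCycles i (i + 1))
      (by rw [← cancel_mono (K.iCycles (i + 1)), Category.assoc, HomologicalComplex.toCycles_i,
        HomologicalComplex.iCycles_d, zero_comp])).ShortExact where
  exact := by
    refine ShortComplex.exact_of_f_is_kernel _ ?_
    refine KernelFork.IsLimit.ofι' _ _ fun {W} k hk => ?_
    have hk' : k ≫ K.d i (i + 1) = 0 := by
      have := hk =≫ K.iCycles (i + 1)
      simpa using this
    exact ⟨K.liftCycles k (i + 1) (by simp) hk', K.liftCycles_i _ _ _ _⟩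
  epi_g :=
    Preadditive.epi_of_isZero_cokernel' _ (K.homologyIsCokernel i (i + 1) (by simp))
      ((K.exactAt_iff_isZero_homology _).1 (hK (i + 1)))

/-- In a bounded above acyclic complex of adapted objects all cycles are adapted. -/
lemma adapted_cycles {K : CochainComplex B ℤ} (hK : K.Acyclic) (b : ℤ) [K.IsStrictlyLE b]
    (hP : ∀ i, adapted T (K.X i)) (i : ℤ) : adapted T (K.cycles i) := by
  suffices ∀ (d : ℕ) (i : ℤ), b < i + d → adapted T (K.cycles i) from
    this (b - i + 1).toNat i (by omega)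
  intro d
  induction d with
  | zero =>
    intro i hi
    exact adapted_of_isZero _ (IsZero.of_mono (K.iCycles i) (K.isZero_of_isStrictlyLE b i (by omega)))
  | succ d ih =>
    intro i hi
    exact adapted_left (cyclesSC_shortExact K hK i) (hP i) (ih (i + 1) (by omega))

/-- Maps into the image of an injective killing the differential factor through it. -/
lemma exists_factor_d {K : CochainComplex B ℤ} (hK : K.Acyclic) (b : ℤ) [K.IsStrictlyLE b]
    (hP : ∀ i, adapted T (K.X i)) (I : A) [Injective I] (i : ℤ) (f : K.X i ⟶ T.obj I)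
    (hf : K.d (i - 1) i ≫ f = 0) : ∃ g : K.X (i + 1) ⟶ T.obj I, K.d i (i + 1) ≫ g = f := by
  obtain ⟨m, rfl⟩ : ∃ m, i = m + 1 := ⟨i - 1, by omega⟩
  rw [add_sub_cancel_right] at hf
  have hS := cyclesSC_shortExact K hK m
  have hf' : K.iCycles (m + 1) ≫ f = 0 := by
    have := hS.epi_g
    exact zero_of_epi_comp (K.toCycles m (m + 1)) ((K.toCycles_i_assoc _ _ f).trans hf)
  generalize hi : m + 1 = i at f hf'
  have hS' := cyclesSC_shortExact K hK i
  have := hS'.epi_g
  let f' : K.cycles (i + 1) ⟶ T.obj I := hS'.exact.desc f hf'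
  have hi := adapted_cycles hK b hP (i + 2) I inferInstance 0
  have hS'' := cyclesSC_shortExact K hK (i + 1)
  have hz : hS''.extClass.comp (Ext.mk₀ f') (add_zero 1) = (0 : Ext _ (T.obj I) 1) := by
    have hi' := adapted_cycles hK b hP (i + 1 + 1) I inferInstance 0
    exact Subsingleton.elim _ _
  obtain ⟨g, hg⟩ := Ext.contravariant_sequence_exact₁ hS'' (T.obj I) (Ext.mk₀ f') (by omega : 1 + 0 = 1) hz
  obtain ⟨g, rfl⟩ := (Ext.mk₀_bijective _ _).2 g
  rw [Ext.mk₀_comp_mk₀] at hg
  refine ⟨g, ?_⟩
  rw [← HomologicalComplex.toCycles_i K i (i + 1), Category.assoc, (Ext.mk₀_bijective _ _).1 hg]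
  exact hS'.exact.g_desc f hf'

variable [EnoughInjectives A] {Φ : B ⥤ A} (adj : Φ ⊣ T) [Φ.Additive] [T.Additive]

include adj

/-- The left adjoint keeps bounded above acyclic complexes of adapted objects acyclic. -/
lemma acyclic_map (K : CochainComplex B ℤ) (hK : K.Acyclic) (b : ℤ) [K.IsStrictlyLE b]
    (hP : ∀ i, adapted T (K.X i)) :
    ((Φ.mapHomologicalComplex (ComplexShape.up ℤ)).obj K).Acyclic := fun i => by
  let L := (Φ.mapHomologicalComplex (ComplexShape.up ℤ)).obj K
  rw [HomologicalComplex.exactAt_iff_isZero_homology]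
  let ι := Injective.ι (L.homology i)
  obtain ⟨g, hg⟩ := exists_factor_d (T := T) hK b hP (Injective.under (L.homology i)) i
    (adj.homEquiv _ _ (L.pOpcycles i ≫ Injective.factorThru ι (L.homologyι i))) (by
      rw [← adj.homEquiv_naturality_left]
      have : Φ.map (K.d (i - 1) i) ≫ L.pOpcycles i = 0 := L.d_pOpcycles (i - 1) i
      rw [reassoc_of% this, zero_comp, adj.homEquiv_unit, Functor.map_zero, comp_zero])
  have hι : ι = 0 := by
    rw [← cancel_epi (L.homologyπ i), comp_zero, ← Injective.comp_factorThru ι (L.homologyι i),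
      ← Category.assoc, HomologicalComplex.homology_π_ι, Category.assoc]
    have h' := congrArg (adj.homEquiv _ _).symm hg
    rw [Equiv.symm_apply_apply, adj.homEquiv_naturality_left_symm] at h'
    exact (congrArg (L.iCycles i ≫ ·) h'.symm).trans
      ((L.iCycles_d_assoc i (i + 1) _).trans zero_comp)
  exact IsZero.of_mono_eq_zero ι hι

/-- Maps from such complexes into the image of a K-injective complex are null homotopic. -/
lemma homotopy_zero (K : CochainComplex B ℤ) (hK : K.Acyclic) (b : ℤ) [K.IsStrictlyLE b]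
    (hP : ∀ i, adapted T (K.X i)) (I : CochainComplex A ℤ) [I.IsKInjective]
    (f : K ⟶ (T.mapHomologicalComplex (ComplexShape.up ℤ)).obj I) :
    Nonempty (Homotopy f 0) := by
  let η : K ⟶ (T.mapHomologicalComplex (ComplexShape.up ℤ)).obj
      ((Φ.mapHomologicalComplex (ComplexShape.up ℤ)).obj K) :=
    { f := fun i => adj.unit.app (K.X i)
      comm' := fun i j _ => (adj.unit.naturality (K.d i j)).symm }
  let f' : (Φ.mapHomologicalComplex (ComplexShape.up ℤ)).obj K ⟶ I :=
    { f := fun i => (adj.homEquiv _ _).symm (f.f i)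
      comm' := fun i j _ => by
        refine (adj.homEquiv_naturality_right_symm (f.f i) (I.d i j)).symm.trans ?_
        refine (congrArg (adj.homEquiv _ _).symm (f.comm i j)).trans ?_
        exact adj.homEquiv_naturality_left_symm (K.d i j) (f.f j) }
  obtain ⟨h⟩ : Nonempty (Homotopy f' 0) :=
    ⟨CochainComplex.IsKInjective.homotopyZero f' (acyclic_map adj K hK b hP)⟩
  exact ⟨(Homotopy.ofEq (by
      ext i
      exact ((adj.homEquiv _ _).apply_symm_apply (f.f i)).symm.trans (adj.homEquiv_unit ..))).trans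
    (((T.mapHomotopy h).compLeft η).trans (Homotopy.ofEq (by simp)))⟩

omit adj in
/-- Terms of a mapping cone. -/
noncomputable def coneXIso {K L : CochainComplex B ℤ} (φ : K ⟶ L) (n : ℤ) :
    (CochainComplex.mappingCone φ).X n ≅ K.X (n + 1) ⊞ L.X n where
  hom := biprod.lift ((CochainComplex.mappingCone.fst φ).1.v n (n + 1) rfl)
    ((CochainComplex.mappingCone.snd φ).v n n (add_zero n))
  inv := biprod.desc ((CochainComplex.mappingCone.inl φ).v (n + 1) n (by omega))
    ((CochainComplex.mappingCone.inr φ).f n)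
  hom_inv_id := by simp [biprod.lift_desc, CochainComplex.mappingCone.id_X]
  inv_hom_id := by ext <;> simp

variable [HasDerivedCategory.{w'} B]

omit [HasDerivedCategory.{w'} B] in
lemma quotient_hom_eq_zero (C : CochainComplex B ℤ) (hC : C.Acyclic) (b : ℤ) [C.IsStrictlyLE b]
    (hP : ∀ i, adapted T (C.X i)) (I : CochainComplex A ℤ) [I.IsKInjective] (n : ℤ)
    (g : ((HomotopyCategory.quotient B _).obj C)⟦n⟧ ⟶
      (HomotopyCategory.quotient B _).obj ((T.mapHomologicalComplex (ComplexShape.up ℤ)).obj I)) :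
    g = 0 := by
  let q := HomotopyCategory.quotient B (ComplexShape.up ℤ)
  obtain ⟨h, hh⟩ := q.map_surjective ((q.commShiftIso n).hom.app C ≫ g)
  have : (C⟦n⟧).IsStrictlyLE (b - n) := C.isStrictlyLE_shift b n (b - n) (by omega)
  have hac : (C⟦n⟧).Acyclic :=
    (HomotopyCategory.quotient_obj_mem_subcategoryAcyclic_iff_acyclic _).1
      ((HomotopyCategory.subcategoryAcyclic B).prop_of_iso ((q.commShiftIso n).app C).symm
        ((HomotopyCategory.subcategoryAcyclic B).le_shift n _
          ((HomotopyCategory.quotient_obj_mem_subcategoryAcyclic_iff_acyclic _).2 hC)))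
  obtain ⟨H⟩ := homotopy_zero adj (C⟦n⟧) hac (b - n) (fun i => hP (i + n)) I h
  rw [← cancel_epi ((q.commShiftIso n).hom.app C), ← hh, comp_zero,
    HomotopyCategory.eq_of_homotopy _ _ H]
  exact Functor.map_zero _ _ _

omit [HasDerivedCategory.{w'} B] in
lemma precomp_quasiIso_bijective {M S : CochainComplex B ℤ} (s : M ⟶ S) [QuasiIso s] (b c : ℤ)
    [M.IsStrictlyLE b] [S.IsStrictlyLE c] (hM : ∀ i, adapted T (M.X i))
    (hS : ∀ i, adapted T (S.X i)) (I : CochainComplex A ℤ) [I.IsKInjective] :
    Function.Bijective fun g : (HomotopyCategory.quotient B _).obj S ⟶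
        (HomotopyCategory.quotient B _).obj ((T.mapHomologicalComplex (ComplexShape.up ℤ)).obj I) =>
      (HomotopyCategory.quotient B _).map s ≫ g := by
  let q := HomotopyCategory.quotient B (ComplexShape.up ℤ)
  let N := CochainComplex.mappingCone s
  have hN : N.Acyclic := acyclic_mappingCone_of_quasiIso s
  have hNP : ∀ i, adapted T (N.X i) := fun i =>
    (adapted T).prop_of_iso (coneXIso s i).symm (adapted_biprod _ _ (hM _) (hS _))
  have : N.IsStrictlyLE (max b c) := by
    rw [CochainComplex.isStrictlyLE_iff]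
    intro i hi
    exact IsZero.of_iso ((biprod_isZero_iff _ _).2
      ⟨M.isZero_of_isStrictlyLE b _ (by omega), S.isZero_of_isStrictlyLE c _ (by omega)⟩)
      (coneXIso s i)
  have hΔ := HomotopyCategory.mappingCone_triangleh_distinguished s
  constructor
  · intro g g' h
    obtain ⟨k, hk⟩ := Triangle.yoneda_exact₂ _ hΔ (g - g') (by
      show q.map s ≫ (g - g') = 0
      rw [Preadditive.comp_sub, sub_eq_zero]
      exact h)
    have h0 : (shiftFunctorZero (HomotopyCategory B (ComplexShape.up ℤ)) ℤ).hom.app _ ≫ k = 0 :=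
      quotient_hom_eq_zero adj N hN (max b c) hNP I 0 _
    let i₀ := (shiftFunctorZero (HomotopyCategory B (ComplexShape.up ℤ)) ℤ).app
      ((HomotopyCategory.quotient B _).obj (CochainComplex.mappingCone.triangle s).obj₃)
    have hk0 : k = 0 := by
      refine (Category.id_comp k).symm.trans ?_
      refine (congrArg (· ≫ k) i₀.inv_hom_id.symm).trans ((Category.assoc _ _ _).trans ?_)
      exact (congrArg (i₀.inv ≫ ·) h0).trans comp_zero
    refine sub_eq_zero.1 (hk.trans ?_)
    rw [hk0]
    exact comp_zero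
  · intro f
    obtain ⟨g, hg⟩ := Triangle.yoneda_exact₂ _ (inv_rot_of_distTriang _ hΔ) f
      (quotient_hom_eq_zero adj N hN (max b c) hNP I (-1) _)
    exact ⟨g, hg.symm⟩

/-- Morphisms in the derived category from an adapted complex into the image of a K-injective
complex are homotopy classes. -/
theorem Qh_map_bijective (hP : ∀ X : B, ∃ (Y : B) (π : Y ⟶ X), adapted T Y ∧ Epi π)
    (S : CochainComplex B ℤ) (b : ℤ) [S.IsStrictlyLE b] (hS : ∀ i, adapted T (S.X i))
    (I : CochainComplex A ℤ) [I.IsKInjective] :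
    Function.Bijective (DerivedCategory.Qh.map :
      ((HomotopyCategory.quotient B _).obj S ⟶
        (HomotopyCategory.quotient B _).obj ((T.mapHomologicalComplex (ComplexShape.up ℤ)).obj I)) → _) := by
  let q := HomotopyCategory.quotient B (ComplexShape.up ℤ)
  let TI := (T.mapHomologicalComplex (ComplexShape.up ℤ)).obj I
  let e := DerivedCategory.quotientCompQhIso B
  have refine' : ∀ {Z : CochainComplex B ℤ} (t : Z ⟶ S), QuasiIso t →
      ∃ (M : CochainComplex B ℤ) (w : M ⟶ Z), M.IsStrictlyLE b ∧ (∀ i, adapted T (M.X i)) ∧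
        QuasiIso (w ≫ t) ∧ QuasiIso w := by
    intro Z t ht
    have : Z.IsLE b := (CochainComplex.isLE_iff Z b).2 fun i hi =>
      (quasiIsoAt_iff_exactAt' t i (S.exactAt_of_isLE b i hi)).1 inferInstance
    obtain ⟨M, α, hMb, hMP, -, hα⟩ := TriCat.exists_quasiIso_left_resolution (adapted T)
      ⟨0, isZero_zero B, adapted_of_isZero 0 (isZero_zero B)⟩ hP (Z.truncLE b) b
    exact ⟨M, α ≫ Z.ιTruncLE b, hMb, hMP, inferInstance, inferInstance⟩
  constructor
  · intro g g' hgg
    obtain ⟨x, rfl⟩ := q.map_surjective g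
    obtain ⟨x', rfl⟩ := q.map_surjective g'
    have hQ : DerivedCategory.Q.map (x - x') = 0 := by
      have h1 := e.hom.naturality (x - x')
      rw [Functor.comp_map, Functor.map_sub, Functor.map_sub, hgg, sub_self, zero_comp] at h1
      rw [← cancel_epi (e.hom.app S), comp_zero]
      exact h1.symm
    obtain ⟨Z, t, ht, ⟨H⟩⟩ := TriCat.exists_quasiIso_of_Q_map_eq_zero (x - x') hQ
    obtain ⟨M, w, hMb, hMP, hwt, -⟩ := refine' t ht
    rw [← sub_eq_zero, ← Functor.map_sub]
    refine (precomp_quasiIso_bijective adj (w ≫ t) b b hMP hS I).1 ?_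
    show q.map (w ≫ t) ≫ q.map (x - x') = q.map (w ≫ t) ≫ 0
    rw [comp_zero, q.map_comp, Category.assoc, ← q.map_comp t, HomotopyCategory.eq_of_homotopy _ _ H,
      Functor.map_zero, comp_zero]
  · intro φ
    obtain ⟨Z, t, ht, f, hf⟩ := DerivedCategory.right_fac (e.inv.app S ≫ φ ≫ e.hom.app TI)
    have ht' : QuasiIso t := (DerivedCategory.isIso_Q_map_iff_quasiIso _ _).1 ht
    obtain ⟨M, w, hMb, hMP, hwt, hw⟩ := refine' t ht'
    obtain ⟨g, hg⟩ := (precomp_quasiIso_bijective adj (w ≫ t) b b hMP hS I).2 (q.map (w ≫ f))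
    refine ⟨g, ?_⟩
    obtain ⟨x, rfl⟩ := q.map_surjective g
    have hg' : q.map ((w ≫ t) ≫ x) = q.map (w ≫ f) := (q.map_comp _ _).trans hg
    have hQ : DerivedCategory.Q.map ((w ≫ t) ≫ x) = DerivedCategory.Q.map (w ≫ f) := by
      rw [← cancel_epi (e.hom.app M)]
      refine (e.hom.naturality _).symm.trans (Eq.trans ?_ (e.hom.naturality _))
      rw [Functor.comp_map, Functor.comp_map, hg']
    have : IsIso (DerivedCategory.Q.map (w ≫ t)) := (DerivedCategory.isIso_Q_map_iff_quasiIso _ _).2 hwt
    rw [Functor.map_comp, ← IsIso.eq_inv_comp] at hQ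
    have hx : DerivedCategory.Q.map x = inv (DerivedCategory.Q.map t) ≫ DerivedCategory.Q.map f := by
      rw [hQ, IsIso.inv_comp_eq, Functor.map_comp, Functor.map_comp, Category.assoc,
        IsIso.hom_inv_id_assoc]
    have h1 := e.hom.naturality x
    rw [Functor.comp_map, hx, ← hf, Iso.hom_inv_id_app_assoc] at h1
    exact (cancel_mono (e.hom.app TI)).1 h1

end Groth.Agent.Der55
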