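import Mathlib.Algebra.Homology.HomologySequence
import Mathlib.Algebra.Homology.HomologicalComplexAbelian
import Mathlib.Algebra.Homology.Embedding.CochainComplex
import Mathlib.CategoryTheory.Preadditive.Injective.Basic
import Mathlib.CategoryTheory.Abelian.Refinements
import Mathlib.Algebra.Homology.HomologicalComplexLimits

/-! Cartan–Eilenberg resolutions by iterated "completely monic" embeddings. -/

universe v u

open CategoryTheory Limits ZeroObject

namespace Groth.Agent.Der55.CEres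

open HomologicalComplex

variable {A : Type u} [Category.{v} A] [Abelian A] [EnoughInjectives A]

/-- Descend a map from cycles to homology. -/
noncomputable def descH {Z : A} (L : CochainComplex A ℤ) (q p : ℤ) (hq : q + 1 = p)
    (k : L.cycles p ⟶ Z) (hk : L.toCycles q p ≫ k = 0) : L.homology p ⟶ Z :=
  (L.homologyIsCokernel q p (by simp; omega)).desc (CokernelCofork.ofπ k hk)

omit [EnoughInjectives A] in
@[reassoc (attr := simp)]
lemma π_descH {Z : A} (L : CochainComplex A ℤ) (q p : ℤ) (hq : q + 1 = p)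
    (k : L.cycles p ⟶ Z) (hk : L.toCycles q p ≫ k = 0) :
    L.homologyπ p ≫ descH L q p hq k hk = k :=
  (L.homologyIsCokernel q p (by simp; omega)).fac (CokernelCofork.ofπ k hk) .one

section Embed

variable (K : CochainComplex A ℤ) (n : ℤ)

/-- Injective target for `K.X p`, zero in degrees at most `n`. -/
noncomputable def J (p : ℤ) : A := if p ≤ n then 0 else Injective.under (K.X p)

instance injective_J (p : ℤ) : Injective (J K n p) := by
  unfold J; split <;> infer_instance

lemma J_eq (p : ℤ) (h : ¬ p ≤ n) : Injective.under (K.X p) = J K n p := (if_neg h).symm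

noncomputable def ιJ (p : ℤ) : K.X p ⟶ J K n p :=
  if h : p ≤ n then 0 else Injective.ι (K.X p) ≫ eqToHom (J_eq K n p h)

lemma isZero_J (p : ℤ) (h : p ≤ n) : IsZero (J K n p) := by
  rw [J, if_pos h]; exact isZero_zero A

lemma mono_ιJ (p : ℤ) (h : ¬ p ≤ n) : Mono (ιJ K n p) := by
  rw [ιJ, dif_neg h]; exact mono_comp _ _

/-- Injective target for `K.homology p`, zero in degrees below `n`. -/
noncomputable def G (p : ℤ) : A := if p < n then 0 else Injective.under (K.homology p)

instance injective_G (p : ℤ) : Injective (G K n p) := by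
  unfold G; split <;> infer_instance

lemma isZero_G (p : ℤ) (h : p < n) : IsZero (G K n p) := by
  rw [G, if_pos h]; exact isZero_zero A

lemma G_eq (p : ℤ) (h : ¬ p < n) : Injective.under (K.homology p) = G K n p := (if_neg h).symm

noncomputable def ιG (p : ℤ) : K.homology p ⟶ G K n p :=
  if h : p < n then 0 else Injective.ι (K.homology p) ≫ eqToHom (G_eq K n p h)

lemma mono_ιG [K.IsStrictlyGE n] (p : ℤ) : Mono (ιG K n p) := by
  by_cases h : p < n
  · exact IsZero.mono ((ExactAt.isZero_homology (exactAt_of_isSupported K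
      (ComplexShape.embeddingUpIntGE n) p (fun i hi => by
        simp only [ComplexShape.embeddingUpIntGE_f] at hi; omega)))) _
  · rw [ιG, dif_neg h]; exact mono_comp _ _

noncomputable def gK (p : ℤ) : K.X p ⟶ G K n p :=
  Injective.factorThru (K.homologyπ p ≫ ιG K n p) (K.iCycles p)

lemma iCycles_gK (p : ℤ) : K.iCycles p ≫ gK K n p = K.homologyπ p ≫ ιG K n p :=
  Injective.comp_factorThru _ _

/-- The target. -/
noncomputable def tgt : CochainComplex A ℤ :=
  CochainComplex.of (fun p => (J K n p ⊞ J K n (p + 1)) ⊞ G K n p)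
    (fun p => (biprod.fst ≫ biprod.snd) ≫ (biprod.inl ≫ biprod.inl))
    (fun p => by simp [biprod.inl_snd_assoc])

noncomputable def a (p : ℤ) : J K n p ⟶ (tgt K n).X p :=
  (biprod.inl ≫ biprod.inl : J K n p ⟶ (J K n p ⊞ J K n (p + 1)) ⊞ G K n p)
noncomputable def b (p : ℤ) : J K n (p + 1) ⟶ (tgt K n).X p :=
  (biprod.inr ≫ biprod.inl : J K n (p + 1) ⟶ (J K n p ⊞ J K n (p + 1)) ⊞ G K n p)
noncomputable def g (p : ℤ) : G K n p ⟶ (tgt K n).X p :=
  (biprod.inr : G K n p ⟶ (J K n p ⊞ J K n (p + 1)) ⊞ G K n p)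
noncomputable def a' (p : ℤ) : (tgt K n).X p ⟶ J K n p :=
  (biprod.fst ≫ biprod.fst : (J K n p ⊞ J K n (p + 1)) ⊞ G K n p ⟶ J K n p)
noncomputable def b' (p : ℤ) : (tgt K n).X p ⟶ J K n (p + 1) :=
  (biprod.fst ≫ biprod.snd : (J K n p ⊞ J K n (p + 1)) ⊞ G K n p ⟶ J K n (p + 1))
noncomputable def g' (p : ℤ) : (tgt K n).X p ⟶ G K n p :=
  (biprod.snd : (J K n p ⊞ J K n (p + 1)) ⊞ G K n p ⟶ G K n p)

@[reassoc (attr := simp)] lemma a_a' (p : ℤ) : a K n p ≫ a' K n p = 𝟙 _ := by
  change (biprod.inl ≫ biprod.inl) ≫ biprod.fst ≫ biprod.fst = 𝟙 (J K n p); simp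
@[reassoc (attr := simp)] lemma a_b' (p : ℤ) : a K n p ≫ b' K n p = 0 := by
  change (biprod.inl ≫ biprod.inl : J K n p ⟶ _) ≫ biprod.fst ≫ biprod.snd = 0; simp
@[reassoc (attr := simp)] lemma a_g' (p : ℤ) : a K n p ≫ g' K n p = 0 := by
  change (biprod.inl ≫ biprod.inl : J K n p ⟶ _) ≫ biprod.snd = 0; simp
@[reassoc (attr := simp)] lemma b_a' (p : ℤ) : b K n p ≫ a' K n p = 0 := by
  change (biprod.inr ≫ biprod.inl : J K n (p + 1) ⟶ _) ≫ biprod.fst ≫ biprod.fst = 0; simp
@[reassoc (attr := simp)] lemma b_b' (p : ℤ) : b K n p ≫ b' K n p = 𝟙 _ := by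
  change (biprod.inr ≫ biprod.inl) ≫ biprod.fst ≫ biprod.snd = 𝟙 (J K n (p + 1)); simp
@[reassoc (attr := simp)] lemma b_g' (p : ℤ) : b K n p ≫ g' K n p = 0 := by
  change (biprod.inr ≫ biprod.inl : J K n (p + 1) ⟶ _) ≫ biprod.snd = 0; simp
@[reassoc (attr := simp)] lemma g_a' (p : ℤ) : g K n p ≫ a' K n p = 0 := by
  change (biprod.inr : G K n p ⟶ _) ≫ biprod.fst ≫ biprod.fst = 0; simp
@[reassoc (attr := simp)] lemma g_b' (p : ℤ) : g K n p ≫ b' K n p = 0 := by
  change (biprod.inr : G K n p ⟶ _) ≫ biprod.fst ≫ biprod.snd = 0; simp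
@[reassoc (attr := simp)] lemma g_g' (p : ℤ) : g K n p ≫ g' K n p = 𝟙 _ := by
  change biprod.inr ≫ biprod.snd = 𝟙 (G K n p); simp

omit [EnoughInjectives A] in
lemma sum_proj {X₁ X₂ X₃ : A} : (biprod.fst ≫ biprod.fst) ≫ (biprod.inl ≫ biprod.inl) +
    (biprod.fst ≫ biprod.snd) ≫ (biprod.inr ≫ biprod.inl) + biprod.snd ≫ biprod.inr =
      𝟙 ((X₁ ⊞ X₂) ⊞ X₃) := by
  ext <;> simp

lemma sum_eq (p : ℤ) : a' K n p ≫ a K n p + b' K n p ≫ b K n p + g' K n p ≫ g K n p = 𝟙 _ :=
  sum_proj

@[simp] lemma tgt_d (p : ℤ) : (tgt K n).d p (p + 1) = b' K n p ≫ a K n (p + 1) :=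
  CochainComplex.of_d (fun p => (J K n p ⊞ J K n (p + 1)) ⊞ G K n p)
    (fun p => (biprod.fst ≫ biprod.snd) ≫ (biprod.inl ≫ biprod.inl)) p

noncomputable def emb : K ⟶ tgt K n where
  f p := ιJ K n p ≫ a K n p + (K.d p (p + 1) ≫ ιJ K n (p + 1)) ≫ b K n p + gK K n p ≫ g K n p
  comm' i j hij := by
    obtain rfl : i + 1 = j := hij
    have h0 : K.d i (i + 1) ≫ gK K n (i + 1) = 0 := by
      rw [← K.toCycles_i i (i + 1), Category.assoc, iCycles_gK, ← Category.assoc,
        toCycles_comp_homologyπ, zero_comp]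
    simp [Preadditive.add_comp, Preadditive.comp_add, reassoc_of% h0]

lemma emb_a' (p : ℤ) : (emb K n).f p ≫ a' K n p = ιJ K n p := by
  simp [emb]

lemma emb_b' (p : ℤ) : (emb K n).f p ≫ b' K n p = K.d p (p + 1) ≫ ιJ K n (p + 1) := by
  simp [emb]

lemma emb_g' (p : ℤ) : (emb K n).f p ≫ g' K n p = gK K n p := by
  simp [emb]

lemma isZero_tgt (p : ℤ) (h : p < n) : IsZero ((tgt K n).X p) :=
  (biprod_isZero_iff _ _).2 ⟨(biprod_isZero_iff _ _).2
    ⟨isZero_J K n p (by omega), isZero_J K n (p + 1) (by omega)⟩, isZero_G K n p h⟩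

variable [K.IsStrictlyGE n]

lemma mono_emb_f (p : ℤ) : Mono ((emb K n).f p) := by
  refine Preadditive.mono_of_cancel_zero _ fun {T} k hk => ?_
  have ha : k ≫ ιJ K n p = 0 := by rw [← emb_a', reassoc_of% hk, zero_comp]
  by_cases hp : p ≤ n
  · have hb : k ≫ K.d p (p + 1) = 0 := by
      have h0 : (k ≫ K.d p (p + 1)) ≫ ιJ K n (p + 1) = 0 := by
        rw [Category.assoc, ← emb_b', reassoc_of% hk, zero_comp]
      by_cases hp' : p + 1 ≤ n
      · exact (K.isZero_of_isStrictlyGE n p (by omega)).eq_of_tgt k 0 ▸ zero_comp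
      · have := mono_ιJ K n (p + 1) hp'
        rw [← cancel_mono (ιJ K n (p + 1)), h0, zero_comp]
    have hg : k ≫ gK K n p = 0 := by rw [← emb_g', reassoc_of% hk, zero_comp]
    obtain ⟨z, rfl⟩ : ∃ z, z ≫ K.iCycles p = k :=
      ⟨K.liftCycles k (p + 1) (by simp) hb, K.liftCycles_i _ _ _ _⟩
    rw [Category.assoc, iCycles_gK, ← Category.assoc] at hg
    have := mono_ιG K n p
    rw [← zero_comp (f := ιG K n p), cancel_mono] at hg
    have : IsIso (K.homologyπ p) := K.isIso_homologyπ (p - 1) p (by simp)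
      ((K.isZero_of_isStrictlyGE n (p - 1) (by omega)).eq_of_src _ _)
    rw [← zero_comp (f := K.homologyπ p), cancel_mono] at hg
    rw [hg, zero_comp]
  · have := mono_ιJ K n p hp
    rwa [← cancel_mono (ιJ K n p), zero_comp]

lemma mono_homologyMap_emb (p : ℤ) : Mono (homologyMap (emb K n) p) := by
  let θ : (tgt K n).homology p ⟶ G K n p :=
    descH (tgt K n) (p - 1) p (by omega) ((tgt K n).iCycles p ≫ g' K n p) (by
      rw [toCycles_i_assoc]
      obtain ⟨q, rfl⟩ : ∃ q, p = q + 1 := ⟨p - 1, by omega⟩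
      rw [add_sub_cancel_right, tgt_d, Category.assoc]
      simp)
  have h : homologyMap (emb K n) p ≫ θ = ιG K n p := by
    rw [← cancel_epi (K.homologyπ p), homologyπ_naturality_assoc]
    simp only [θ, π_descH, cyclesMap_i_assoc, emb_g', iCycles_gK]
  have := mono_ιG K n p
  exact mono_of_mono_fac h

omit [K.IsStrictlyGE n] in
instance injective_tgt_X (p : ℤ) : Injective ((tgt K n).X p) :=
  inferInstanceAs (Injective ((J K n p ⊞ J K n (p + 1)) ⊞ G K n p))

omit [K.IsStrictlyGE n] in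
lemma a_g_d (p : ℤ) :
    (a' K n p ≫ a K n p + g' K n p ≫ g K n p) ≫ (tgt K n).d p (p + 1) = 0 := by
  rw [tgt_d]
  simp

omit [EnoughInjectives A] in
lemma injective_of_retract {X Y : A} [Injective Y] (i : X ⟶ Y) (r : Y ⟶ X) (h : i ≫ r = 𝟙 X) :
    Injective X :=
  ⟨fun {U V} φ f hf => ⟨Injective.factorThru (φ ≫ i) f ≫ r,
    by rw [Injective.comp_factorThru_assoc, Category.assoc, h, Category.comp_id]⟩⟩

omit [K.IsStrictlyGE n] in
lemma iCycles_proj (p : ℤ) :
    (tgt K n).iCycles p ≫ (a' K n p ≫ a K n p + g' K n p ≫ g K n p) = (tgt K n).iCycles p := by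
  have h : (tgt K n).iCycles p ≫ b' K n p = 0 := by
    have h0 := (tgt K n).iCycles_d p (p + 1)
    rw [tgt_d] at h0
    have := h0 =≫ a' K n (p + 1)
    simpa using this
  conv_rhs => rw [← Category.comp_id ((tgt K n).iCycles p),
    ← sum_eq K n p]
  simp only [Preadditive.comp_add, reassoc_of% h, zero_comp, add_zero]

omit [K.IsStrictlyGE n] in
lemma injective_tgt_cycles (p : ℤ) : Injective ((tgt K n).cycles p) :=
  injective_of_retract ((tgt K n).iCycles p)
    ((tgt K n).liftCycles (a' K n p ≫ a K n p + g' K n p ≫ g K n p) (p + 1) (by simp) (a_g_d K n p))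
    (by rw [← cancel_mono ((tgt K n).iCycles p), Category.assoc, liftCycles_i, iCycles_proj,
      Category.id_comp])

omit [K.IsStrictlyGE n] in
lemma injective_tgt_homology (p : ℤ) : Injective ((tgt K n).homology p) := by
  obtain ⟨q, rfl⟩ : ∃ q, p = q + 1 := ⟨p - 1, by omega⟩
  let θ : (tgt K n).homology (q + 1) ⟶ G K n (q + 1) :=
    descH (tgt K n) q (q + 1) rfl ((tgt K n).iCycles (q + 1) ≫ g' K n (q + 1)) (by
      rw [toCycles_i_assoc, tgt_d, Category.assoc]
      simp)
  let s : G K n (q + 1) ⟶ (tgt K n).cycles (q + 1) :=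
    (tgt K n).liftCycles (g K n (q + 1)) (q + 1 + 1) (by simp) (by
      simp)
  refine injective_of_retract θ (s ≫ (tgt K n).homologyπ (q + 1)) ?_
  rw [← cancel_epi ((tgt K n).homologyπ (q + 1)), Category.comp_id]
  let t : (tgt K n).cycles (q + 1) ⟶ (tgt K n).X q :=
    (tgt K n).iCycles (q + 1) ≫ a' K n (q + 1) ≫ b K n q
  have key : (tgt K n).iCycles (q + 1) ≫ g' K n (q + 1) ≫ s = 𝟙 _ - t ≫ (tgt K n).toCycles q (q + 1) := by
    rw [← cancel_mono ((tgt K n).iCycles (q + 1))]
    simp only [Category.assoc, s, liftCycles_i, Preadditive.sub_comp, t, toCycles_i, tgt_d,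
      Category.id_comp]
    conv_rhs => rw [← iCycles_proj]
    simp [Preadditive.comp_add]
  simp only [θ, π_descH_assoc, Category.assoc]
  rw [reassoc_of% key]
  simp

end Embed

structure Obj (n : ℤ) where
  C : CochainComplex A ℤ
  isGE : C.IsStrictlyGE n

variable {n : ℤ}

noncomputable abbrev Obj.I (S : Obj (A := A) n) : CochainComplex A ℤ := tgt S.C n

noncomputable abbrev Obj.ε (S : Obj (A := A) n) : S.C ⟶ S.I := emb S.C n

noncomputable def Obj.next (S : Obj (A := A) n) : Obj (A := A) n where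
  C := cokernel S.ε
  isGE := by
    rw [CochainComplex.isStrictlyGE_iff]
    intro i hi
    exact IsZero.of_epi ((cokernel.π S.ε).f i) (isZero_tgt S.C n i hi)

lemma Obj.mono_ε (S : Obj (A := A) n) : Mono S.ε := by
  have := S.isGE
  exact mono_of_mono_f _ (mono_emb_f S.C n)

/-- The short exact sequence of one step. -/
noncomputable def Obj.seq (S : Obj (A := A) n) : ShortComplex (CochainComplex A ℤ) :=
  ShortComplex.mk S.ε (cokernel.π S.ε) (cokernel.condition _)

lemma Obj.seq_shortExact (S : Obj (A := A) n) : S.seq.ShortExact :=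
  have := S.mono_ε
  { exact := ShortComplex.exact_cokernel _
    mono_f := inferInstanceAs (Mono S.ε)
    epi_g := inferInstanceAs (Epi (cokernel.π S.ε)) }

lemma Obj.eval_shortExact (S : Obj (A := A) n) (p : ℤ) :
    (S.seq.map (eval A (ComplexShape.up ℤ) p)).ShortExact :=
  S.seq_shortExact.map_of_exact _

omit [EnoughInjectives A] in
lemma homology_shortExact_of_mono {K I C : CochainComplex A ℤ} {f : K ⟶ I} {g : I ⟶ C} {w : f ≫ g = 0}
    (hS : (ShortComplex.mk f g w).ShortExact) (hH : ∀ p, Mono (homologyMap f p)) (p : ℤ) :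
    ((ShortComplex.mk f g w).map (homologyFunctor A (ComplexShape.up ℤ) p)).ShortExact where
  exact := hS.homology_exact₂ p
  mono_f := hH p
  epi_g := by
    refine (hS.homology_exact₃ p (p + 1) (by simp)).epi_f ?_
    have : Mono (homologyMap (ShortComplex.mk f g w).f (p + 1)) := hH (p + 1)
    change hS.δ p (p + 1) (by simp) = 0
    rw [← cancel_mono (homologyMap (ShortComplex.mk f g w).f (p + 1)), zero_comp]
    exact hS.δ_comp p (p + 1) (by simp)

omit [EnoughInjectives A] in
lemma cycles_shortExact_of_mono {K I C : CochainComplex A ℤ} {f : K ⟶ I} {g : I ⟶ C} {w : f ≫ g = 0}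
    (hS : (ShortComplex.mk f g w).ShortExact) (hH : ∀ p, Mono (homologyMap f p)) (p : ℤ) :
    ((ShortComplex.mk f g w).map (cyclesFunctor A (ComplexShape.up ℤ) p)).ShortExact := by
  have he := fun i => hS.map_of_exact (eval A (ComplexShape.up ℤ) i)
  have hmf : ∀ i, Mono (f.f i) := fun i => (he i).mono_f
  have hge : ∀ i, Epi (g.f i) := fun i => (he i).epi_g
  have hf : Mono (cyclesMap f p) := mono_of_mono_fac (cyclesMap_i f p)
  refine ShortComplex.ShortExact.mk' ?_ hf ?_
  · rw [ShortComplex.exact_iff_exact_up_to_refinements]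
    intro T (z : T ⟶ I.cycles p) (hz : z ≫ cyclesMap g p = 0)
    have hz' : (z ≫ I.iCycles p) ≫ g.f p = 0 := by
      have := hz =≫ C.iCycles p
      simpa using this
    obtain ⟨T', π, hπ, x, hx⟩ := (he p).exact.exact_up_to_refinements (z ≫ I.iCycles p) hz'
    obtain ⟨x', rfl⟩ : ∃ x' : T' ⟶ K.X p, x' = x := ⟨x, rfl⟩
    replace hx : π ≫ z ≫ I.iCycles p = x' ≫ f.f p := hx
    have hxd : x' ≫ K.d p (p + 1) = 0 := by
      have := hmf (p + 1)
      rw [← cancel_mono (f.f (p + 1)), Category.assoc, ← f.comm, ← reassoc_of% hx]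
      simp
    refine ⟨T', π, hπ, K.liftCycles x' (p + 1) (by simp) hxd, ?_⟩
    have e : π ≫ z = K.liftCycles x' (p + 1) (by simp) hxd ≫ cyclesMap f p := by
      rw [← cancel_mono (I.iCycles p), Category.assoc, hx, Category.assoc, cyclesMap_i,
        liftCycles_i_assoc]
    exact e
  · rw [epi_iff_surjective_up_to_refinements]
    intro T (z : T ⟶ C.cycles p)
    change ∃ (T' : A) (π : T' ⟶ T) (_ : Epi π) (y : T' ⟶ I.cycles p),
      π ≫ z = y ≫ cyclesMap g p
    have hH : Epi (homologyMap g p) := (homology_shortExact_of_mono hS hH p).epi_g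
    obtain ⟨T₁, π₁, hπ₁, h, hh⟩ :=
      surjective_up_to_refinements_of_epi (homologyMap g p) (z ≫ C.homologyπ p)
    obtain ⟨T₂, π₂, hπ₂, y, hy⟩ := surjective_up_to_refinements_of_epi (I.homologyπ p) h
    have h0 : ((π₂ ≫ π₁) ≫ z - y ≫ cyclesMap g p) ≫ C.homologyπ p = 0 := by
      simp only [Preadditive.sub_comp, Category.assoc, ← homologyπ_naturality, ← reassoc_of% hy, ← hh]
      exact sub_self _
    obtain ⟨T₃, π₃, hπ₃, w₃, hw⟩ :=
      ((ShortComplex.mk _ _ (C.toCycles_comp_homologyπ (p - 1) p)).exact_of_g_is_cokernel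
        (C.homologyIsCokernel (p - 1) p (by simp))).exact_up_to_refinements _ h0
    obtain ⟨T₄, π₄, hπ₄, w', hw'⟩ := surjective_up_to_refinements_of_epi (g.f (p - 1))
      (w₃ : T₃ ⟶ C.X (p - 1))
    refine ⟨T₄, π₄ ≫ π₃ ≫ π₂ ≫ π₁, inferInstance,
      π₄ ≫ π₃ ≫ y + w' ≫ I.toCycles (p - 1) p, ?_⟩
    replace hw : π₃ ≫ ((π₂ ≫ π₁) ≫ z - y ≫ cyclesMap g p) = w₃ ≫ C.toCycles (p - 1) p := hw
    have e : I.toCycles (p - 1) p ≫ cyclesMap g p = g.f (p - 1) ≫ C.toCycles (p - 1) p := by
      rw [← cancel_mono (C.iCycles p)]; simp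
    simp only [Preadditive.add_comp, Category.assoc]
    rw [e, ← reassoc_of% hw', ← hw]
    simp only [Preadditive.comp_sub, Category.assoc]
    abel

lemma Obj.homology_shortExact (S : Obj (A := A) n) (p : ℤ) :
    (S.seq.map (homologyFunctor A (ComplexShape.up ℤ) p)).ShortExact :=
  homology_shortExact_of_mono S.seq_shortExact
    (fun q => by have := S.isGE; exact mono_homologyMap_emb S.C n q) p

lemma Obj.cycles_shortExact (S : Obj (A := A) n) (p : ℤ) :
    (S.seq.map (cyclesFunctor A (ComplexShape.up ℤ) p)).ShortExact :=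
  cycles_shortExact_of_mono S.seq_shortExact
    (fun q => by have := S.isGE; exact mono_homologyMap_emb S.C n q) p

variable (K : CochainComplex A ℤ) [hK : K.IsStrictlyGE n]

variable (n) in
noncomputable def seqObj : ℕ → Obj (A := A) n
  | 0 => ⟨K, hK⟩
  | k + 1 => (seqObj k).next

variable (n) in
noncomputable def X : ℤ → CochainComplex A ℤ
  | Int.ofNat k => (seqObj n K k).I
  | Int.negSucc _ => 0

variable (n) in
noncomputable def proj (k : ℕ) : (seqObj n K k).I ⟶ (seqObj n K (k + 1)).C :=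
  cokernel.π (seqObj n K k).ε

variable (n) in
@[reassoc]
lemma ε_proj (k : ℕ) : (seqObj n K k).ε ≫ proj n K k = 0 := cokernel.condition _

variable (n) in
noncomputable def δ (k : ℕ) : (seqObj n K k).I ⟶ (seqObj n K (k + 1)).I :=
  proj n K k ≫ (seqObj n K (k + 1)).ε

variable (n) in
lemma δ_δ (k : ℕ) : δ n K k ≫ δ n K (k + 1) = 0 := by
  rw [δ, δ, Category.assoc, ε_proj_assoc, zero_comp, comp_zero]

variable (n) in
noncomputable def dX : ∀ q : ℤ, X n K q ⟶ X n K (q + 1)
  | Int.ofNat k => δ n K k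
  | Int.negSucc _ => 0

variable (n) in
noncomputable def res : CochainComplex (CochainComplex A ℤ) ℤ :=
  CochainComplex.of (X n K) (dX n K) (fun q => match q with
    | Int.ofNat k => δ_δ n K k
    | Int.negSucc _ => zero_comp)

variable (n) in
noncomputable def aug : K ⟶ (res n K).X 0 := (seqObj n K 0).ε

variable (n) in
lemma res_d (k : ℕ) : (res n K).d (k : ℤ) ((k : ℤ) + 1) = δ n K k :=
  CochainComplex.of_d (X n K) (dX n K) (k : ℤ)

variable (n) in
lemma aug_d : aug n K ≫ (res n K).d 0 1 = 0 :=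
  (congrArg (aug n K ≫ ·) (res_d n K 0)).trans ((ε_proj_assoc n K 0 _).trans zero_comp)

variable (n) in
lemma isZero_X (p q : ℤ) (hp : p < n) : IsZero (((res n K).X q).X p) := by
  rcases q with k | k
  · exact isZero_tgt _ n p hp
  · exact (eval A (ComplexShape.up ℤ) p).map_isZero (isZero_zero _)

variable (n) in
lemma isInjResolutionVia (F : CochainComplex A ℤ ⥤ A) [F.PreservesZeroMorphisms]
    (hF : ∀ S : Obj (A := A) n, (S.seq.map F).ShortExact)
    (hI : ∀ S : Obj (A := A) n, Injective (F.obj S.I)) :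
    ∃ h : F.map (aug n K) ≫ ((F.mapHomologicalComplex (ComplexShape.up ℤ)).obj (res n K)).d 0 1 = 0,
      CochainComplex.IsStrictlyGE ((F.mapHomologicalComplex (ComplexShape.up ℤ)).obj (res n K)) 0 ∧
      (∀ q : ℤ, Injective (((F.mapHomologicalComplex (ComplexShape.up ℤ)).obj (res n K)).X q)) ∧
      (∀ q : ℤ, q ≠ 0 → ((F.mapHomologicalComplex (ComplexShape.up ℤ)).obj (res n K)).ExactAt q) ∧
      Mono (F.map (aug n K)) ∧
      (ShortComplex.mk (F.map (aug n K))
        (((F.mapHomologicalComplex (ComplexShape.up ℤ)).obj (res n K)).d 0 1) h).Exact := by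
  have hm : ∀ S : Obj (A := A) n, Mono (F.map S.ε) := fun S => (hF S).mono_f
  have he : ∀ k, Epi (F.map (proj n K k)) := fun k => (hF (seqObj n K k)).epi_g
  have hex : ∀ k, (ShortComplex.mk (F.map (seqObj n K k).ε) (F.map (proj n K k))
      (by rw [← F.map_comp, ε_proj, F.map_zero])).Exact := fun k => (hF (seqObj n K k)).exact
  have hneg : ∀ q : ℤ, q < 0 →
      IsZero (((F.mapHomologicalComplex (ComplexShape.up ℤ)).obj (res n K)).X q) := by
    rintro (k | k) hk
    · simp at hk; omega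
    · exact F.map_isZero (isZero_zero _)
  refine ⟨?_, ?_, ?_, ?_, hm _, ?_⟩
  · change F.map (aug n K) ≫ F.map ((res n K).d 0 1) = 0
    rw [← F.map_comp, aug_d, F.map_zero]
  · rw [CochainComplex.isStrictlyGE_iff]
    exact fun i hi => hneg i hi
  · intro q
    rcases q with k | k
    · exact hI _
    · have hz : IsZero (F.obj (0 : CochainComplex A ℤ)) := F.map_isZero (isZero_zero _)
      exact hz.injective
  · intro q hq
    rw [exactAt_iff' _ (q - 1) q (q + 1) (by simp) (by simp)]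
    rcases lt_or_gt_of_ne hq with h | h
    · exact ShortComplex.exact_of_isZero_X₂ _ (hneg q h)
    · obtain ⟨k, rfl⟩ : ∃ k : ℕ, q = (k : ℤ) + 1 := ⟨(q - 1).toNat, by omega⟩
      let S₁ : ShortComplex A := ShortComplex.mk (F.map (δ n K k)) (F.map (δ n K (k + 1)))
        (by rw [← F.map_comp, δ_δ, F.map_zero])
      have h₁ : S₁.Exact := by
        let T₁ : ShortComplex A := ShortComplex.mk (F.map (δ n K k))
          (F.map (proj n K (k + 1))) (by
            rw [← F.map_comp, δ, Category.assoc, ε_proj, comp_zero, F.map_zero])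
        let φ₁ : T₁ ⟶ ShortComplex.mk (F.map (seqObj n K (k + 1)).ε) (F.map (proj n K (k + 1)))
            (by rw [← F.map_comp, ε_proj, F.map_zero]) :=
          { τ₁ := F.map (proj n K k), τ₂ := 𝟙 _, τ₃ := 𝟙 _
            comm₁₂ := ((Category.comp_id _).trans (F.map_comp _ _)).symm
            comm₂₃ := (Category.id_comp _).trans (Category.comp_id _).symm }
        have : Epi φ₁.τ₁ := he _
        have : IsIso φ₁.τ₂ := inferInstanceAs (IsIso (𝟙 _))
        have : Mono φ₁.τ₃ := inferInstanceAs (Mono (𝟙 _))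
        have hT : T₁.Exact :=
          (ShortComplex.exact_iff_of_epi_of_isIso_of_mono φ₁).2 (hex _)
        let φ₂ : T₁ ⟶ S₁ :=
          { τ₁ := 𝟙 _, τ₂ := 𝟙 _, τ₃ := F.map (seqObj n K (k + 2)).ε
            comm₁₂ := (Category.id_comp _).trans (Category.comp_id _).symm
            comm₂₃ := (Category.id_comp _).trans (F.map_comp _ _) }
        have : Epi φ₂.τ₁ := inferInstanceAs (Epi (𝟙 _))
        have : IsIso φ₂.τ₂ := inferInstanceAs (IsIso (𝟙 _))
        have : Mono φ₂.τ₃ := hm _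
        exact (ShortComplex.exact_iff_of_epi_of_isIso_of_mono φ₂).1 hT
      have e : ∀ i j l : ℤ, i = k → j = ((k + 1 : ℕ) : ℤ) → l = ((k + 1 : ℕ) : ℤ) + 1 →
          ((((F.mapHomologicalComplex (ComplexShape.up ℤ)).obj (res n K)).sc' i j l).Exact) := by
        rintro i j l rfl rfl rfl
        let C' := (F.mapHomologicalComplex (ComplexShape.up ℤ)).obj (res n K)
        let ι : S₁ ≅ C'.sc' (k : ℤ) ((k + 1 : ℕ) : ℤ) (((k + 1 : ℕ) : ℤ) + 1) :=
          ShortComplex.isoMk (Iso.refl _) (Iso.refl _) (Iso.refl _)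
            ((Category.id_comp _).trans ((congrArg F.map (res_d n K k)).trans (Category.comp_id _).symm))
            ((Category.id_comp _).trans ((congrArg F.map (res_d n K (k + 1))).trans (Category.comp_id _).symm))
        exact ShortComplex.exact_of_iso ι h₁
      exact e _ _ _ (by omega) (by omega) (by omega)
  · let φ : ShortComplex.mk (F.map (seqObj n K 0).ε) (F.map (proj n K 0))
          (by rw [← F.map_comp, ε_proj, F.map_zero]) ⟶ ShortComplex.mk (F.map (aug n K))
        (F.map ((res n K).d 0 1)) (by rw [← F.map_comp, aug_d, F.map_zero]) :=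
      { τ₁ := 𝟙 _, τ₂ := 𝟙 _, τ₃ := F.map (seqObj n K 1).ε
        comm₁₂ := (Category.id_comp _).trans (Category.comp_id _).symm
        comm₂₃ := by
          refine (Category.id_comp _).trans ?_
          exact (congrArg F.map (res_d n K 0)).trans (F.map_comp _ _) }
    have : Epi φ.τ₁ := inferInstanceAs (Epi (𝟙 _))
    have : IsIso φ.τ₂ := inferInstanceAs (IsIso (𝟙 _))
    have : Mono φ.τ₃ := hm _
    exact (ShortComplex.exact_iff_of_epi_of_isIso_of_mono φ).1 (hex _)

end Groth.Agent.Der55.CEres
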