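import Groth.Agent.Der55.QcSections
import Groth.Agent.TriCat.Compact
import Groth.Agent.TriCat.DerivedCoproducts
import Groth.Agent.H9Misc.BrownGroth
import Groth.Prelude.Def_CohSite
import Mathlib.CategoryTheory.Sites.EpiMono
import Mathlib.Algebra.Homology.DerivedCategory.KProjective

/-! Projectivity and compactness of `j_{U!}O_U`. -/

universe v u

open CategoryTheory Limits Opposite

namespace Groth.Agent.Der55

open ModTensor ModPull

/-- A projective object, finitely supported into direct sums, is compact in the derived category. -/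
lemma isCompactObject_single {A : Type u} [Category.{v} A] [Abelian A] [IsGrothendieckAbelian.{v} A]
    [HasCoproducts.{v} A] [HasDerivedCategory.{v} A] [HasCoproducts.{v} (DerivedCategory A)]
    (P : A) [Projective P] (hP : ∀ (κ : Type v) (F : κ → A) (g : P ⟶ ∐ F), TriCat.FinFactor g) :
    CohDer.IsCompactObject ((DerivedCategory.singleFunctor A 0).obj P) := by
  classical
  rw [TriCat.isCompactObject_iff]
  intro ι X f
  let Q := DerivedCategory.Q (C := A)
  let K := fun i => Q.objPreimage (X i)
  let eX := fun i => Q.objObjPreimageIso (X i)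
  let S : CochainComplex A ℤ := (HomologicalComplex.single A (ComplexShape.up ℤ) 0).obj P
  have := H9Misc.BrownGroth.preservesColimit_Q (A := A) K
  let σ : (∐ fun i => Q.obj (K i)) ⟶ Q.obj (∐ K) := sigmaComparison Q K
  have : IsIso σ := inferInstanceAs (IsIso (sigmaComparison Q K))
  let u : (∐ X) ⟶ Q.obj (∐ K) := Limits.Sigma.map (fun i => (eX i).inv) ≫ σ
  let f' : Q.obj S ⟶ Q.obj (∐ K) := f ≫ u
  have : ∀ n, Projective (S.X n) := fun n => by
    by_cases h : n = 0
    · subst h
      exact Projective.of_iso (HomologicalComplex.singleObjXSelf (ComplexShape.up ℤ) 0 P).symm inferInstance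
    · exact Projective.of_iso (HomologicalComplex.isZero_single_obj_X (ComplexShape.up ℤ) 0 P n h).isoZero.symm inferInstance
  have : S.IsStrictlyLE 0 := (CochainComplex.isStrictlyLE_iff _ _).2 fun n hn =>
    HomologicalComplex.isZero_single_obj_X (ComplexShape.up ℤ) 0 P n (by omega)
  have : S.IsKProjective := CochainComplex.isKProjective_of_projective S 0
  obtain ⟨gh, hgh⟩ := (CochainComplex.IsKProjective.Qh_map_bijective S
    ((HomotopyCategory.quotient _ _).obj (∐ K))).2
      ((DerivedCategory.quotientCompQhIso A).hom.app S ≫ f' ≫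
        (DerivedCategory.quotientCompQhIso A).inv.app (∐ K))
  obtain ⟨g, rfl⟩ := (HomotopyCategory.quotient _ _).map_surjective gh
  have hQg : Q.map g = f' := by
    have h := (DerivedCategory.quotientCompQhIso A).hom.naturality g
    rw [Functor.comp_map, hgh, Category.assoc, Category.assoc, Iso.inv_hom_id_app,
      cancel_epi] at h
    exact h.symm.trans (Category.comp_id _)
  let E := HomologicalComplex.eval A (ComplexShape.up ℤ) 0
  have : HasColimitsOfShape (Discrete ι) A := inferInstance
  have : PreservesColimitsOfShape (Discrete ι) E := inferInstanceAs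
    (PreservesColimitsOfShape (Discrete ι) (HomologicalComplex.eval A (ComplexShape.up ℤ) 0))
  let ee : E.obj (∐ K) ≅ ∐ fun i => E.obj (K i) := PreservesCoproduct.iso E K
  have hee : ∀ i, Sigma.ι (fun i => E.obj (K i)) i ≫ ee.inv = E.map (Sigma.ι K i) := fun i => by
    rw [show ee.inv = sigmaComparison E K from PreservesCoproduct.inv_hom E K]
    exact ι_comp_sigmaComparison E K i
  let g0 : P ⟶ E.obj (∐ K) := (HomologicalComplex.singleObjXSelf (ComplexShape.up ℤ) 0 P).inv ≫ g.f 0
  obtain ⟨T, a, ha⟩ := hP ι (fun i => E.obj (K i)) (g0 ≫ ee.hom)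
  let pT : (∐ K) ⟶ ∐ K := ∑ i ∈ T, TriCat.coprodProj K i ≫ Sigma.ι K i
  have hg0 : g0 = ∑ i ∈ T, a i ≫ E.map (Sigma.ι K i) := by
    rw [← Category.comp_id g0, ← ee.hom_inv_id, ← Category.assoc, ha, Preadditive.sum_comp]
    exact Finset.sum_congr rfl fun i _ => by rw [Category.assoc, hee]
  have hpT : ∀ i ∈ T, Sigma.ι K i ≫ pT = Sigma.ι K i := fun i hi => by
    rw [Preadditive.comp_sum, Finset.sum_eq_single i (fun j _ hij => by
        rw [TriCat.ι_coprodProj_ne_assoc (Ne.symm hij), zero_comp])
      (fun hn => absurd hi hn), TriCat.ι_coprodProj_self_assoc]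
  have hg0' : g0 ≫ E.map pT = g0 := by
    rw [hg0, Preadditive.sum_comp]
    exact Finset.sum_congr rfl fun i hi => by rw [Category.assoc, ← E.map_comp, hpT i hi]
  have hg : g ≫ pT = g :=
    HomologicalComplex.from_single_hom_ext
      ((cancel_epi (HomologicalComplex.singleObjXSelf (ComplexShape.up ℤ) 0 P).inv).1
        ((Category.assoc _ _ _).symm.trans hg0'))
  refine ⟨T, fun i => Q.map (g ≫ TriCat.coprodProj K i) ≫ (eX i).hom, ?_⟩
  have hu : ∀ i, Sigma.ι X i ≫ u = (eX i).inv ≫ Q.map (Sigma.ι K i) := fun i => by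
    simp [u, σ]
    exact ι_comp_sigmaComparison Q K i
  have : IsIso u := inferInstanceAs (IsIso (Limits.Sigma.map (fun i => (eX i).inv) ≫ σ))
  rw [← cancel_mono u]
  refine (show f ≫ u = Q.map g from hQg.symm).trans ?_
  conv_lhs => rw [← hg]
  simp only [pT, Preadditive.comp_sum, Functor.map_sum, Preadditive.sum_comp, Category.assoc, hu,
    Iso.hom_inv_id_assoc, Functor.map_comp]
  exact Finset.sum_congr rfl fun i _ => (Category.assoc _ _ _).symm

variable {C : Type u} [SmallCategory C] {J : GrothendieckTopology C} (O : Sheaf J CommRingCat.{u})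

/-- At a weakly contractible object sections of modules are right exact. -/
lemma projective_freeOn {U : C} (hwc : CohSite.IsWeaklyContractible J U) :
    Projective (ModSite.freeOn O U) where
  factors {N M} φ e _ := by
    let T := SheafOfModules.toSheaf.{u} (ModSite.ringSh O)
    have := preservesColimits_toSheaf O
    have : PreservesColimitsOfSize.{0, 0} T := preservesColimitsOfSize_shrink _
    have he : Epi (T.map e) := Functor.map_epi _ e
    have hl : Presheaf.IsLocallySurjective J (T.map e).hom :=
      (Sheaf.isLocallySurjective_iff_epi' (A := AddCommGrpCat.{u}) _).2 he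
    let ψ := (sheafCompose J (forget AddCommGrpCat.{u})).map (T.map e)
    have : Sheaf.IsLocallySurjective ψ := ⟨fun {W} s => hl.imageSieve_mem s⟩
    have hψ : Epi ψ := inferInstance
    obtain ⟨x, hx⟩ := hwc _ _ ψ hψ ((freeOnCorepr O U).homEquiv φ)
    refine ⟨(freeOnCorepr O U).homEquiv.symm x, ?_⟩
    rw [freeOnCorepr_symm_comp, Equiv.symm_apply_eq]
    exact hx

end Groth.Agent.Der55
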