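import Groth.Agent.Der55.SpecialSystem
import Groth.Agent.TriCat.ColimQuasiIso
import Mathlib.Algebra.Homology.Embedding.CochainComplex
import Mathlib.CategoryTheory.Functor.OfSequence
import Mathlib.Algebra.Homology.HomologicalComplexLimits

/-! Special systems of left resolutions of the truncations of a complex, and their colimit. -/

universe v u

open CategoryTheory Limits

namespace Groth.Agent.Der55

open CochainComplex HomologicalComplex

variable {A : Type u} [Category.{v} A] [Abelian A]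

/-- Below the top degree the truncation does not change a complex. -/
lemma isIso_ιTruncLE_f (G : CochainComplex A ℤ) (n i : ℤ) (hi : i < n) :
    IsIso ((G.ιTruncLE n).f i) := by
  let e := ComplexShape.embeddingUpIntLE n
  have hj : e.f (n - i).natAbs = i := by
    change n - ((n - i).natAbs : ℤ) = i
    rw [Int.natAbs_of_nonneg (by omega)]
    omega
  have hb : ¬ e.BoundaryLE (n - i).natAbs := by
    intro h
    rw [ComplexShape.boundaryLE_embeddingUpIntLE_iff, Int.natAbs_eq_zero] at h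
    omega
  have h1 : IsIso ((G.op.πTruncGE e.op).f i) :=
    (e.op.isIso_liftExtend_f_iff _ _ hj).2
      (G.op.isIso_restrictionToTruncGE' e.op _ (by simpa using hb))
  exact inferInstanceAs (IsIso ((G.op.πTruncGE e.op).f i).unop)

/-- The inclusion between two truncations. -/
noncomputable def truncIncl (G : CochainComplex A ℤ) (m m' : ℤ) (h : m ≤ m') :
    G.truncLE m ⟶ G.truncLE m' :=
  haveI : (G.truncLE m).IsStrictlyLE m' := isStrictlyLE_of_le _ m m' h
  inv ((G.truncLE m).ιTruncLE m') ≫ CochainComplex.truncLEMap (G.ιTruncLE m) m'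

@[reassoc (attr := simp)]
lemma truncIncl_ι (G : CochainComplex A ℤ) (m m' : ℤ) (h : m ≤ m') :
    truncIncl G m m' h ≫ G.ιTruncLE m' = G.ιTruncLE m := by
  simp [truncIncl, CochainComplex.ιTruncLE_naturality]

variable (P : ObjectProperty A) [P.IsClosedUnderIsomorphisms]

structure LSys (G : CochainComplex A ℤ) (n : ℕ) where
  obj : CochainComplex A ℤ
  π : obj ⟶ G.truncLE ((n : ℤ) + 1)
  qis : QuasiIso π
  epi : ∀ i, Epi (π.f i)
  bdd : ∃ b : ℤ, obj.IsStrictlyLE b
  mem : ∀ i, P (obj.X i)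

theorem exists_leftSystem [HasColimitsOfShape ℕ A] [HasExactColimitsOfShape ℕ A]
    (hP0 : ∀ Z : A, IsZero Z → P Z)
    (hPsum : ∀ X Y : A, P X → P Y → P (X ⊞ Y))
    (hP : ∀ X : A, ∃ (Y : A) (π : Y ⟶ X), P Y ∧ Epi π) (G : CochainComplex A ℤ) :
    ∃ (Kc : ℕ ⥤ CochainComplex A ℤ) (π : ∀ n : ℕ, Kc.obj n ⟶ G.truncLE ((n : ℤ) + 1)),
      (∀ n : ℕ, Kc.map (homOfLE (Nat.le_succ n)) ≫ π (n + 1) ≫ G.ιTruncLE (((n + 1 : ℕ) : ℤ) + 1) =
        π n ≫ G.ιTruncLE ((n : ℤ) + 1)) ∧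
      (∀ n : ℕ, QuasiIso (π n) ∧ ∀ i : ℤ, Epi ((π n).f i)) ∧
      (∀ n : ℕ, ∃ b : ℤ, (Kc.obj n).IsStrictlyLE b) ∧
      (∀ (n : ℕ) (i : ℤ), P ((Kc.obj n).X i)) ∧
      (∀ (n : ℕ) (i : ℤ), ∃ r : (Kc.obj (n + 1)).X i ⟶ (Kc.obj n).X i,
        (Kc.map (homOfLE (Nat.le_succ n))).f i ≫ r = 𝟙 _ ∧
        P (cokernel ((Kc.map (homOfLE (Nat.le_succ n))).f i))) ∧
      ∀ [HasColimit Kc],
        ∃ c : colimit Kc ⟶ G, (∀ n : ℕ, colimit.ι Kc n ≫ c = π n ≫ G.ιTruncLE ((n : ℤ) + 1)) ∧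
          QuasiIso c := by
  classical
  have h0 : ∃ Z : A, IsZero Z ∧ P Z := ⟨_, isZero_zero A, hP0 _ (isZero_zero A)⟩
  have first : Nonempty (LSys P G 0) := by
    obtain ⟨Q, α, hQ, hQP, hα, hq⟩ :=
      TriCat.exists_quasiIso_left_resolution P h0 hP (G.truncLE (((0 : ℕ) : ℤ) + 1))
        (((0 : ℕ) : ℤ) + 1)
    exact ⟨⟨Q, α, hq, hα, ⟨_, hQ⟩, hQP⟩⟩
  have step : ∀ (n : ℕ) (X : LSys P G n), ∃ (Y : LSys P G (n + 1)) (ι : X.obj ⟶ Y.obj),
      ι ≫ Y.π = X.π ≫ truncIncl G _ _ (by omega) ∧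
      ∀ i, (∃ r : Y.obj.X i ⟶ X.obj.X i, ι.f i ≫ r = 𝟙 _) ∧ P (cokernel (ι.f i)) := fun n X => by
    obtain ⟨b, hb⟩ := X.bdd
    obtain ⟨S⟩ := exists_leftStep P h0 hPsum hP
      (X.π ≫ truncIncl G ((n : ℤ) + 1) (((n + 1 : ℕ) : ℤ) + 1) (by omega)) (((n + 1 : ℕ) : ℤ) + 1) b X.mem
    exact ⟨⟨S.obj, S.π, S.qis, S.epi, S.bdd, S.mem⟩, S.ι, S.fac, S.split⟩
  choose nextY nextι hnext hsplit using step
  let X : ∀ n, LSys P G n := fun n => Nat.rec first.some (fun n X => nextY n X) n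
  let Kc : ℕ ⥤ CochainComplex A ℤ :=
    Functor.ofSequence (X := fun n => (X n).obj) fun n => nextι n (X n)
  have hmap : ∀ n, Kc.map (homOfLE (Nat.le_succ n)) = nextι n (X n) := fun n =>
    Functor.ofSequence_map_homOfLE_succ (X := fun n => (X n).obj) (fun n => nextι n (X n)) n
  refine ⟨Kc, fun n => (X n).π, fun n => ?_, fun n => ⟨(X n).qis, (X n).epi⟩, fun n => (X n).bdd,
    fun n => (X n).mem, fun n i => ?_, ?_⟩
  · rw [hmap]
    have h := congrArg (fun t => t ≫ G.ιTruncLE (((n + 1 : ℕ) : ℤ) + 1)) (hnext n (X n))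
    simp only [Category.assoc, truncIncl_ι] at h
    exact h
  · rw [hmap]
    obtain ⟨⟨r, hr⟩, hc⟩ := hsplit n (X n) i
    exact ⟨r, hr, hc⟩
  intro _
  let T : ℕ ⥤ CochainComplex A ℤ :=
    Functor.ofSequence (X := fun n : ℕ => G.truncLE ((n : ℤ) + 1))
      fun n => truncIncl G _ _ (by omega)
  let cT : Cocone T := Cocone.mk G
    (NatTrans.ofSequence (fun n => G.ιTruncLE ((n : ℤ) + 1)) fun n => by
      simp only [T, Functor.ofSequence_map_homOfLE_succ]
      exact (truncIncl_ι G _ _ _).trans (Category.comp_id _).symm)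
  have hcT : IsColimit cT := HomologicalComplex.isColimitOfEval _ _ fun i => by
    have hiso : ∀ n, i.natAbs ≤ n →
        IsIso (((HomologicalComplex.eval A (ComplexShape.up ℤ) i).mapCocone cT).ι.app n) :=
      fun n hn => isIso_ιTruncLE_f G _ i (by omega)
    let cE := (HomologicalComplex.eval A (ComplexShape.up ℤ) i).mapCocone cT
    have := hiso _ le_rfl
    refine
      { desc := fun s => inv (cE.ι.app i.natAbs) ≫ s.ι.app i.natAbs
        fac := fun s n => ?_
        uniq := fun s m hm => by rw [← hm i.natAbs]; exact (IsIso.inv_hom_id_assoc _ _).symm }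
    rcases le_total n i.natAbs with h | h
    · rw [← cE.w (homOfLE h), ← s.w (homOfLE h), Category.assoc, IsIso.hom_inv_id_assoc]
    · have := hiso n h
      have h2 := cE.w (homOfLE h)
      rw [← IsIso.eq_comp_inv] at h2
      rw [← s.w (homOfLE h), ← Category.assoc, ← Category.assoc]
      refine (congrArg (· ≫ s.ι.app n) ?_).trans (Category.id_comp _)
      rw [Category.assoc, h2, IsIso.inv_hom_id_assoc, IsIso.hom_inv_id]
  let f : Kc ⟶ T := NatTrans.ofSequence (fun n => (X n).π) fun n => by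
    rw [hmap]
    simp only [T, Functor.ofSequence_map_homOfLE_succ]
    exact hnext n (X n)
  let s : Cocone Kc := (Cocone.precompose f).obj cT
  refine ⟨colimit.desc Kc s, fun n => colimit.ι_desc s n, ?_⟩
  exact TriCat.quasiIso_of_isColimit (colimit.isColimit Kc) hcT f (fun n => (X n).qis) _
    fun n => colimit.ι_desc s n

end Groth.Agent.Der55
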