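import Groth.Agent.Der55.SumSubcomplex
import Groth.Agent.Der55.LeftSystem
import Groth.Agent.TriCat.SmallAcyclic
import Groth.Agent.TriCat.Hocolim
import Groth.Agent.H9Misc.BrownGroth
import Groth.Agent.S0985

/-! Compact objects of the derived category are retracts of bounded complexes of generators. -/

universe w v u

open CategoryTheory Limits Opposite Pretriangulated

namespace Groth.Agent.Der55

variable {A : Type u} [Category.{v} A] [Abelian A] [IsGrothendieckAbelian.{v} A]
  [HasCoproducts.{v} A] [HasDerivedCategory.{v} A] [HasCoproducts.{v} (DerivedCategory A)]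

/-- A map from a compact object into a sequential colimit factors through a stage. -/
lemma exists_factor_colimit {C : DerivedCategory A} (hC : CohDer.IsCompactObject C)
    (L : ℕ ⥤ CochainComplex A ℤ) (φ : C ⟶ DerivedCategory.Q.obj (colimit L)) :
    ∃ (n : ℕ) (g : C ⟶ DerivedCategory.Q.obj (L.obj n)),
      g ≫ DerivedCategory.Q.map (colimit.ι L n) = φ := by
  have : HasColimitsOfShape (Discrete ℕ) A :=
    hasColimitsOfShape_of_equivalence (Discrete.equivalence (Equiv.ulift.{v} (α := ℕ)))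
  have : HasExactColimitsOfShape (Discrete ℕ) A :=
    HasExactColimitsOfShape.of_domain_equivalence A (Discrete.equivalence (Equiv.ulift.{v} (α := ℕ)))
  have : HasColimitsOfShape (Discrete ℕ) (DerivedCategory A) :=
    hasColimitsOfShape_of_equivalence (Discrete.equivalence (Equiv.ulift.{v} (α := ℕ)))
  have := H9Misc.BrownGroth.preservesColimit_Q (A := A) L.obj
  exact TriCat.IsHocolim.exists_factor (Groth.Agent.S0985.result L) hC φ

/-- A map from a compact object into `Q` of a single direct sum has finite support. -/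
lemma exists_finset_single {C : DerivedCategory A} (hC : CohDer.IsCompactObject C) (c : ℤ)
    {κ : Type v} (F : κ → A)
    (φ : C ⟶ DerivedCategory.Q.obj ((HomologicalComplex.single A (ComplexShape.up ℤ) c).obj (∐ F))) :
    ∃ R : Finset κ, ∀ {Z : A} (p : (∐ F) ⟶ Z), (∀ r ∈ R, Sigma.ι F r ≫ p = 0) →
      φ ≫ DerivedCategory.Q.map ((HomologicalComplex.single A (ComplexShape.up ℤ) c).map p) = 0 := by
  let S : A ⥤ CochainComplex A ℤ := HomologicalComplex.single A (ComplexShape.up ℤ) c
  have : PreservesColimitsOfShape (Discrete κ) S :=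
    inferInstanceAs (PreservesColimitsOfShape (Discrete κ) (HomologicalComplex.single A _ c))
  have := H9Misc.BrownGroth.preservesColimit_Q (A := A) (fun k => S.obj (F k))
  let σ : (∐ fun k => (S ⋙ DerivedCategory.Q).obj (F k)) ⟶ (S ⋙ DerivedCategory.Q).obj (∐ F) :=
    sigmaComparison (S ⋙ DerivedCategory.Q) F
  have : PreservesColimit (Discrete.functor F ⋙ S) DerivedCategory.Q :=
    preservesColimit_of_iso_diagram _ (K₁ := Discrete.functor fun k => S.obj (F k))
      (Discrete.natIso fun _ => Iso.refl _)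
  have : IsIso σ := inferInstanceAs (IsIso (sigmaComparison (S ⋙ DerivedCategory.Q) F))
  obtain ⟨R, a, ha⟩ := TriCat.IsCompactObject.finFactor hC (φ ≫ inv σ)
  refine ⟨R, fun {Z} p hp => ?_⟩
  have hφ : φ = ∑ r ∈ R, a r ≫ (S ⋙ DerivedCategory.Q).map (Sigma.ι F r) := by
    refine (Eq.trans ?_ (congrArg (· ≫ σ) ha)).trans ?_
    · exact ((Category.assoc _ _ _).trans
        ((congrArg (φ ≫ ·) (IsIso.inv_hom_id σ)).trans (Category.comp_id φ))).symm
    rw [Preadditive.sum_comp]
    exact Finset.sum_congr rfl fun r _ => by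
      rw [Category.assoc]
      exact congrArg (a r ≫ ·) (ι_comp_sigmaComparison (S ⋙ DerivedCategory.Q) F r)
  rw [hφ, Preadditive.sum_comp]
  refine Finset.sum_eq_zero fun r hr => ?_
  rw [Category.assoc]
  show a r ≫ (S ⋙ DerivedCategory.Q).map _ ≫ (S ⋙ DerivedCategory.Q).map p = 0
  rw [← Functor.map_comp, hp r hr]
  simp [S]
  exact comp_zero

variable {J : ℤ → Type v} {E : ∀ i, J i → A} (L : CochainComplex A ℤ) (e : ∀ i, L.X i ≅ ∐ E i)

lemma closed_of_eventually (b : ℤ) [L.IsStrictlyLE b] (a : ℤ) :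
    Closed L e (fun i => if a ≤ i ∧ i ≤ b then Set.univ else ∅) := by
  intro i k
  dsimp only
  by_cases hik : i + 1 = k
  · subst hik
    by_cases h : a ≤ i ∧ i ≤ b
    · by_cases h' : i + 1 ≤ b
      · rw [if_pos (show a ≤ i + 1 ∧ i + 1 ≤ b by omega), pr_univ, Category.comp_id]
      · simp [(L.isZero_of_isStrictlyLE b (i + 1) (by omega)).eq_of_tgt (L.d i (i + 1)) 0]
    · simp [if_neg h, pr_empty]
  · simp [L.shape i k hik]

open Classical in
/-- One induction step: make degree `c` finite. -/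
lemma exists_step {C : DerivedCategory A} (hC : CohDer.IsCompactObject C)
    (hE : ∀ (i : ℤ) (j : J i) (κ : Type v) (F : κ → A) (g : E i j ⟶ ∐ F), TriCat.FinFactor g)
    (c : ℤ) {T : ∀ i, Set (J i)} (hT : Closed L e T) (hfin : (T (c - 1)).Finite)
    (φ : C ⟶ DerivedCategory.Q.obj (subCx hT)) :
    ∃ (T' : ∀ i, Set (J i)) (hT' : Closed L e T') (h : ∀ i, T' i ⊆ T i) (φ' : C ⟶ DerivedCategory.Q.obj (subCx hT')),
      (∀ i, i ≠ c → T' i = T i) ∧ (T' c).Finite ∧
      φ' ≫ DerivedCategory.Q.map (subMap hT' hT h) = φ := by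
  let ιc := fun j : T (c - 1) => Sigma.ι (E (c - 1)) j.1 ≫ (e (c - 1)).inv
  have hsup : ∀ j, ∃ F : Finset (J c),
      (ιc j ≫ L.d (c - 1) c) ≫ pr (E c) (e c) ↑F = ιc j ≫ L.d (c - 1) c :=
    fun j => pr_of_finFactor (e c) _ (by
      exact hE (c - 1) j.1 (J c) _ _)
  choose F hF using hsup
  have := hfin.fintype
  let F₀ : Finset (J c) := Finset.univ.biUnion F
  have hF₀ : pr (E (c - 1)) (e (c - 1)) (T (c - 1)) ≫ L.d (c - 1) c ≫ pr (E c) (e c) ↑F₀ =
      pr (E (c - 1)) (e (c - 1)) (T (c - 1)) ≫ L.d (c - 1) c := by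
    refine hom_ext_of_iso (e (c - 1)) fun j => ?_
    rw [← Category.assoc, ← Category.assoc (_ ≫ _) (pr _ _ _), ι_pr]
    by_cases hj : j ∈ T (c - 1)
    · simp only [hj, if_true]
      have h1 := hF ⟨j, hj⟩
      rw [← Category.assoc]
      rw [← h1, Category.assoc (ιc ⟨j, hj⟩ ≫ L.d (c - 1) c), pr_comp_of_subset (e c) _
        (Finset.coe_subset.2 (Finset.subset_biUnion_of_mem F (Finset.mem_univ _)))]
    · simp [hj]
  let P : Set (J c) := T c \ ↑F₀
  let q : L.X c ⟶ ∐ fun j : P => E c j.1 := partProj (E c) (e c) P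
  have hPd : ∀ {W : Set (J c)}, Disjoint W P → pr (E c) (e c) W ≫ q = 0 := fun {W} hW => by
    rw [← cancel_mono (partIncl (E c) (e c) P), Category.assoc, zero_comp]
    exact pr_disjoint (e c) _ hW
  have hzero : ∀ i, (ComplexShape.up ℤ).Rel i c →
      (subCx hT).d i c ≫ (partIncl (E c) (e c) (T c) ≫ q) = 0 := fun i hi => by
    obtain rfl : i = c - 1 := by
      have : i + 1 = c := hi
      omega
    change (partIncl (E (c - 1)) (e (c - 1)) (T (c - 1)) ≫ L.d (c - 1) c ≫
      partProj (E c) (e c) (T c)) ≫ partIncl (E c) (e c) (T c) ≫ q = 0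
    simp only [Category.assoc]
    rw [reassoc_of% hT.incl (c - 1) c, ← partIncl_pr_assoc (e (c - 1)) (T (c - 1)),
      ← reassoc_of% hF₀, hPd Set.disjoint_sdiff_right, comp_zero, comp_zero, comp_zero]
  let p : subCx hT ⟶ (HomologicalComplex.single A (ComplexShape.up ℤ) c).obj (∐ fun j : P => E c j.1) :=
    HomologicalComplex.mkHomToSingle (partIncl (E c) (e c) (T c) ≫ q) hzero
  obtain ⟨R, hR⟩ := exists_finset_single hC c (fun j : P => E c j.1) (φ ≫ DerivedCategory.Q.map p)
  let W : Set (J c) := T c ∩ (↑F₀ ∪ Subtype.val '' (R : Set P))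
  let T' : ∀ i, Set (J i) := Function.update T c W
  have hTc : T' c = W := Function.update_self ..
  have hTne : ∀ i, i ≠ c → T' i = T i := fun i hi => Function.update_of_ne hi ..
  have hsub : ∀ i, T' i ⊆ T i := fun i => by
    by_cases h : i = c
    · subst h; rw [hTc]; exact Set.inter_subset_left
    · rw [hTne i h]
  have hT' : Closed L e T' := by
    intro i k
    by_cases hik : i + 1 = k
    · by_cases hk : k = c
      · obtain rfl : i = c - 1 := by omega
        subst hk
        rw [hTne (k - 1) (by omega), hTc]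
        have hK : pr (E (k - 1)) (e (k - 1)) (T (k - 1)) ≫ L.d (k - 1) k =
            pr (E (k - 1)) (e (k - 1)) (T (k - 1)) ≫ L.d (k - 1) k ≫ pr (E k) (e k) (↑F₀ ∩ T k) := by
          conv_lhs => rw [← hT (k - 1) k, ← reassoc_of% hF₀, pr_comp]
        rw [hK, reassoc_of% hK]
        congr 2
        exact (pr_comp_of_subset (e k) _ (T' := W) fun x hx => ⟨hx.2, Or.inl hx.1⟩)
      · rw [hTne k hk, ← pr_comp_of_subset (e i) _ (hsub i), Category.assoc, hT i k,
          ← Category.assoc]
    · simp [L.shape i k hik]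
  let W' : Set (J c) := T c \ W
  let q' : L.X c ⟶ ∐ fun j : W' => E c j.1 := partProj (E c) (e c) W'
  let m : (∐ fun j : P => E c j.1) ⟶ ∐ fun j : W' => E c j.1 := partIncl (E c) (e c) P ≫ q'
  have hW'P : W' ⊆ P := fun x hx => ⟨hx.1, fun h => hx.2 ⟨hx.1, Or.inl h⟩⟩
  have hqm : q ≫ m = q' := by
    rw [← cancel_mono (partIncl (E c) (e c) W')]
    simp only [q, m, q', Category.assoc]
    exact (Category.assoc _ _ _).symm.trans (pr_comp_of_subset' (e c) P hW'P)
  let g : subCx hT ⟶ (HomologicalComplex.single A (ComplexShape.up ℤ) c).obj (∐ fun j : W' => E c j.1) :=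
    p ≫ (HomologicalComplex.single A (ComplexShape.up ℤ) c).map m
  have hg : φ ≫ DerivedCategory.Q.map g = 0 := by
    rw [Functor.map_comp, ← Category.assoc]
    refine hR m fun r hr => ?_
    rw [ι_partIncl_assoc, ← Category.assoc]
    exact ι_partProj_of_notMem (e c) W' fun h =>
      h.2 ⟨r.2.1, Or.inr ⟨r, Finset.mem_coe.2 hr, rfl⟩⟩
  have hgc : g.f c ≫ (HomologicalComplex.singleObjXSelf _ c _).hom =
      partIncl (E c) (e c) (T c) ≫ q' := by
    rw [← hqm]
    simp [g, p, HomologicalComplex.single_map_f_self]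
    rfl
  have wz : subMap hT' hT hsub ≫ g = 0 := by
    refine HomologicalComplex.to_single_hom_ext ?_
    rw [← cancel_mono (HomologicalComplex.singleObjXSelf (ComplexShape.up ℤ) c _).hom,
      HomologicalComplex.comp_f, Category.assoc, hgc, HomologicalComplex.zero_f, zero_comp,
      ← cancel_mono (partIncl (E c) (e c) W'), zero_comp]
    change ((partIncl (E c) (e c) (T' c) ≫ partProj (E c) (e c) (T c)) ≫ _ ≫ q') ≫ _ = _
    simp only [Category.assoc, reassoc_of% partIncl_mono (e c) (T' c) (hsub c), q']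
    rw [← partIncl_pr_assoc (e c) (T' c)]
    show _ ≫ pr _ _ _ ≫ pr _ _ _ = _
    rw [pr_disjoint (e c) _ (hTc ▸ Set.disjoint_sdiff_right), comp_zero]
    rfl
  have hS : (ShortComplex.mk (subMap hT' hT hsub) g wz).ShortExact := by
    refine HomologicalComplex.shortExact_of_degreewise_shortExact _ fun i => ?_
    by_cases hi : i = c
    · subst hi
      refine ShortComplex.Splitting.shortExact
        { r := partIncl (E i) (e i) (T i) ≫ partProj (E i) (e i) (T' i)
          s := (HomologicalComplex.singleObjXSelf (ComplexShape.up ℤ) i _).hom ≫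
            partIncl (E i) (e i) W' ≫ partProj (E i) (e i) (T i)
          f_r := partSplit_left (e i) _ (hsub i)
          s_g := ?_, id := ?_ }
      · refine (cancel_mono (HomologicalComplex.singleObjXSelf (ComplexShape.up ℤ) i _).hom).1 ?_
        refine (Category.assoc _ _ _).trans ?_
        refine (congrArg (_ ≫ ·) hgc).trans ?_
        refine (Category.assoc _ _ _).trans ?_
        refine (congrArg (_ ≫ ·) ?_).trans ((Category.comp_id _).trans (Category.id_comp _).symm)
        exact partSplit_left (e i) _ Set.sdiff_subset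
      · refine Eq.trans ?_ (partSplit_total (e i) (T i) (S := T' i) (S' := W') ?_ ?_)
        · refine congrArg₂ (· + ·) rfl ?_
          exact (Category.assoc _ _ _).symm.trans (congrArg (· ≫ _) hgc)
        · rw [hTc]; exact Set.disjoint_sdiff_right
        · rw [hTc, Set.union_sdiff_self, Set.union_eq_right.2 (Set.inter_subset_left : W ⊆ T i)]
    · refine ShortComplex.Splitting.shortExact
        { r := partIncl (E i) (e i) (T i) ≫ partProj (E i) (e i) (T' i)
          s := 0
          f_r := partSplit_left (e i) _ (hsub i)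
          s_g := (HomologicalComplex.isZero_single_obj_X (ComplexShape.up ℤ) c _ i hi).eq_of_src _ _
          id := (congrArg₂ (· + ·) rfl comp_zero).trans
            ((add_zero _).trans (partSplit_self (e i) (T i) (hTne i hi))) }
  obtain ⟨φ', hφ'⟩ := Triangle.coyoneda_exact₂ _
    (DerivedCategory.triangleOfSES_distinguished hS) φ hg
  refine ⟨T', hT', hsub, φ', hTne, ?_, hφ'.symm⟩
  rw [hTc]
  exact Set.Finite.inter_of_right ((Finset.finite_toSet F₀).union ((Finset.finite_toSet R).image _)) _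

omit L e in
/-- A cocone whose legs are eventually isomorphisms is colimiting. -/
noncomputable def isColimitOfEventuallyIso {C : Type*} [Category C] {F : ℕ ⥤ C} (t : Cocone F)
    (n₀ : ℕ) (h : ∀ n, n₀ ≤ n → IsIso (t.ι.app n)) : IsColimit t :=
  haveI := h n₀ le_rfl
  { desc := fun s => inv (t.ι.app n₀) ≫ s.ι.app n₀
    fac := fun s n => by
      rcases le_total n n₀ with hn | hn
      · rw [← t.w (homOfLE hn), ← s.w (homOfLE hn), Category.assoc, IsIso.hom_inv_id_assoc]
      · have := h n hn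
        have h2 := t.w (homOfLE hn)
        rw [← IsIso.eq_comp_inv] at h2
        rw [← s.w (homOfLE hn), ← Category.assoc, ← Category.assoc]
        refine (congrArg (· ≫ s.ι.app n) ?_).trans (Category.id_comp _)
        rw [Category.assoc, h2, IsIso.inv_hom_id_assoc, IsIso.hom_inv_id]
    uniq := fun s m hm => by rw [← hm n₀]; exact (IsIso.inv_hom_id_assoc _ _).symm }

lemma isZero_partSum {I : Type v} {F : I → A} (T : Set I) (h : T = ∅) :
    IsZero (∐ fun j : T => F j.1) :=
  (IsZero.iff_id_eq_zero _).2 (Sigma.hom_ext _ _ fun j => absurd j.2 (by simp [h]))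

/-- Sums of members of `S`. -/
def sumsOf (S : Set A) : ObjectProperty A := fun X =>
  ∃ (ι : Type v) (F : ι → A), (∀ i, F i ∈ S) ∧ Nonempty (X ≅ ∐ F)

instance (S : Set A) : (sumsOf S).IsClosedUnderIsomorphisms where
  of_iso := fun e ⟨ι, F, hF, ⟨h⟩⟩ => ⟨ι, F, hF, ⟨e.symm ≪≫ h⟩⟩

omit [IsGrothendieckAbelian.{v} A] [HasDerivedCategory.{v} A] [HasCoproducts.{v} (DerivedCategory A)] in
lemma sumsOf_isZero (S : Set A) (Z : A) (hZ : IsZero Z) : sumsOf S Z :=
  let F : PEmpty.{v + 1} → A := fun x => x.elim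
  ⟨PEmpty, F, fun x => x.elim,
    ⟨hZ.iso ((IsZero.iff_id_eq_zero (∐ F)).2 (Sigma.hom_ext _ _ fun x => x.elim))⟩⟩

omit [IsGrothendieckAbelian.{v} A] [HasDerivedCategory.{v} A] [HasCoproducts.{v} (DerivedCategory A)] in
lemma sumsOf_biprod (S : Set A) (X Y : A) (hX : sumsOf S X) (hY : sumsOf S Y) :
    sumsOf S (X ⊞ Y) := by
  obtain ⟨ι, F, hF, ⟨eX⟩⟩ := hX
  obtain ⟨κ, G, hG, ⟨eY⟩⟩ := hY
  refine ⟨ι ⊕ κ, Sum.elim F G, fun j => by cases j <;> simp [hF, hG], ⟨biprod.mapIso eX eY ≪≫
    { hom := biprod.desc (Sigma.desc fun i => Sigma.ι (Sum.elim F G) (Sum.inl i))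
        (Sigma.desc fun i => Sigma.ι (Sum.elim F G) (Sum.inr i))
      inv := Sigma.desc fun j => match j with
        | .inl i => Sigma.ι F i ≫ biprod.inl
        | .inr i => Sigma.ι G i ≫ biprod.inr
      hom_inv_id := by
        refine biprod.hom_ext' _ _ ?_ ?_ <;> apply Sigma.hom_ext <;> intro i <;>
          (simp; exact (Sigma.ι_desc _ _).trans (by simp))
      inv_hom_id := by
        refine Sigma.hom_ext _ _ fun j => ?_
        cases j <;> exact (Sigma.ι_desc_assoc _ _ _).trans (by simp <;> rfl) }⟩⟩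

omit L e in
open Classical in
theorem exists_retract_bounded (S : Set A)
    (h1 : ∀ X : A, ∃ (ι : Type v) (F : ι → A) (π : ∐ F ⟶ X), (∀ i, F i ∈ S) ∧ Epi π)
    (h2 : ∀ X ∈ S, ∀ (κ : Type v) (F : κ → A) (g : X ⟶ ∐ F), TriCat.FinFactor g)
    (K : DerivedCategory A) (hK : CohDer.IsCompactObject K) :
    ∃ (L : CochainComplex A ℤ) (a b : ℤ),
      (∀ i : ℤ, i < a ∨ b < i → IsZero (L.X i)) ∧
      (∀ i : ℤ, ∃ (ι : Type v) (_ : Finite ι) (F : ι → A), (∀ j, F j ∈ S) ∧ Nonempty (L.X i ≅ ∐ F)) ∧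
      Nonempty (Retract K (DerivedCategory.Q.obj L)) := by
  let G := DerivedCategory.Q.objPreimage K
  let eK : DerivedCategory.Q.obj G ≅ K := DerivedCategory.Q.objObjPreimageIso K
  obtain ⟨Kc, π, -, -, hb, hmem, -, hc⟩ := exists_leftSystem (sumsOf S) (sumsOf_isZero S)
    (sumsOf_biprod S) (fun X => by
      obtain ⟨ι, F, p, hF, hp⟩ := h1 X
      exact ⟨∐ F, p, ⟨ι, F, hF, ⟨Iso.refl _⟩⟩, hp⟩) G
  obtain ⟨c, -, hcq⟩ := hc
  have : IsIso (DerivedCategory.Q.map c) := (DerivedCategory.isIso_Q_map_iff_quasiIso _ _).2 hcq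
  obtain ⟨n, g, hg⟩ := exists_factor_colimit hK Kc (eK.inv ≫ inv (DerivedCategory.Q.map c))
  let r : DerivedCategory.Q.obj (Kc.obj n) ⟶ K :=
    DerivedCategory.Q.map (colimit.ι Kc n) ≫ DerivedCategory.Q.map c ≫ eK.hom
  have hgr : g ≫ r = 𝟙 K := by simp [r, reassoc_of% hg]
  obtain ⟨b, hbL⟩ := hb n
  choose J E hES he using hmem n
  let L := Kc.obj n
  let e : ∀ i, L.X i ≅ ∐ E i := fun i => (he i).some
  have hE : ∀ (i : ℤ) (j : J i) (κ : Type v) (F : κ → A) (g : E i j ⟶ ∐ F), TriCat.FinFactor g :=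
    fun i j => h2 _ (hES i j)
  have : L.IsStrictlyLE b := hbL
  let win : ℤ → ∀ i, Set (J i) := fun a i => if a ≤ i ∧ i ≤ b then Set.univ else ∅
  have hw : ∀ a, Closed L e (win a) := closed_of_eventually L e b
  have hwle : ∀ (m : ℕ) i, win (-(m : ℤ)) i ⊆ win (-((m + 1 : ℕ) : ℤ)) i := fun m i => by
    dsimp [win]; split_ifs <;> first | rfl | exact Set.empty_subset _ | omega
  let T : ℕ ⥤ CochainComplex A ℤ :=
    Functor.ofSequence (X := fun m : ℕ => subCx (hw (-(m : ℤ))))
      fun m => subMap (hw _) (hw _) (hwle m)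
  let t : Cocone T := Cocone.mk L (NatTrans.ofSequence (fun m => subι (hw _)) fun m => by
    simp only [T, Functor.ofSequence_map_homOfLE_succ]
    exact (subMap_subι _ _ _).trans (Category.comp_id _).symm)
  have ht : IsColimit t := HomologicalComplex.isColimitOfEval _ _ fun i => by
    refine isColimitOfEventuallyIso _ i.natAbs fun m hm => ?_
    change IsIso (partIncl (E i) (e i) (win (-(m : ℤ)) i))
    by_cases hi : i ≤ b
    · refine ⟨partProj (E i) (e i) _, partIncl_partProj _ _, ?_⟩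
      show pr (E i) (e i) _ = _
      rw [show win (-(m : ℤ)) i = Set.univ from if_pos ⟨by omega, hi⟩, pr_univ]
    · exact Limits.IsZero.isIso (isZero_partSum _ (if_neg fun h => hi h.2))
        (L.isZero_of_isStrictlyLE b i (by omega)) _
  let et := ht.coconePointUniqueUpToIso (colimit.isColimit T)
  obtain ⟨m, φ₀, hφ₀⟩ := exists_factor_colimit hK T (g ≫ DerivedCategory.Q.map et.hom)
  have hφ₀' : φ₀ ≫ DerivedCategory.Q.map (subι (hw (-(m : ℤ)))) = g := by
    have h := congrArg (· ≫ DerivedCategory.Q.map et.inv) hφ₀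
    simp only [Category.assoc, ← Functor.map_comp, et.hom_inv_id] at h
    rw [show colimit.ι T m ≫ et.inv = subι (hw (-(m : ℤ))) from
      IsColimit.comp_coconePointUniqueUpToIso_inv ht (colimit.isColimit T) m] at h
    exact h.trans ((congrArg (g ≫ ·) (DerivedCategory.Q.map_id _)).trans (Category.comp_id g))
  have ind : ∀ k : ℕ, ∃ (W : ∀ i, Set (J i)) (hW : Closed L e W)
      (φ : K ⟶ DerivedCategory.Q.obj (subCx hW)) (ρ : DerivedCategory.Q.obj (subCx hW) ⟶ K),
      φ ≫ ρ = 𝟙 K ∧ (∀ i, W i ⊆ win (-(m : ℤ)) i) ∧ ∀ i, i < -(m : ℤ) + k → (W i).Finite := by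
    intro k
    induction k with
    | zero =>
      refine ⟨_, hw (-(m : ℤ)), φ₀, DerivedCategory.Q.map (subι (hw _)) ≫ r,
        (Category.assoc _ _ _).symm.trans ((congrArg (· ≫ r) hφ₀').trans hgr), fun i => subset_rfl, fun i hi => ?_⟩
      rw [show win (-(m : ℤ)) i = ∅ from if_neg fun h => by omega]
      exact Set.finite_empty
    | succ k ih =>
      obtain ⟨W, hW, φ, ρ, hρ, hWw, hfin⟩ := ih
      obtain ⟨W', hW', hsub, φ', hne, hWc, hφ'⟩ :=
        exists_step L e hK hE (-(m : ℤ) + k) hW (hfin _ (by omega)) φ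
      refine ⟨W', hW', φ', DerivedCategory.Q.map (subMap hW' hW hsub) ≫ ρ,
        by rw [reassoc_of% hφ', hρ], fun i => (hsub i).trans (hWw i), fun i hi => ?_⟩
      by_cases h : i = -(m : ℤ) + k
      · subst h; exact hWc
      · rw [hne i h]; exact hfin i (by omega)
  obtain ⟨W, hW, φ, ρ, hρ, hWw, hfin⟩ := ind (b + (m : ℤ) + 1).toNat
  have hout : ∀ i, i < -(m : ℤ) ∨ b < i → W i = ∅ := fun i hi =>
    Set.subset_empty_iff.1 ((hWw i).trans (by
      rw [show win (-(m : ℤ)) i = ∅ from if_neg fun h => by omega]))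
  refine ⟨subCx hW, -(m : ℤ), b, fun i hi => isZero_partSum _ (hout i hi),
    fun i => ⟨W i, ?_, fun j => E i j.1, fun j => hES i j.1, ⟨Iso.refl _⟩⟩, ⟨⟨φ, ρ, hρ⟩⟩⟩
  by_cases h : i ≤ b
  · exact (hfin i (by omega)).to_subtype
  · rw [hout i (Or.inr (by omega))]; infer_instance

end Groth.Agent.Der55
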