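import Groth.Agent.H44Hyper.Acyclic
import Groth.Agent.TriCat.Compact
import Groth.Agent.TriCat.KInjRes
import Groth.Agent.H9Misc.BrownGroth
import Mathlib.Algebra.Category.Grp.Abelian
import Mathlib.Algebra.Category.Grp.EpiMono

/-! Morphisms into direct sums in the derived category out of an object whose `Ext` groups commute
with direct sums. -/

set_option linter.style.haveILetI false

universe t w w' v u

open CategoryTheory Limits Abelian CochainComplex.HomComplex

namespace Groth.Agent.Der55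

section Elements

/-- Elements of the image of a direct sum under a functor preserving it. -/
lemma mem_iSup_range_of_preserves {D : Type u} [Category.{v} D] {G : D ⥤ AddCommGrpCat.{w}}
    {ι : Type t} (X : ι → D) [HasCoproduct X] [PreservesColimit (Discrete.functor X) G]
    (y : G.obj (∐ X)) : y ∈ ⨆ i, (G.map (Sigma.ι X i)).hom.range := by
  let S : AddSubgroup (G.obj (∐ X)) := ⨆ i, (G.map (Sigma.ι X i)).hom.range
  let q : G.obj (∐ X) ⟶ AddCommGrpCat.of (G.obj (∐ X) ⧸ S) :=
    AddCommGrpCat.ofHom (QuotientAddGroup.mk' S)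
  have hq : q = 0 := Cofan.IsColimit.hom_ext (isColimitOfHasCoproductOfPreservesColimit G X) _ _
    fun i => AddCommGrpCat.hom_ext (AddMonoidHom.ext fun z => by
      show QuotientAddGroup.mk' S ((G.map (Sigma.ι X i)).hom z) = (0 : G.obj (∐ X) ⧸ S)
      exact (QuotientAddGroup.eq_zero_iff _).2 (AddSubgroup.mem_iSup_of_mem i ⟨z, rfl⟩))
  have h : (QuotientAddGroup.mk' S) y = 0 := congrArg (fun f => f.hom y) hq
  exact (QuotientAddGroup.eq_zero_iff _).1 h

lemma subsingleton_obj_coproduct {D : Type u} [Category.{v} D] {G : D ⥤ AddCommGrpCat.{w}}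
    {ι : Type t} (X : ι → D) [HasCoproduct X] [PreservesColimit (Discrete.functor X) G]
    (h : ∀ i, Subsingleton (G.obj (X i))) : Subsingleton (G.obj (∐ X)) := by
  refine subsingleton_of_forall_eq 0 fun y => ?_
  have hle : (⨆ i, (G.map (Sigma.ι X i)).hom.range) ≤ ⊥ := iSup_le fun i => by
    rintro _ ⟨z, rfl⟩
    rw [AddSubgroup.mem_bot, @Subsingleton.elim _ (h i) z 0, map_zero]
  exact AddSubgroup.mem_bot.1 (hle (mem_iSup_range_of_preserves X y))

/-- A hom functor preserving a direct sum makes morphisms into it finitely supported. -/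
lemma finFactor_of_iSup {D : Type u} [Category.{v} D] [Preadditive D] {ι : Type t} {X : ι → D}
    [HasCoproduct X] {P : D} (f : P ⟶ ∐ X)
    (h : f ∈ ⨆ i, (Preadditive.rightComp P (Sigma.ι X i)).range) : TriCat.FinFactor f := by
  refine AddSubgroup.iSup_induction (C := fun f => TriCat.FinFactor f) _ h ?_ TriCat.FinFactor.zero
    fun _ _ hx hy => hx.add hy
  rintro i _ ⟨a, rfl⟩
  exact TriCat.FinFactor.postcomp_ι i a

/-- The sum map is bijective if all morphisms are finitely supported. -/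
lemma bijective_homSum_of_finFactor {D : Type u} [Category.{v} D] [Preadditive D] {ι : Type v}
    (X : ι → D) [HasCoproduct X] (K : D) (h : ∀ f : K ⟶ ∐ X, TriCat.FinFactor f) :
    Function.Bijective (CohDer.homSumToHomCoprod K X) := by
  classical
  have hof : ∀ (i : ι) (a : K ⟶ X i),
      CohDer.homSumToHomCoprod K X (DirectSum.of (fun i => K ⟶ X i) i a) = a ≫ Sigma.ι X i := by
    intro i a
    simp [CohDer.homSumToHomCoprod, DirectSum.toAddMonoid_of]
    rfl
  constructor
  · have key : ∀ (j : ι) (x : DirectSum ι (fun i => K ⟶ X i)),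
        CohDer.homSumToHomCoprod K X x ≫ TriCat.coprodProj X j = x j := by
      intro j x
      induction x using DirectSum.induction_on with
      | zero => simp
      | of i a =>
        rw [hof, Category.assoc]
        by_cases hij : i = j
        · subst hij; simp [TriCat.ι_coprodProj_self]
        · rw [TriCat.ι_coprodProj_ne hij, comp_zero, DirectSum.of_eq_of_ne _ _ _ (Ne.symm hij)]
      | add x y hx hy => rw [map_add, Preadditive.add_comp, hx, hy]; rfl
    intro x y hxy
    refine DFinsupp.ext fun j => ?_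
    rw [← key j x, ← key j y, hxy]
  · intro f
    obtain ⟨s, a, rfl⟩ := h f
    exact ⟨∑ i ∈ s, DirectSum.of _ i (a i), by simp [hof]⟩

end Elements

variable {A : Type u} [Category.{v} A] [Abelian A]

section Lift

variable [HasExt.{w'} A] (T : A) (d : ℕ)
  (hd : ∀ (X : A) (p : ℕ), d < p → Subsingleton (Ext.{w'} T X p))
  (C : CochainComplex A ℤ) (hC : C.Acyclic)
  (hT : ∀ (m : ℤ) (i : ℕ), Subsingleton (Ext.{w'} T (C.X m) (i + 1)))

include hd hC hT in
lemma subsingleton_ext_cycles_of_dim (r : ℕ) : ∀ (m : ℤ) (i : ℕ), d ≤ i + r →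
    Subsingleton (Ext.{w'} T (C.cycles m) (i + 1)) := by
  induction r with
  | zero => exact fun m i hi => hd _ _ (by omega)
  | succ r ih =>
    intro m i hi
    refine subsingleton_of_forall_eq 0 fun x => ?_
    haveI := ih (m - 1) (i + 1) (by omega)
    obtain ⟨y, hy⟩ := Ext.covariant_sequence_exact₃ T
      (H44Hyper.cyclesSES_shortExact C hC (m - 1) m (by omega)) x
      (show i + 1 + 1 = i + 1 + 1 from rfl) (Subsingleton.elim _ _)
    haveI := hT (m - 1) i
    rw [← hy, Subsingleton.elim y 0, Ext.zero_comp]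

include hd hC hT in
lemma exists_lift_of_dim (p q r : ℤ) (hpq : p + 1 = q) (hqr : q + 1 = r) (x : T ⟶ C.X q)
    (hx : x ≫ C.d q r = 0) : ∃ w : T ⟶ C.X p, w ≫ C.d p q = x := by
  let x' := C.liftCycles x r (by simp [← hqr]) hx
  haveI := subsingleton_ext_cycles_of_dim T d hd C hC hT d p 0 (by omega)
  obtain ⟨y, hy⟩ := Ext.covariant_sequence_exact₃ T (H44Hyper.cyclesSES_shortExact C hC p q hpq)
    (Ext.mk₀.{w'} x') (show 0 + 1 = 1 from rfl) (Subsingleton.elim _ _)
  obtain ⟨w, rfl⟩ := (Ext.mk₀_bijective T (C.X p)).2 y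
  rw [Ext.mk₀_comp_mk₀] at hy
  refine ⟨w, ?_⟩
  rw [← C.toCycles_i p q, ← Category.assoc, (Ext.mk₀_bijective T (C.cycles q)).1 hy, C.liftCycles_i]

end Lift

variable [HasDerivedCategory.{w} A] (T : A)

/-- Over an object of finite cohomological dimension, complexes of acyclic objects compute `Hom`. -/
theorem cls_surjective_of_dim [HasExt.{w'} A] (d : ℕ)
    (hd : ∀ (X : A) (p : ℕ), d < p → Subsingleton (Ext.{w'} T X p)) {K I : CochainComplex A ℤ}
    [I.IsKInjective] (hI : ∀ m, Injective (I.X m)) (φ : K ⟶ I) [QuasiIso φ]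
    (hT : ∀ (m : ℤ) (i : ℕ), Subsingleton (Ext.{w'} T (K.X m) (i + 1))) (q : ℤ) :
    Function.Surjective (H44Hyper.cls T K q) := by
  obtain ⟨p, hpq⟩ : ∃ p : ℤ, p + 1 = q := ⟨q - 1, by omega⟩
  haveI : IsIso (DerivedCategory.Q.map φ) := inferInstance
  have hM : (CochainComplex.mappingCone φ).Acyclic := fun j => by
    rw [HomologicalComplex.exactAt_iff_isZero_homology]
    have hz : IsZero (DerivedCategory.Q.obj (CochainComplex.mappingCone φ)) :=
      (Pretriangulated.Triangle.isZero₃_iff_isIso₁ _ (DerivedCategory.mappingCone_triangle_distinguished φ)).2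
        (inferInstanceAs (IsIso (DerivedCategory.Q.map φ)))
    exact ((DerivedCategory.homologyFunctor A j).map_isZero hz).of_iso
      ((DerivedCategory.homologyFunctorFactors A j).symm.app (CochainComplex.mappingCone φ))
  have hMT : ∀ (m : ℤ) (i : ℕ), Subsingleton (Ext.{w'} T ((CochainComplex.mappingCone φ).X m) (i + 1)) := fun m i => by
    refine subsingleton_of_forall_eq 0 fun x => ?_
    haveI := hT (m + 1) i
    haveI := hI m
    rw [← Ext.comp_mk₀_id x, ← CochainComplex.mappingCone.id_X φ m (m + 1) rfl, Ext.mk₀_add, Ext.comp_add,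
      ← Ext.mk₀_comp_mk₀, ← Ext.mk₀_comp_mk₀,
      ← Ext.comp_assoc_of_second_deg_zero, ← Ext.comp_assoc_of_second_deg_zero]
    rw [Subsingleton.elim (x.comp (Ext.mk₀ ((CochainComplex.mappingCone.fst φ).1.v m (m + 1) rfl)) _) 0,
      Ext.eq_zero_of_injective (x.comp (Ext.mk₀ ((CochainComplex.mappingCone.snd φ).v m m (add_zero m))) _),
      Ext.zero_comp, Ext.zero_comp, add_zero]
  have hHT : Function.Injective (E1Deg.HTmap T φ q) := fun x y h => by
    simpa only [E1Deg.HTmap_apply, cancel_mono] using h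
  intro x
  obtain ⟨u, hu⟩ := H44Hyper.cls_surjective_of_isKInjective T I q (E1Deg.HTmap T φ q x)
  obtain ⟨w, hw⟩ := exists_lift_of_dim T d hd (CochainComplex.mappingCone φ) hM hMT p q (q + 1) hpq rfl
    (u.1 ≫ (CochainComplex.mappingCone.inr φ).f q) (by
      rw [Category.assoc, CochainComplex.mappingCone.inr_f_d, ← Category.assoc, (H44Hyper.mem_cyc T).1 u.2, zero_comp])
  have h1 : (w ≫ (CochainComplex.mappingCone.fst φ).1.v p q hpq) ≫ K.d q (q + 1) = 0 := by
    have h := congrArg (fun t => t ≫ (CochainComplex.mappingCone.fst φ).1.v q (q + 1) rfl) hw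
    simp only [Category.assoc, CochainComplex.mappingCone.d_fst_v φ p q (q + 1) hpq rfl, CochainComplex.mappingCone.inr_f_fst_v,
      comp_zero, Preadditive.comp_neg, neg_eq_zero] at h
    rw [Category.assoc]; exact h
  have h2 : (w ≫ (CochainComplex.mappingCone.fst φ).1.v p q hpq) ≫ φ.f q +
      (w ≫ (CochainComplex.mappingCone.snd φ).v p p (add_zero p)) ≫ I.d p q = u.1 := by
    have h := congrArg (fun t => t ≫ (CochainComplex.mappingCone.snd φ).v q q (add_zero q)) hw
    simp only [Category.assoc, CochainComplex.mappingCone.d_snd_v φ p q hpq, CochainComplex.mappingCone.inr_f_snd_v,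
      Category.comp_id, Preadditive.comp_add] at h
    simpa only [Category.assoc] using h
  refine ⟨⟨_, h1⟩, hHT ?_⟩
  rw [← H44Hyper.cls_cycMap, ← hu, ← sub_eq_zero, ← map_sub]
  refine (H44Hyper.cls_eq_zero_iff_of_isKInjective T I q p hpq _).2
    ⟨-(w ≫ (CochainComplex.mappingCone.snd φ).v p p (add_zero p)), ?_⟩
  rw [AddSubgroup.coe_sub, ← h2, Preadditive.neg_comp]
  simp only [H44Hyper.cycMap]
  abel

variable {ι : Type v} [HasColimitsOfShape (Discrete ι) A] [HasExactColimitsOfShape (Discrete ι) A]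

/-- Finite support of morphisms into sums of complexes computing `Hom(T, -)`. -/
theorem finFactor_Q_sum (K : ι → CochainComplex A ℤ) {M : ι → DerivedCategory A} [HasCoproduct M]
    (eM : ∀ i, DerivedCategory.Q.obj (K i) ≅ M i)
    (hsur : Function.Surjective (H44Hyper.cls T (∐ K) 0))
    (hT : ∀ (F : ι → A) (g : T ⟶ ∐ F), TriCat.FinFactor g)
    (f : (DerivedCategory.singleFunctor A 0).obj T ⟶ ∐ M) : TriCat.FinFactor f := by
  classical
  let Q := DerivedCategory.Q (C := A)
  have := H9Misc.BrownGroth.preservesColimit_Q (A := A) K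
  have : HasCoproduct fun i => Q.obj (K i) :=
    hasColimit_of_iso (F := Discrete.functor M) (G := Discrete.functor fun i => Q.obj (K i))
      (Discrete.natIso fun i => eM i.as)
  let σ : (∐ fun i => Q.obj (K i)) ⟶ Q.obj (∐ K) := sigmaComparison Q K
  have : IsIso σ := inferInstanceAs (IsIso (sigmaComparison Q K))
  let u : (∐ M) ⟶ Q.obj (∐ K) := Limits.Sigma.map (fun i => (eM i).inv) ≫ σ
  have : IsIso (Limits.Sigma.map fun i => (eM i).inv) :=
    ⟨Limits.Sigma.map fun i => (eM i).hom, Sigma.hom_ext _ _ fun i => by simp,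
      Sigma.hom_ext _ _ fun i => by simp⟩
  have : IsIso u := inferInstanceAs (IsIso (Limits.Sigma.map (fun i => (eM i).inv) ≫ σ))
  let z₀ : ∀ X : DerivedCategory A, (shiftFunctor (DerivedCategory A) (0 : ℤ)).obj X ≅ X := fun X =>
    (shiftFunctorZero (DerivedCategory A) ℤ).app X
  obtain ⟨z, hz⟩ := hsur (f ≫ u ≫ (z₀ _).inv)
  let E := HomologicalComplex.eval A (ComplexShape.up ℤ) 0
  let ee : E.obj (∐ K) ≅ ∐ fun i => E.obj (K i) := PreservesCoproduct.iso E K
  have hee : ∀ i, Sigma.ι (fun i => E.obj (K i)) i ≫ ee.inv = E.map (Sigma.ι K i) := fun i => by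
    rw [show ee.inv = sigmaComparison E K from PreservesCoproduct.inv_hom E K]
    exact ι_comp_sigmaComparison E K i
  obtain ⟨S, a, ha⟩ := hT (fun i => E.obj (K i)) (z.1 ≫ ee.hom)
  let b : ι → H44Hyper.cyc T (∐ K) 0 := fun i =>
    H44Hyper.cycMap T (TriCat.coprodProj K i ≫ Sigma.ι K i) 0 z
  have hzb : z = ∑ i ∈ S, b i := by
    apply Subtype.ext
    have hz1 : z.1 = ∑ i ∈ S, a i ≫ E.map (Sigma.ι K i) := by
      rw [← Category.comp_id z.1]
      refine (congrArg (z.1 ≫ ·) ee.hom_inv_id.symm).trans ?_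
      refine (Category.assoc z.1 ee.hom ee.inv).symm.trans ((congrArg (· ≫ ee.inv) ha).trans ?_)
      refine (Preadditive.sum_comp _ _ _).trans ?_
      exact Finset.sum_congr rfl fun i _ => (Category.assoc _ _ _).trans (congrArg (a i ≫ ·) (hee i))
    rw [AddSubmonoidClass.coe_finsetSum]
    have hp : ∀ i j, (Sigma.ι K i).f 0 ≫ (TriCat.coprodProj K j ≫ Sigma.ι K j).f 0 =
        ((Sigma.ι K i ≫ TriCat.coprodProj K j) ≫ Sigma.ι K j).f 0 := fun i j => by
      rw [Category.assoc]
      exact (HomologicalComplex.comp_f _ _ 0).symm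
    refine hz1.trans (Finset.sum_congr rfl fun j hj => ?_)
    show _ = z.1 ≫ (TriCat.coprodProj K j ≫ Sigma.ι K j).f 0
    refine Eq.trans ?_ (congrArg (· ≫ (TriCat.coprodProj K j ≫ Sigma.ι K j).f 0) hz1).symm
    refine Eq.trans ?_ (Preadditive.sum_comp _ _ _).symm
    rw [Finset.sum_eq_single j]
    · show _ = (a j ≫ (Sigma.ι K j).f 0) ≫ (TriCat.coprodProj K j ≫ Sigma.ι K j).f 0
      refine Eq.trans ?_ (Category.assoc _ _ _).symm
      refine congrArg (a j ≫ ·) (Eq.trans ?_ (hp j j).symm)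
      rw [TriCat.ι_coprodProj_self, Category.id_comp]
      rfl
    · intro i _ hij
      show (a i ≫ (Sigma.ι K i).f 0) ≫ (TriCat.coprodProj K j ≫ Sigma.ι K j).f 0 = 0
      refine (Category.assoc _ _ _).trans ((congrArg (a i ≫ ·) ((hp i j).trans ?_)).trans comp_zero)
      rw [TriCat.ι_coprodProj_ne hij, zero_comp]
      rfl
    · exact fun h => absurd hj h
  refine ⟨S, fun i => H44Hyper.cls T (K i) 0 (H44Hyper.cycMap T (TriCat.coprodProj K i) 0 z) ≫
    (z₀ _).hom ≫ (eM i).hom, ?_⟩
  have hu : ∀ i, Sigma.ι M i ≫ u = (eM i).inv ≫ Q.map (Sigma.ι K i) := fun i => by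
    simp [u, σ]
    exact ι_comp_sigmaComparison Q K i
  rw [← cancel_mono u, ← cancel_mono (z₀ _).inv, Category.assoc, ← hz, Preadditive.sum_comp,
    Preadditive.sum_comp]
  conv_lhs => rw [hzb, map_sum]
  refine Finset.sum_congr rfl fun i _ => ?_
  have hb : H44Hyper.cls T (∐ K) 0 (b i) = E1Deg.HTmap T (Sigma.ι K i) 0
      (H44Hyper.cls T (K i) 0 (H44Hyper.cycMap T (TriCat.coprodProj K i) 0 z)) := by
    rw [← H44Hyper.cls_cycMap]
    refine congrArg (H44Hyper.cls T (∐ K) 0) (Subtype.ext ?_)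
    exact (Category.assoc z.1 _ _).symm
  rw [hb, E1Deg.HTmap_apply]
  have hn : (shiftFunctor (DerivedCategory A) (0 : ℤ)).map (Q.map (Sigma.ι K i)) =
      (z₀ _).hom ≫ Q.map (Sigma.ι K i) ≫ (z₀ _).inv := by
    rw [← Category.assoc, Iso.eq_comp_inv]
    exact (shiftFunctorZero (DerivedCategory A) ℤ).hom.naturality (Q.map (Sigma.ι K i))
  rw [hn]
  simp only [Category.assoc]
  rw [reassoc_of% (hu i), Iso.hom_inv_id_assoc]

variable [IsGrothendieckAbelian.{v} A] [HasExt.{v} A]

omit [HasColimitsOfShape (Discrete ι) A] [HasExactColimitsOfShape (Discrete ι) A]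
  [HasDerivedCategory.{w} A] [IsGrothendieckAbelian.{v} A] in
lemma subsingleton_ext_sum (F : ι → A) [HasCoproduct F]
    (hExt : ∀ (p : ℕ), PreservesColimit (Discrete.functor F) (extFunctorObj.{v} T p))
    (hF : ∀ i, Injective (F i)) (k : ℕ) : Subsingleton (Ext.{v} T (∐ F) (k + 1)) :=
  have := hExt (k + 1)
  subsingleton_obj_coproduct (G := extFunctorObj.{v} T (k + 1)) F fun i =>
    have := hF i
    subsingleton_of_forall_eq 0 fun x => Ext.eq_zero_of_injective x

omit [HasColimitsOfShape (Discrete ι) A] [HasExactColimitsOfShape (Discrete ι) A]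
  [IsGrothendieckAbelian.{v} A] [HasDerivedCategory.{w} A] in
lemma finFactor_of_ext_zero (F : ι → A) [HasCoproduct F]
    [PreservesColimit (Discrete.functor F) (extFunctorObj.{v} T 0)] (g : T ⟶ ∐ F) :
    TriCat.FinFactor g := by
  refine finFactor_of_iSup g ?_
  let e : (T ⟶ ∐ F) ≃+ Ext.{v} T (∐ F) 0 := Ext.addEquiv₀.symm
  have h := mem_iSup_range_of_preserves (G := extFunctorObj.{v} T 0) F (e g)
  have hle : (⨆ i, ((extFunctorObj.{v} T 0).map (Sigma.ι F i)).hom.range) ≤
      (⨆ i, (Preadditive.rightComp T (Sigma.ι F i)).range).map e.toAddMonoidHom := by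
    refine iSup_le fun i => ?_
    rintro _ ⟨z, rfl⟩
    obtain ⟨a, rfl⟩ := (Ext.mk₀_bijective T (F i)).2 z
    exact ⟨a ≫ Sigma.ι F i, AddSubgroup.mem_iSup_of_mem i ⟨a, rfl⟩,
      ((Ext.mk₀_comp_mk₀ a (Sigma.ι F i))).symm⟩
  obtain ⟨g', hg', he⟩ := hle h
  rwa [← e.injective he]

variable (hExt : ∀ (p : ℕ) (F : ι → A), PreservesColimit (Discrete.functor F) (extFunctorObj.{v} T p))

omit [HasExactColimitsOfShape (Discrete ι) A] [HasDerivedCategory.{w} A] [IsGrothendieckAbelian.{v} A] in
include hExt in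
lemma subsingleton_ext_sum_complex (K : ι → CochainComplex A ℤ) (hK : ∀ i m, Injective ((K i).X m))
    (m : ℤ) (k : ℕ) : Subsingleton (Ext.{v} T ((∐ K).X m) (k + 1)) := by
  let E := HomologicalComplex.eval A (ComplexShape.up ℤ) m
  let ee : E.obj (∐ K) ≅ ∐ fun i => E.obj (K i) := PreservesCoproduct.iso E K
  have h := subsingleton_ext_sum T (fun i => E.obj (K i)) (fun p => hExt p _) (fun i => hK i m) k
  exact ((extFunctorObj.{v} T (k + 1)).mapIso ee).addCommGroupIsoToAddEquiv.toEquiv.subsingleton_congr.2 h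

/-- Bounded below version, from vanishing on sums of injective objects. -/
theorem finFactor_of_isGE_of_acyclic
    (hT : ∀ (F : ι → A) (g : T ⟶ ∐ F), TriCat.FinFactor g)
    (hsum : ∀ (F : ι → A), (∀ i, Injective (F i)) → ∀ k : ℕ, Subsingleton (Ext.{v} T (∐ F) (k + 1)))
    {M : ι → DerivedCategory A} [HasCoproduct M] (a : ℤ) (hM : ∀ i, (M i).IsGE a)
    (f : (DerivedCategory.singleFunctor A 0).obj T ⟶ ∐ M) : TriCat.FinFactor f := by
  have : ∀ i, ∃ (I : CochainComplex A ℤ) (_ : I.IsStrictlyGE a) (_ : DerivedCategory.Q.obj I ≅ M i),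
      ∀ m, Injective (I.X m) := fun i => by
    have := hM i
    obtain ⟨K, hK, ⟨e⟩⟩ := DerivedCategory.exists_iso_Q_obj_of_isGE (M i) a
    obtain ⟨I, φ, hφ, hinj, hI⟩ := CochainComplex.Plus.modelCategoryQuillen.exists_quasiIso_injective K a
    haveI := hφ
    exact ⟨I, hI, (asIso (DerivedCategory.Q.map φ)).symm ≪≫ e.symm, hinj⟩
  choose I hI eM hinj using this
  have : (∐ I).IsStrictlyGE a := by
    rw [CochainComplex.isStrictlyGE_iff]
    intro j hj
    let E := HomologicalComplex.eval A (ComplexShape.up ℤ) j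
    refine IsZero.of_iso ?_ (PreservesCoproduct.iso E I)
    rw [IsZero.iff_id_eq_zero]
    refine Sigma.hom_ext _ _ fun i => ?_
    have := hI i
    exact ((I i).isZero_of_isStrictlyGE a j hj).eq_of_src _ _
  refine finFactor_Q_sum T I eM
    (H44Hyper.cls_surjective_and_kernel T (fun m k => ?_) a (-1) 0 (by omega)).1 hT f
  let E := HomologicalComplex.eval A (ComplexShape.up ℤ) m
  exact ((extFunctorObj.{v} T (k + 1)).mapIso
    (PreservesCoproduct.iso E I)).addCommGroupIsoToAddEquiv.toEquiv.subsingleton_congr.2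
      (hsum (fun i => E.obj (I i)) (fun i => hinj i m) k)

include hExt in
/-- Bounded below version. -/
theorem finFactor_of_isGE {M : ι → DerivedCategory A} [HasCoproduct M] (a : ℤ) (hM : ∀ i, (M i).IsGE a)
    (f : (DerivedCategory.singleFunctor A 0).obj T ⟶ ∐ M) : TriCat.FinFactor f :=
  finFactor_of_isGE_of_acyclic T (fun F g => have := hExt 0 F; finFactor_of_ext_zero T F g)
    (fun F hF k => subsingleton_ext_sum T F (fun p => hExt p F) hF k) a hM f

include hExt in
/-- Unbounded version, for finite cohomological dimension. -/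
theorem finFactor_of_dim (d : ℕ) (hd : ∀ (X : A) (p : ℕ), d < p → Subsingleton (Ext.{v} T X p))
    {M : ι → DerivedCategory A} [HasCoproduct M]
    (f : (DerivedCategory.singleFunctor A 0).obj T ⟶ ∐ M) : TriCat.FinFactor f := by
  have : ∀ i, ∃ (I : CochainComplex A ℤ) (_ : DerivedCategory.Q.obj I ≅ M i),
      ∀ m, Injective (I.X m) := fun i => by
    obtain ⟨I, φ, hI, hφ, -, hinj⟩ := TriCat.exists_kInjective_resolution' (DerivedCategory.Q.objPreimage (M i))
    haveI := hφ
    exact ⟨I, (asIso (DerivedCategory.Q.map φ)).symm ≪≫ DerivedCategory.Q.objObjPreimageIso (M i), hinj⟩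
  choose I eM hinj using this
  obtain ⟨J, φ, hJ, hφ, -, hJinj⟩ := TriCat.exists_kInjective_resolution' (∐ I)
  haveI := hJ
  haveI := hφ
  exact finFactor_Q_sum T I eM
    (cls_surjective_of_dim T d hd hJinj φ (subsingleton_ext_sum_complex T hExt I hinj) 0)
    (fun F g => have := hExt 0 F; finFactor_of_ext_zero T F g) f

end Groth.Agent.Der55
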