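import Groth.Agent.Der55.FiltSite
import Groth.Agent.Der55.FinHom
import Groth.Agent.SiteBase.ExtCompare
import Groth.Agent.SiteBase.ModKill
import Groth.Agent.SiteBase.HKRep
import Groth.Agent.SiteBase.ModGroth
import Groth.Agent.ModTensor.FreeOn
import Groth.Prelude.Def_CohDer
import Mathlib.CategoryTheory.Limits.Constructions.Filtered
import Mathlib.CategoryTheory.Preadditive.Biproducts

/-! `j_{U!} O_U` over a site with finite covering families is compact for bounded below sums. -/

universe u

open CategoryTheory Limits Opposite Abelian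

namespace Groth.Agent.Der55

open SiteBase ModTensor

variable {C : Type u} [SmallCategory C] {J : GrothendieckTopology C} (O : Sheaf J CommRingCat.{u})

/-- Maps out of `j_{U!} O_U` are sections, as maps of abelian sheaves out of the free sheaf. -/
noncomputable def freeOnAbEquiv (U : C) (M : ModSite.Mod O) :
    (ModSite.freeOn O U ⟶ M) ≃+ (CohCx.freeSheaf J U ⟶ ModSite.toAb M) :=
  AddEquiv.mk' (((freeOnCorepr O U).homEquiv (Y := M)).trans (secEquiv J U (ModSite.toAb M)).symm.toEquiv)
    fun φ ψ => by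
      show (secEquiv J U (ModSite.toAb M)).symm _ =
        (secEquiv J U (ModSite.toAb M)).symm _ + (secEquiv J U (ModSite.toAb M)).symm _
      rw [← map_add]
      refine congrArg _ ?_
      rw [(freeOnCorepr O U).homEquiv_eq (φ + ψ), (freeOnCorepr O U).homEquiv_eq φ,
        (freeOnCorepr O U).homEquiv_eq ψ]
      exact congrArg (fun t : ModSite.toAb (ModSite.freeOn O U) ⟶ ModSite.toAb M =>
        (t.hom.app (op U)).hom ((freeOnCorepr O U).homEquiv (𝟙 (ModSite.freeOn O U))))
        ((SheafOfModules.toSheaf.{u} (ModSite.ringSh O)).map_add (f := φ) (g := ψ))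

lemma freeOnAbEquiv_comp {U : C} {M N : ModSite.Mod O} (φ : ModSite.freeOn O U ⟶ M) (g : M ⟶ N) :
    freeOnAbEquiv O U N (φ ≫ g) = freeOnAbEquiv O U M φ ≫ (SheafOfModules.toSheaf.{u} (ModSite.ringSh O)).map g := by
  show (secEquiv J U (ModSite.toAb N)).symm ((freeOnCorepr O U).homEquiv (φ ≫ g)) =
    (secEquiv J U (ModSite.toAb M)).symm ((freeOnCorepr O U).homEquiv φ) ≫ _
  rw [secEquiv_symm_comp]
  exact congrArg _ ((freeOnCorepr O U).homEquiv_comp g φ)

/-- `Ext` out of `j_{U!} O_U` is cohomology of the underlying abelian sheaf. -/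
theorem nonempty_ext_freeOn [HasExt.{u} (ModSite.Mod O)] (U : C) (M : ModSite.Mod O) (p : ℕ) :
    Nonempty (Ext.{u} (ModSite.freeOn O U) M p ≃+
      Ext.{u} (CohCx.freeSheaf J U) (ModSite.toAb M) p) := by
  have := ModTensor.preservesColimits_toSheaf O
  have : PreservesFiniteColimits (SheafOfModules.toSheaf.{u} (ModSite.ringSh O)) := inferInstance
  exact nonempty_ext_addEquiv (SheafOfModules.toSheaf.{u} (ModSite.ringSh O)) (ModSite.freeOn O U)
    (CohCx.freeSheaf J U) (fun _ hE => hE.map_of_exact _)
    (fun I hI q => subsingleton_HU_of_totallyAcyclic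
      (@isTotallyAcyclic_toSheaf_injective _ _ _ (ModSite.ringSh O) I hI) U q)
    (fun X => freeOnAbEquiv O U X) (fun X Y φ g => freeOnAbEquiv_comp O φ g) p M

lemma finFactor_finsetCocone {A : Type*} [Category A] [Preadditive A] {α : Type u} (F : α → A)
    [HasFiniteCoproducts A] [HasCoproduct F] (S : Finset (Discrete α)) {P : A}
    (g : P ⟶ (CoproductsFromFiniteFiltered.liftToFinsetObj (Discrete.functor F)).obj S) :
    TriCat.FinFactor (g ≫ (CoproductsFromFiniteFiltered.finiteSubcoproductsCocone F).ι.app S) := by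
  classical
  let X : {x : Discrete α // x ∈ S} → A := fun x => F x.1.as
  have h1 : 𝟙 (∐ X) = ∑ x, TriCat.coprodProj X x ≫ Sigma.ι X x := Sigma.hom_ext _ _ fun x => by
    rw [Category.comp_id, Preadditive.comp_sum, Finset.sum_eq_single x
      (fun y _ hy => by rw [TriCat.ι_coprodProj_ne_assoc (Ne.symm hy), zero_comp])
      (fun hn => absurd (Finset.mem_univ x) hn), TriCat.ι_coprodProj_self_assoc]
  let ψ : (∐ X) ⟶ ∐ F := (CoproductsFromFiniteFiltered.finiteSubcoproductsCocone F).ι.app S
  have h2 : ∀ x, Sigma.ι X x ≫ ψ = Sigma.ι F x.1.as := fun x => by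
    simp only [ψ, CoproductsFromFiniteFiltered.finiteSubcoproductsCocone_ι_app]
    exact Sigma.ι_desc _ x
  suffices key : ∀ g : P ⟶ ∐ X, TriCat.FinFactor (g ≫ ψ) from key g
  intro g
  rw [← Category.comp_id g, h1, Preadditive.comp_sum, Preadditive.sum_comp]
  refine Finset.sum_induction _ (fun t => TriCat.FinFactor t) (fun _ _ ha hb => ha.add hb)
    TriCat.FinFactor.zero fun x _ => ?_
  rw [Category.assoc, Category.assoc, h2, ← Category.assoc]
  exact TriCat.FinFactor.postcomp_ι _ _

lemma injective_finset {α : Type u} (F : α → ModSite.Mod O) (hF : ∀ a, Injective (F a))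
    (S : Finset (Discrete α)) :
    Injective ((CoproductsFromFiniteFiltered.liftToFinsetObj (Discrete.functor F)).obj S) := by
  have : HasFiniteBiproducts (ModSite.Mod O) := HasFiniteBiproducts.of_hasFiniteProducts
  let X : {x : Discrete α // x ∈ S} → ModSite.Mod O := fun x => F x.1.as
  have : ∀ x, Injective (X x) := fun x => hF _
  have : Injective (∏ᶜ X) := inferInstance
  exact Injective.of_iso ((biproduct.isoProduct X).symm ≪≫ biproduct.isoCoproduct X) this

/-- The system of finite partial sums, on abelian sheaves. -/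
lemma exists_finset_system {α : Type u} (F : α → ModSite.Mod O) :
    ∃ e : colimit (CoproductsFromFiniteFiltered.liftToFinsetObj (Discrete.functor F) ⋙
        SheafOfModules.toSheaf.{u} (ModSite.ringSh O)) ≅ ModSite.toAb (∐ F),
      ∀ S, colimit.ι (CoproductsFromFiniteFiltered.liftToFinsetObj (Discrete.functor F) ⋙
          SheafOfModules.toSheaf.{u} (ModSite.ringSh O)) S ≫ e.hom =
        (SheafOfModules.toSheaf.{u} (ModSite.ringSh O)).map
          ((CoproductsFromFiniteFiltered.finiteSubcoproductsCocone F).ι.app S) := by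
  have := ModTensor.preservesColimits_toSheaf O
  let hc := isColimitOfPreserves (SheafOfModules.toSheaf.{u} (ModSite.ringSh O))
    (CoproductsFromFiniteFiltered.isColimitFiniteSubproductsCocone F)
  exact ⟨(colimit.isColimit _).coconePointUniqueUpToIso hc,
    fun S => IsColimit.comp_coconePointUniqueUpToIso_hom (colimit.isColimit _) hc S⟩

variable [HasPullbacks C] {B : Set C} {Cov : ∀ (U : C) (ι : Type u), (ι → Over U) → Prop}
  (hC : FinCovClass J B Cov)
include hC

theorem finFactor_freeOn_sum {U : C} (hU : U ∈ B) {α : Type u} (F : α → ModSite.Mod O)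
    (f : ModSite.freeOn O U ⟶ ∐ F) : TriCat.FinFactor f := by
  obtain ⟨e, he⟩ := exists_finset_system O F
  obtain ⟨S, x, hx⟩ := exists_rep _ hC hU (secEquiv J U _ (freeOnAbEquiv O U _ f ≫ e.inv))
  let Z := CoproductsFromFiniteFiltered.liftToFinsetObj (Discrete.functor F)
  let g : ModSite.freeOn O U ⟶ Z.obj S := (freeOnAbEquiv O U (Z.obj S)).symm ((secEquiv J U _).symm x)
  have hg : g ≫ (CoproductsFromFiniteFiltered.finiteSubcoproductsCocone F).ι.app S = f := by
    refine (freeOnAbEquiv O U (∐ F)).injective ?_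
    refine (freeOnAbEquiv_comp O g _).trans ?_
    simp only [g, AddEquiv.apply_symm_apply]
    refine (congrArg (_ ≫ ·) (he S).symm).trans ((Category.assoc _ _ _).symm.trans ?_)
    rw [← Iso.eq_comp_inv, secEquiv_symm_comp]
    exact (AddEquiv.symm_apply_eq _).2 hx
  rw [← hg]
  exact finFactor_finsetCocone F S g

theorem subsingleton_ext_freeOn_sum [HasExt.{u} (ModSite.Mod O)] {U : C} (hU : U ∈ B) {α : Type u}
    (F : α → ModSite.Mod O) (hF : ∀ a, Injective (F a)) (k : ℕ) :
    Subsingleton (Ext.{u} (ModSite.freeOn O U) (∐ F) (k + 1)) := by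
  obtain ⟨e, -⟩ := exists_finset_system O F
  obtain ⟨E⟩ := nonempty_ext_freeOn O U (∐ F) (k + 1)
  refine E.toEquiv.subsingleton_congr.2 ?_
  refine ((extFunctorObj.{u} (CohCx.freeSheaf J U) (k + 1)).mapIso e).addCommGroupIsoToAddEquiv.toEquiv.subsingleton_congr.1
    (subsingleton_of_forall_eq 0 fun y => ?_)
  obtain ⟨S, x, rfl⟩ := (commutesWith hC (k + 1) _ hU).1 y
  have hz : Subsingleton (CohSite.HU (ModSite.toAb
      ((CoproductsFromFiniteFiltered.liftToFinsetObj (Discrete.functor F)).obj S)) (k + 1) U) :=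
    subsingleton_HU_of_totallyAcyclic
      (@isTotallyAcyclic_toSheaf_injective _ _ _ (ModSite.ringSh O) _ (injective_finset O F hF S)) U k
  rw [show x = 0 from @Subsingleton.elim _ hz _ _]
  exact ((Ext.mk₀.{u} _).postcomp _ (add_zero (k + 1))).map_zero

/-- `j_{U!} O_U` behaves as a compact object for uniformly bounded below sums. -/
theorem bijective_homSum_freeOn [HasDerivedCategory.{u} (ModSite.Mod O)] {U : C} (hU : U ∈ B)
    {I : Type u} (M : I → DerivedCategory (ModSite.Mod O)) [HasCoproduct M] (a : ℤ)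
    (hM : ∀ i, (M i).IsGE a) :
    Function.Bijective (CohDer.homSumToHomCoprod
      ((DerivedCategory.singleFunctor (ModSite.Mod O) 0).obj (ModSite.freeOn O U)) M) :=
  bijective_homSum_of_finFactor M _ fun f => finFactor_of_isGE_of_acyclic (ModSite.freeOn O U)
    (fun F g => finFactor_freeOn_sum O hC hU F g)
    (fun F hF k => subsingleton_ext_freeOn_sum O hC hU F hF k) a hM f

end Groth.Agent.Der55
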