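import Groth.Agent.Der55.QcSections
import Groth.Agent.Der55.FreeOnColl
import Groth.Agent.ToposFinLib.Eps

/-! Sections over quasi-compact objects commute with direct sums. -/

universe w u v'

open CategoryTheory Limits Opposite

namespace Groth.Agent.Der55

open SiteBase ModTensor

/-- An additive functor to groups preserves sums when its elements on sums are finitely supported. -/
theorem preservesColimitsOfShape_discrete {A : Type v'} [Category.{u} A] [Preadditive A]
    {ι : Type u} [HasColimitsOfShape (Discrete ι) A] (G : A ⥤ AddCommGrpCat.{u}) [G.Additive]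
    (h : ∀ (F : ι → A) (y : G.obj (∐ F)), y ∈ ⨆ i, (G.map (Sigma.ι F i)).hom.range) :
    PreservesColimitsOfShape (Discrete ι) G := by
  classical
  suffices ∀ F : ι → A, PreservesColimit (Discrete.functor F) G from
    ⟨fun {K} => have := this (fun j => K.obj ⟨j⟩)
      preservesColimit_of_iso_diagram G Discrete.natIsoFunctor.symm⟩
  intro F
  let σ := sigmaComparison G F
  have hproj : ∀ j, σ ≫ G.map (TriCat.coprodProj F j) = TriCat.coprodProj (fun i => G.obj (F i)) j :=
    fun j => Sigma.hom_ext _ _ fun i => by
      rw [ι_comp_sigmaComparison_assoc, ← G.map_comp]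
      by_cases hij : i = j
      · subst hij
        rw [TriCat.ι_coprodProj_self, TriCat.ι_coprodProj_self, G.map_id]
      · rw [TriCat.ι_coprodProj_ne hij, TriCat.ι_coprodProj_ne hij, G.map_zero]
  have hfin : ∀ z : (∐ fun i => G.obj (F i) : AddCommGrpCat.{u}), ∃ S : Finset ι,
      z = ∑ i ∈ S, ((Sigma.ι (fun i => G.obj (F i)) i).hom
        ((TriCat.coprodProj (fun i => G.obj (F i)) i).hom z)) := fun z => by
    have hz := mem_iSup_range_of_preserves (G := 𝟭 AddCommGrpCat.{u}) (fun i => G.obj (F i)) z
    induction hz using AddSubgroup.iSup_induction' with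
    | hp i x hx =>
      obtain ⟨a, rfl⟩ := hx
      refine ⟨{i}, ?_⟩
      rw [Finset.sum_singleton]
      exact congrArg _ (ConcreteCategory.congr_hom (TriCat.ι_coprodProj_self (X := fun i => G.obj (F i)) i) a).symm
    | h1 => exact ⟨∅, rfl⟩
    | hadd x y _ _ hx hy =>
      obtain ⟨S, hS⟩ := hx
      obtain ⟨T, hT⟩ := hy
      have hext : ∀ (x : (∐ fun i => G.obj (F i) : AddCommGrpCat.{u})) (S T : Finset ι), S ⊆ T →
          x = ∑ i ∈ S, ((Sigma.ι (fun i => G.obj (F i)) i).hom
            ((TriCat.coprodProj (fun i => G.obj (F i)) i).hom x)) →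
          x = ∑ i ∈ T, ((Sigma.ι (fun i => G.obj (F i)) i).hom
            ((TriCat.coprodProj (fun i => G.obj (F i)) i).hom x)) := fun x S T hST hx => by
        refine hx.trans (Finset.sum_subset hST fun j _ hj => ?_)
        have h0 : (TriCat.coprodProj (fun i => G.obj (F i)) j).hom x = 0 := by
          conv_lhs => rw [hx]
          rw [map_sum]
          refine Finset.sum_eq_zero fun i hi => ?_
          exact ConcreteCategory.congr_hom
            (TriCat.ι_coprodProj_ne (X := fun i => G.obj (F i)) (i := j) (j := i)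
              (fun e => hj (e ▸ hi))) _
        rw [h0, map_zero]
      refine ⟨S ∪ T, ?_⟩
      simp only [map_add, Finset.sum_add_distrib]
      exact congrArg₂ (· + ·) (hext x S _ Finset.subset_union_left hS)
        (hext y T _ Finset.subset_union_right hT)
  have : IsIso σ := by
    rw [ConcreteCategory.isIso_iff_bijective]
    refine ⟨(injective_iff_map_eq_zero σ.hom).2 fun z hz => ?_, fun y => ?_⟩
    · obtain ⟨S, hS⟩ := hfin z
      rw [hS]
      refine Finset.sum_eq_zero fun i _ => ?_
      have h0 : (TriCat.coprodProj (fun i => G.obj (F i)) i).hom z = 0 :=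
        (ConcreteCategory.congr_hom (hproj i) z).symm.trans
          ((congrArg (G.map (TriCat.coprodProj F i)).hom hz).trans (map_zero _))
      rw [h0, map_zero]
    · have hle : (⨆ i, (G.map (Sigma.ι F i)).hom.range) ≤ σ.hom.range := iSup_le fun i => by
        rintro _ ⟨a, rfl⟩
        exact ⟨(Sigma.ι (fun i => G.obj (F i)) i).hom a,
          ConcreteCategory.congr_hom (ι_comp_sigmaComparison G F i) a⟩
      obtain ⟨z, hz⟩ := hle (h F y)
      exact ⟨z, hz⟩
  exact PreservesCoproduct.of_iso_comparison G F

variable {C : Type u} [SmallCategory C] {J : GrothendieckTopology C} (O : Sheaf J CommRingCat.{u})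

/-- Sections over a quasi-compact object preserve sums. -/
theorem preservesColimitsOfShape_sections {W : C}
    (hW : CohCx.IsQcObject ((presheafToSheaf J (Type u)).obj (yoneda.obj W))) (ι : Type u) :
    PreservesColimitsOfShape (Discrete ι)
      (SheafOfModules.toSheaf (ModSite.ringSh O) ⋙ (sheafSections J AddCommGrpCat.{u}).obj (op W)) := by
  have : (SheafOfModules.toSheaf (ModSite.ringSh O) ⋙
      (sheafSections J AddCommGrpCat.{u}).obj (op W)).Additive := { }
  refine preservesColimitsOfShape_discrete _ fun F y => ?_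
  let φ := (freeOnAbEquiv O W (∐ F)).symm ((secEquiv J W _).symm y)
  obtain ⟨S, a, ha⟩ := finFactor_of_isQcObject F hW φ
  have hy : y = secEquiv J W _ (freeOnAbEquiv O W (∐ F) φ) := by simp [φ]
  rw [hy, ha, map_sum, map_sum]
  refine AddSubgroup.sum_mem _ fun i _ => AddSubgroup.mem_iSup_of_mem i
    ⟨secEquiv J W _ (freeOnAbEquiv O W (F i) (a i)), ?_⟩
  rw [freeOnAbEquiv_comp, secEquiv_comp]
  rfl

/-- Morphisms out of `j_{U!} O_U`, `U` quasi-compact, preserve sums. -/
theorem preservesColimitsOfShape_hom {U : C}
    (hU : CohCx.IsQcObject ((presheafToSheaf J (Type u)).obj (yoneda.obj U))) (ι : Type u) :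
    PreservesColimitsOfShape (Discrete ι) (preadditiveCoyoneda.obj (op (ModSite.freeOn O U))) := by
  refine preservesColimitsOfShape_discrete _ fun F (φ : ModSite.freeOn O U ⟶ ∐ F) => ?_
  obtain ⟨S, a, rfl⟩ := finFactor_of_isQcObject F hU φ
  exact AddSubgroup.sum_mem _ fun i _ => AddSubgroup.mem_iSup_of_mem i ⟨a i, rfl⟩

/-- The site notion of quasi-compactness gives quasi-compact representable sheaves. -/
theorem isQcObject_of_isQCSite {U : C} (h : ToposFin.IsQCSite J U) :
    CohCx.IsQcObject ((presheafToSheaf J (Type u)).obj (yoneda.obj U)) := by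
  intro I L f hf
  have hcov : ToposFinLib.Cov f := fun V y => by
    obtain ⟨S, hS, hS'⟩ := hf V y
    exact J.superset_covering (fun W g hg => hS' W g hg) hS
  obtain ⟨t, ht⟩ := (ToposFinLib.isQC_iff.1 ((ToposFinLib.isQC_eps_iff U).1 h)) I L f hcov
  exact ⟨t, fun V s => ⟨_, ht s, fun W g hg => hg⟩⟩

end Groth.Agent.Der55
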