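import Mathlib.Algebra.Category.ModuleCat.ChangeOfRings
import Mathlib.Algebra.Category.Ring.Epi
import Mathlib.Algebra.Homology.HomotopyCategory.KInjective

/-! Restriction of scalars along a ring epimorphism. -/

universe u

open CategoryTheory TensorProduct

namespace Groth.Agent.Der55

variable {R S : Type u} [CommRing R] [CommRing S] (φ : R →+* S)

lemma restrictScalars_full_of_epi (hφ : Epi (CommRingCat.ofHom φ)) :
    (ModuleCat.restrictScalars.{u} φ).Full := by
  refine ⟨fun {M N} g => ?_⟩
  algebraize [φ]
  have hE : Algebra.IsEpi R S := CommRingCat.epi_iff_epi.1 hφ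
  let : Module R M := Module.compHom M φ
  let : Module R N := Module.compHom N φ
  have : IsScalarTower R S M := ⟨fun r s m => by
    change (φ r * s) • m = φ r • s • m
    exact mul_smul _ _ _⟩
  have : IsScalarTower R S N := ⟨fun r s m => by
    change (φ r * s) • m = φ r • s • m
    exact mul_smul _ _ _⟩
  let g' : M →ₗ[R] N :=
    { toFun := fun m => g.hom m
      map_add' := fun a b => g.hom.map_add a b
      map_smul' := fun r a => g.hom.map_smul r a }
  have hlin : ∀ (s : S) (m : M), g' (s • m) = s • g' m := by
    intro s m
    let B : S ⊗[R] S →ₗ[R] N := lift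
      { toFun := fun a =>
          { toFun := fun b => a • g' (b • m)
            map_add' := fun b c => by simp [add_smul, smul_add]
            map_smul' := fun r b => by
              simp [smul_assoc, smul_comm a r] }
        map_add' := fun a a' => by ext b; simp [add_smul]
        map_smul' := fun r a => by ext b; simp [smul_assoc] }
    have := congrArg B ((Algebra.isEpi_iff_forall_one_tmul_eq R S).1 hE s)
    simpa [B] using this
  exact ⟨ModuleCat.ofHom { g'.toAddHom with map_smul' := hlin }, rfl⟩

theorem isKInjective_of_map_isKInjective {A B : Type*} [Category A] [Category B]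
    [Abelian A] [Abelian B] (F : A ⥤ B) [F.Additive] [F.Full] [F.Faithful]
    [Limits.PreservesFiniteLimits F] [Limits.PreservesFiniteColimits F]
    (I : CochainComplex A ℤ)
    (h : CochainComplex.IsKInjective ((F.mapHomologicalComplex (ComplexShape.up ℤ)).obj I)) :
    CochainComplex.IsKInjective I := by
  refine ⟨fun {K} f hK => ?_⟩
  obtain ⟨H⟩ := h.nonempty_homotopy_zero ((F.mapHomologicalComplex (ComplexShape.up ℤ)).map f)
    (fun i => (hK i).map F)
  let h' : ∀ i j, F.obj (K.X i) ⟶ F.obj (I.X j) := H.hom
  exact ⟨{
    hom := fun i j => F.preimage (h' i j)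
    zero := fun i j hij => F.map_injective
      ((F.map_preimage (h' i j)).trans ((H.zero i j hij).trans (F.map_zero _ _).symm))
    comm := fun i => by
      apply F.map_injective
      have := H.comm i
      simp [dNext, prevD] at this
      simp [dNext, prevD, F.map_preimage, h']
      exact this }⟩

end Groth.Agent.Der55
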