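import Groth.Agent.SiteBase.CechInst
import Groth.Agent.SiteBase.CechCtx
import Groth.Agent.S0861
import Mathlib.CategoryTheory.Abelian.Injective.Ext
import Mathlib.Algebra.Homology.DerivedCategory.Ext.ExactSequences
import Mathlib.CategoryTheory.Abelian.GrothendieckAxioms.Basic
import Mathlib.CategoryTheory.Limits.ConcreteCategory.Basic

/-! Cohomology and filtered colimits on a site with finite covering families. -/

universe u

open CategoryTheory Limits Opposite Abelian

set_option linter.unusedSectionVars false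

namespace Groth.Agent.Der55

open SiteBase

variable {C : Type u} [SmallCategory C] [HasPullbacks C]

/-- A class of objects with finite covering families whose fibre products stay in the class. -/
structure FinCovClass (J : GrothendieckTopology C) (B : Set C)
    (Cov : ∀ (U : C) (ι : Type u), (ι → Over U) → Prop) : Prop where
  mem : ∀ (U : C) (ι : Type u) (Y : ι → Over U), Cov U ι Y → Finite ι ∧ U ∈ B ∧
      Sieve.ofArrows (fun i => (Y i).left) (fun i => (Y i).hom) ∈ J U ∧
      ∀ (p : ℕ) (a : Fin (p + 1) → ι), (∏ᶜ fun k => Y (a k)).left ∈ B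
  refine : ∀ U ∈ B, ∀ T ∈ J U, ∃ (ι : Type u) (Y : ι → Over U), Cov U ι Y ∧ ∀ i, T.arrows (Y i).hom

variable {J : GrothendieckTopology C} {I : Type u} [SmallCategory I] [IsFiltered I]

section Stages

/-- Finitely many arrows out of an object have a common refinement. -/
lemma exists_common {α : Type*} [Finite α] {i : I} (j : α → I) (f : ∀ a, i ⟶ j a) :
    ∃ (k : I) (g : i ⟶ k), ∀ a, ∃ h : j a ⟶ k, f a ≫ h = g := by
  classical
  have := Fintype.ofFinite α
  suffices key : ∀ s : Finset α, ∃ (k : I) (g : i ⟶ k), ∀ a ∈ s, ∃ h : j a ⟶ k, f a ≫ h = g by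
    obtain ⟨k, g, h⟩ := key Finset.univ
    exact ⟨k, g, fun a => h a (Finset.mem_univ a)⟩
  intro s
  induction s using Finset.induction with
  | empty => exact ⟨i, 𝟙 i, by simp⟩
  | @insert b s _ ih =>
    obtain ⟨k, g, hg⟩ := ih
    obtain ⟨l, u, v, e⟩ := IsFiltered.span g (f b)
    refine ⟨l, g ≫ u, fun a ha => ?_⟩
    rcases Finset.mem_insert.1 ha with rfl | ha
    · exact ⟨v, e.symm⟩
    · obtain ⟨h, hh⟩ := hg a ha
      exact ⟨h ≫ u, by rw [← Category.assoc, hh]⟩

variable (F : I ⥤ Sheaf J AddCommGrpCat.{u})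

/-- The colimit of a system of sheaves among presheaves. -/
noncomputable abbrev preColim : Cocone (F ⋙ sheafToPresheaf J AddCommGrpCat.{u}) :=
  colimit.cocone (F ⋙ sheafToPresheaf J AddCommGrpCat.{u})

/-- The comparison of the colimit of presheaves with the colimit of sheaves. -/
noncomputable def preColimMap : (preColim F).pt ⟶ (colimit F).obj :=
  (colimit.isColimit _).desc ((sheafToPresheaf J AddCommGrpCat.{u}).mapCocone (colimit.cocone F))

@[reassoc (attr := simp)]
lemma ι_preColimMap (i : I) : (preColim F).ι.app i ≫ preColimMap F = (colimit.ι F i).hom :=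
  (colimit.isColimit _).fac _ i

lemma W_preColimMap : J.W (preColimMap F) := by
  intro Q hQ
  constructor
  · intro a b hab
    let Q' : Sheaf J AddCommGrpCat.{u} := ⟨Q, hQ⟩
    let a' : colimit F ⟶ Q' := ⟨a⟩
    let b' : colimit F ⟶ Q' := ⟨b⟩
    have h : a' = b' := colimit.hom_ext fun i => by
      apply (sheafToPresheaf J AddCommGrpCat.{u}).map_injective
      show (colimit.ι F i).hom ≫ a = (colimit.ι F i).hom ≫ b
      rw [← ι_preColimMap, Category.assoc, Category.assoc]
      exact congrArg ((preColim F).ι.app i ≫ ·) hab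
    exact congrArg (fun t : colimit F ⟶ Q' => t.hom) h
  · intro a
    let Q' : Sheaf J AddCommGrpCat.{u} := ⟨Q, hQ⟩
    let c : Cocone F :=
      { pt := Q'
        ι :=
          { app := fun i => ⟨(preColim F).ι.app i ≫ a⟩
            naturality := fun i j f => by
              apply (sheafToPresheaf J AddCommGrpCat.{u}).map_injective
              show (F.map f).hom ≫ (preColim F).ι.app j ≫ a = ((preColim F).ι.app i ≫ a) ≫ 𝟙 Q
              rw [Category.comp_id, ← Category.assoc]
              exact congrArg (· ≫ a) ((preColim F).w f) } }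
    refine ⟨(colimit.desc F c).hom, (colimit.isColimit _).hom_ext fun i => ?_⟩
    show (preColim F).ι.app i ≫ preColimMap F ≫ (colimit.desc F c).hom = (preColim F).ι.app i ≫ a
    rw [ι_preColimMap_assoc]
    exact congrArg (fun t : F.obj i ⟶ Q' => t.hom) (colimit.ι_desc c i)

/-- The map from a stage into the colimit on sections. -/
noncomputable abbrev stage (i : I) (U : C) : (F.obj i).obj.obj (op U) →+ (colimit F).obj.obj (op U) :=
  ((colimit.ι F i).hom.app (op U)).hom

/-- The transition maps on sections. -/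
noncomputable abbrev trans {i j : I} (f : i ⟶ j) (U : C) :
    (F.obj i).obj.obj (op U) →+ (F.obj j).obj.obj (op U) :=
  ((F.map f).hom.app (op U)).hom

lemma stage_trans {i j : I} (f : i ⟶ j) {U : C} (x : (F.obj i).obj.obj (op U)) :
    stage F j U (trans F f U x) = stage F i U x :=
  congrArg (fun t : F.obj i ⟶ colimit F => (t.hom.app (op U)).hom x) (colimit.w F f)

lemma trans_trans {i j k : I} (f : i ⟶ j) (g : j ⟶ k) {U : C} (x : (F.obj i).obj.obj (op U)) :
    trans F g U (trans F f U x) = trans F (f ≫ g) U x :=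
  (congrArg (fun t : F.obj i ⟶ F.obj k => (t.hom.app (op U)).hom x) (F.map_comp f g)).symm

lemma stage_res {i : I} {U V : C} (g : V ⟶ U) (x : (F.obj i).obj.obj (op U)) :
    stage F i V (((F.obj i).obj.map g.op).hom x) = ((colimit F).obj.map g.op).hom (stage F i U x) :=
  ConcreteCategory.congr_hom ((colimit.ι F i).hom.naturality g.op) x

lemma trans_res {i j : I} (f : i ⟶ j) {U V : C} (g : V ⟶ U) (x : (F.obj i).obj.obj (op U)) :
    trans F f V (((F.obj i).obj.map g.op).hom x) = ((F.obj j).obj.map g.op).hom (trans F f U x) :=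
  ConcreteCategory.congr_hom ((F.map f).hom.naturality g.op) x

lemma preColim_rep {U : C} (y : (preColim F).pt.obj (op U)) :
    ∃ (i : I) (x : (F.obj i).obj.obj (op U)), (((preColim F).ι.app i).app (op U)).hom x = y :=
  Concrete.isColimit_exists_rep _
    (isColimitOfPreserves ((evaluation Cᵒᵖ AddCommGrpCat.{u}).obj (op U)) (colimit.isColimit _)) y

lemma preColim_eq_zero {U : C} {i : I} (x : (F.obj i).obj.obj (op U))
    (h : (((preColim F).ι.app i).app (op U)).hom x = 0) :
    ∃ (j : I) (f : i ⟶ j), trans F f U x = 0 := by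
  obtain ⟨j, f, g, e⟩ := (Concrete.isColimit_rep_eq_iff_exists _
    (isColimitOfPreserves ((evaluation Cᵒᵖ AddCommGrpCat.{u}).obj (op U))
      (colimit.isColimit (F ⋙ sheafToPresheaf J AddCommGrpCat.{u}))) x (0 : (F.obj i).obj.obj (op U))).1
      (h.trans (map_zero (((preColim F).ι.app i).app (op U)).hom).symm)
  exact ⟨j, f, e.trans (map_zero _)⟩

lemma stage_eq {U : C} {i : I} (x : (F.obj i).obj.obj (op U)) :
    stage F i U x =
      ((preColimMap F).app (op U)).hom ((((preColim F).ι.app i).app (op U)).hom x) :=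
  (ConcreteCategory.congr_hom (NatTrans.congr_app (ι_preColimMap F i) (op U)) x).symm

lemma stage_res_sub {m i₀ i₁ : I} (f₀ : i₀ ⟶ m) (f₁ : i₁ ⟶ m) {V W₀ W₁ : C} (p₀ : V ⟶ W₀)
    (p₁ : V ⟶ W₁) (x₀ : (F.obj i₀).obj.obj (op W₀)) (x₁ : (F.obj i₁).obj.obj (op W₁))
    (h : ((colimit F).obj.map p₀.op).hom (stage F i₀ W₀ x₀) =
      ((colimit F).obj.map p₁.op).hom (stage F i₁ W₁ x₁)) :
    stage F m V (((F.obj m).obj.map p₀.op).hom (trans F f₀ W₀ x₀) -
      ((F.obj m).obj.map p₁.op).hom (trans F f₁ W₁ x₁)) = 0 := by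
  rw [map_sub, stage_res, stage_res, stage_trans, stage_trans, h, sub_self]

lemma trans_res_sub {m j k i₀ i₁ : I} (f₀ : i₀ ⟶ m) (f₁ : i₁ ⟶ m) (g : m ⟶ j) (h : j ⟶ k)
    (e : m ⟶ k) (he : g ≫ h = e) {V W₀ W₁ : C} (p₀ : V ⟶ W₀) (p₁ : V ⟶ W₁)
    (x₀ : (F.obj i₀).obj.obj (op W₀)) (x₁ : (F.obj i₁).obj.obj (op W₁))
    (hz : trans F g V (((F.obj m).obj.map p₀.op).hom (trans F f₀ W₀ x₀) -
      ((F.obj m).obj.map p₁.op).hom (trans F f₁ W₁ x₁)) = 0) :
    ((F.obj k).obj.map p₀.op).hom (trans F (f₀ ≫ e) W₀ x₀) =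
      ((F.obj k).obj.map p₁.op).hom (trans F (f₁ ≫ e) W₁ x₁) := by
  have hb := congrArg (trans F h V) hz
  rw [map_zero, trans_trans, he, map_sub, sub_eq_zero, trans_res, trans_res, trans_trans,
    trans_trans] at hb
  exact hb

variable {B : Set C} {Cov : ∀ (U : C) (ι : Type u), (ι → Over U) → Prop} (hC : FinCovClass J B Cov)
include hC

/-- A section of a stage vanishing in the colimit vanishes at a later stage. -/
lemma exists_killed {U : C} (hU : U ∈ B) {i : I} (x : (F.obj i).obj.obj (op U))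
    (h : stage F i U x = 0) : ∃ (j : I) (f : i ⟶ j), trans F f U x = 0 := by
  have := ((J.W_iff_isLocallyBijective _).1 (W_preColimMap F)).1
  rw [stage_eq] at h
  let y := (((preColim F).ι.app i).app (op U)).hom x
  obtain ⟨ι, Y, hY, hT⟩ := hC.refine U hU _
    (Presheaf.equalizerSieve_mem J (preColimMap F) (X := op U) y 0 (h.trans (map_zero _).symm))
  obtain ⟨hfin, -, hcov, -⟩ := hC.mem U ι Y hY
  have : ∀ a, ∃ (j : I) (f : i ⟶ j), trans F f _ (((F.obj i).obj.map (Y a).hom.op).hom x) = 0 :=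
    fun a => by
      refine preColim_eq_zero F _ ?_
      exact (ConcreteCategory.congr_hom (((preColim F).ι.app i).naturality (Y a).hom.op) x).trans
        ((hT a).trans (map_zero _))
  choose j f hf using this
  obtain ⟨k, g, hg⟩ := exists_common j f
  refine ⟨k, g, res0_injective (ctxOver Y) (F := F.obj k) hcov fun a => ?_⟩
  obtain ⟨h, hh⟩ := hg a
  refine (trans_res F g (Y a).hom x).symm.trans (Eq.trans ?_ (map_zero _).symm)
  rw [← hh, ← trans_trans, hf, map_zero]

/-- Sections of the colimit over a member of the class come from a stage. -/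
lemma exists_rep {U : C} (hU : U ∈ B) (s : (colimit F).obj.obj (op U)) :
    ∃ (i : I) (x : (F.obj i).obj.obj (op U)), stage F i U x = s := by
  classical
  have := ((J.W_iff_isLocallyBijective _).1 (W_preColimMap F)).2
  obtain ⟨ι, Y, hY, hT⟩ := hC.refine U hU _ (Presheaf.imageSieve_mem J (preColimMap F) (U := op U) s)
  obtain ⟨hfin, -, hcov, hprod⟩ := hC.mem U ι Y hY
  have : ∀ a, ∃ (i : I) (x : (F.obj i).obj.obj (op (Y a).left)),
      stage F i _ x = ((colimit F).obj.map (Y a).hom.op).hom s := fun a => by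
    obtain ⟨y, hy⟩ := hT a
    obtain ⟨i, x, rfl⟩ := preColim_rep F y
    exact ⟨i, x, (stage_eq F x).trans hy⟩
  choose i x hx using this
  have := Fintype.ofFinite ι
  obtain ⟨m, hm⟩ := IsFiltered.sup_objs_exists (Finset.univ.image i)
  let f : ∀ a, i a ⟶ m := fun a => (hm (Finset.mem_image_of_mem i (Finset.mem_univ a))).some
  let Φ := Over.forget U
  have : ∀ b : Fin 2 → ι, ∃ (j : I) (g : m ⟶ j),
      trans F g _ (((F.obj m).obj.map (Φ.map (Pi.π (fun k => Y (b k)) 0)).op).hom
          (trans F (f (b 0)) _ (x (b 0))) -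
        ((F.obj m).obj.map (Φ.map (Pi.π (fun k => Y (b k)) 1)).op).hom
          (trans F (f (b 1)) _ (x (b 1)))) = 0 := fun b => by
    refine exists_killed F hC (hprod 1 b) _ (stage_res_sub F _ _ _ _ _ _ ?_)
    refine (congrArg _ (hx (b 0))).trans (Eq.trans ?_ (congrArg _ (hx (b 1))).symm)
    refine (map_op_comp_apply (colimit F).obj _ _ s).symm.trans
      (Eq.trans ?_ (map_op_comp_apply (colimit F).obj _ _ s))
    exact congrArg (fun t => ((colimit F).obj.map t.op).hom s) ((ctxOver Y).comm b)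
  choose j g hg using this
  obtain ⟨k, e, he⟩ := exists_common j g
  obtain ⟨z, hz⟩ := exists_comp0 Y (Φ.op ⋙ (F.obj k).obj) fun a => trans F (f a ≫ e) _ (x a)
  have hzd : (((cechComplexFunctor Y).obj (Φ.op ⋙ (F.obj k).obj)).d 0 1).hom z = 0 := by
    rw [d_zero_eq_zero_iff]
    intro b
    rw [hz]
    obtain ⟨h, hh⟩ := he b
    exact trans_res_sub F _ _ _ h e hh _ _ _ _ (hg b)
  obtain ⟨t, ht⟩ := exists_glue (ctxOver Y) (F := F.obj k) hcov z hzd
  refine ⟨k, t, res0_injective (ctxOver Y) (F := colimit F) hcov fun a => ?_⟩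
  refine (stage_res F (Y a).hom t).symm.trans ((congrArg (stage F k _) (ht a)).trans ?_)
  rw [hz]
  exact (stage_trans F (f a ≫ e) (x a)).trans (hx a)

/-- Cech acyclicity passes to filtered colimits. -/
lemma exactAt_cech_colimit {U : C} {ι : Type u} {Y : ι → Over U} (hY : Cov U ι Y) (p : ℕ)
    (h : ∀ i, (cechCx (Over.forget U) Y (F.obj i)).ExactAt (p + 1)) :
    (cechCx (Over.forget U) Y (colimit F)).ExactAt (p + 1) := by
  classical
  obtain ⟨hfin, -, -, hprod⟩ := hC.mem U ι Y hY
  rw [HomologicalComplex.exactAt_iff' _ p (p + 1) (p + 2) (by simp) (by simp),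
    ShortComplex.ab_exact_iff]
  intro z hz
  let Φ := Over.forget U
  have : ∀ b : Fin (p + 2) → ι, ∃ (i : I) (x : (F.obj i).obj.obj (op (Φ.obj (∏ᶜ fun k => Y (b k))))),
      stage F i _ x = cev Y (Φ.op ⋙ (colimit F).obj) (p + 1) b z := fun b =>
    exists_rep F hC (hprod _ b) _
  choose i x hx using this
  have := Fintype.ofFinite ι
  obtain ⟨m, hm⟩ := IsFiltered.sup_objs_exists (Finset.univ.image i)
  let f : ∀ b, i b ⟶ m := fun b => (hm (Finset.mem_image_of_mem i (Finset.mem_univ b))).some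
  obtain ⟨zm, hzm⟩ := exists_cev Y (Φ.op ⋙ (F.obj m).obj) fun b => trans F (f b) _ (x b)
  let cm : ∀ (j : I) (n : ℕ), ((cechComplexFunctor Y).obj (Φ.op ⋙ (F.obj j).obj)).X n →+
      ((cechComplexFunctor Y).obj (Φ.op ⋙ (colimit F).obj)).X n := fun j n =>
    (((cechComplexFunctor Y).map (Functor.whiskerLeft Φ.op (colimit.ι F j).hom)).f n).hom
  have hcm : cm m (p + 1) zm = z := cev_ext Y _ fun b => by
    refine (cev_map Y _ _ _ b zm).trans ?_
    rw [hzm]
    exact (stage_trans F (f b) (x b)).trans (hx b)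
  have hdz : ∀ b : Fin (p + 3) → ι,
      stage F m _ (cev Y (Φ.op ⋙ (F.obj m).obj) (p + 2) b
        ((((cechComplexFunctor Y).obj (Φ.op ⋙ (F.obj m).obj)).d (p + 1) (p + 2)).hom zm)) = 0 := by
    intro b
    refine (cev_map Y _ (Functor.whiskerLeft Φ.op (colimit.ι F m).hom) _ b _).symm.trans ?_
    have hc := ConcreteCategory.congr_hom
      (((cechComplexFunctor Y).map (Functor.whiskerLeft Φ.op (colimit.ι F m).hom)).comm (p + 1) (p + 2)) zm
    refine (congrArg (cev Y _ (p + 2) b) (hc.symm.trans ?_)).trans (map_zero _)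
    exact (congrArg (((cechComplexFunctor Y).obj (Φ.op ⋙ (colimit F).obj)).d (p + 1) (p + 2)).hom hcm).trans hz
  choose j g hg using fun b => exists_killed F hC (hprod _ b) _ (hdz b)
  obtain ⟨k, e, he⟩ := exists_common j g
  let tm := ((cechComplexFunctor Y).map (Functor.whiskerLeft Φ.op (F.map e).hom))
  have hd0 : (((cechComplexFunctor Y).obj (Φ.op ⋙ (F.obj k).obj)).d (p + 1) (p + 2)).hom
      ((tm.f (p + 1)).hom zm) = 0 := by
    refine (ConcreteCategory.congr_hom (tm.comm (p + 1) (p + 2)) zm).trans (cev_ext Y _ fun b => ?_)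
    refine (cev_map Y _ _ _ b _).trans (Eq.trans ?_ (map_zero _).symm)
    obtain ⟨h, hh⟩ := he b
    show trans F e _ _ = 0
    exact (congrArg (fun t => trans F t _ _) hh.symm).trans
      ((trans_trans F (g b) h _).symm.trans ((congrArg (trans F h _) (hg b)).trans (map_zero _)))
  have hk := h k
  rw [HomologicalComplex.exactAt_iff' _ p (p + 1) (p + 2) (by simp) (by simp),
    ShortComplex.ab_exact_iff] at hk
  obtain ⟨w, hw⟩ := hk _ hd0
  refine ⟨cm k p w, ?_⟩
  refine (ConcreteCategory.congr_hom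
    (((cechComplexFunctor Y).map (Functor.whiskerLeft Φ.op (colimit.ι F k).hom)).comm p (p + 1)) w).trans ?_
  refine (congrArg (cm k (p + 1)) hw).trans (cev_ext Y _ fun b => ?_)
  refine (cev_map Y _ _ _ b _).trans (Eq.trans ?_ (congrArg (cev Y _ (p + 1) b) hcm))
  refine Eq.trans ?_ (cev_map Y _ _ _ b zm).symm
  refine (congrArg (stage F k _) (cev_map Y _ _ _ b zm)).trans ?_
  exact stage_trans F e _

end Stages

section Embedding

variable (F : I ⥤ Sheaf J AddCommGrpCat.{u})

/-- An injective hull of a member of a system. -/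
noncomputable abbrev injHull (j : I) : Sheaf J AddCommGrpCat.{u} := Injective.under (F.obj j)

/-- A system of injective sheaves containing a given system. -/
noncomputable def injSystem : I ⥤ Sheaf J AddCommGrpCat.{u} where
  obj i := ∏ᶜ fun p : Σ j, (i ⟶ j) => injHull F p.1
  map {i i'} f := Pi.lift fun p => Pi.π (fun p : Σ j, (i ⟶ j) => injHull F p.1) ⟨p.1, f ≫ p.2⟩
  map_id i := Pi.hom_ext _ _ fun p => by
    obtain ⟨j, g⟩ := p
    rw [Pi.lift_π, Category.id_comp]
    rfl
  map_comp {i i' i''} f g := Pi.hom_ext _ _ fun p => by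
    obtain ⟨j, h⟩ := p
    simp only [Pi.lift_π, Category.assoc]
    exact congrArg (β := (∏ᶜ fun p : Σ j, (i ⟶ j) => injHull F p.1) ⟶ injHull F j)
      (fun t => Pi.π (fun p : Σ j, (i ⟶ j) => injHull F p.1) ⟨j, t⟩) (Category.assoc f g h)

/-- The embedding into the system of injectives. -/
noncomputable def toInjSystem : F ⟶ injSystem F where
  app i := Pi.lift fun p : Σ j, (i ⟶ j) => F.map p.2 ≫ Injective.ι (F.obj p.1)
  naturality i i' f := Pi.hom_ext _ _ fun p => by
    obtain ⟨j, g⟩ := p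
    show (F.map f ≫ Pi.lift _) ≫ Pi.π _ _ = (Pi.lift _ ≫ Pi.lift _) ≫ Pi.π _ _
    simp only [Category.assoc, Pi.lift_π, Functor.map_comp]

omit [HasPullbacks C] [IsFiltered I] in
lemma injective_injSystem (i : I) : Injective ((injSystem F).obj i) :=
  inferInstanceAs (Injective (∏ᶜ fun p : Σ j, (i ⟶ j) => injHull F p.1))

instance mono_toInjSystem_app (i : I) : Mono ((toInjSystem F).app i) := by
  have h : (toInjSystem F).app i ≫ Pi.π (fun p : Σ j, (i ⟶ j) => injHull F p.1) ⟨i, 𝟙 i⟩ =
      Injective.ι (F.obj i) := by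
    show Pi.lift _ ≫ Pi.π _ _ = _
    simp
  exact mono_of_mono_fac h

instance mono_toInjSystem : Mono (toInjSystem F) := NatTrans.mono_of_mono_app _

end Embedding

section Cohomology

section ExtLemmas

variable {A : Type*} [Category A] [Abelian A] [HasExt.{u} A]

lemma comp_natural {P X₁ X₁' X₃ X₃' : A} {p : ℕ} (z : Ext.{u} P X₃ p) {e : Ext.{u} X₃ X₁ 1}
    {e' : Ext.{u} X₃' X₁' 1} {a : X₁ ⟶ X₁'} {c : X₃ ⟶ X₃'}
    (h : e.comp (Ext.mk₀ a) (add_zero 1) = (Ext.mk₀ c).comp e' (zero_add 1)) :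
    (z.comp e rfl).comp (Ext.mk₀ a) (add_zero (p + 1)) =
      (z.comp (Ext.mk₀ c) (add_zero p)).comp e' rfl := by
  rw [Ext.comp_assoc_of_third_deg_zero, h, Ext.comp_assoc_of_second_deg_zero]

lemma comp_extClass_eq_zero {P : A} {S : ShortComplex A} (hS : S.ShortExact) {p : ℕ}
    (w : Ext.{u} P S.X₂ p) : (w.comp (Ext.mk₀ S.g) (add_zero p)).comp hS.extClass rfl = 0 := by
  rw [Ext.comp_assoc_of_second_deg_zero, hS.comp_extClass, Ext.comp_zero]

lemma comp_mk₀_mk₀ {P X Y Z : A} {p : ℕ} (x : Ext.{u} P X p) (f : X ⟶ Y) (g : Y ⟶ Z) :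
    (x.comp (Ext.mk₀ f) (add_zero p)).comp (Ext.mk₀ g) (add_zero p) =
      x.comp (Ext.mk₀ (f ≫ g)) (add_zero p) := by
  rw [Ext.comp_assoc_of_third_deg_zero, Ext.mk₀_comp_mk₀]

lemma sub_eq_zero_comp {P X Y : A} {p : ℕ} (x x' : Ext.{u} P X p) (f : X ⟶ Y)
    (h : x.comp (Ext.mk₀ f) (add_zero p) = x'.comp (Ext.mk₀ f) (add_zero p)) :
    (x - x').comp (Ext.mk₀ f) (add_zero p) = 0 := by
  show (Ext.mk₀ f).postcomp P (add_zero p) (x - x') = 0
  rw [map_sub]
  exact sub_eq_zero.2 h

lemma eq_of_sub_comp {P X Y : A} {p : ℕ} (x x' : Ext.{u} P X p) (f : X ⟶ Y)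
    (h : (x - x').comp (Ext.mk₀ f) (add_zero p) = 0) :
    x.comp (Ext.mk₀ f) (add_zero p) = x'.comp (Ext.mk₀ f) (add_zero p) := by
  change (Ext.mk₀ f).postcomp P (add_zero p) (x - x') = 0 at h
  rw [map_sub] at h
  exact sub_eq_zero.1 h

end ExtLemmas

/-- Classes on the colimit come from stages and classes killed in it are killed at a later stage. -/
def CommutesWith (F : I ⥤ Sheaf J AddCommGrpCat.{u}) (U : C) (p : ℕ) : Prop :=
  (∀ y : Ext.{u} (CohCx.freeSheaf J U) (colimit F) p, ∃ (i : I) (x : Ext.{u} (CohCx.freeSheaf J U) (F.obj i) p),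
      x.comp (Ext.mk₀ (colimit.ι F i)) (add_zero p) = y) ∧
    ∀ (i : I) (x : Ext.{u} (CohCx.freeSheaf J U) (F.obj i) p),
      x.comp (Ext.mk₀ (colimit.ι F i)) (add_zero p) = 0 →
      ∃ (j : I) (f : i ⟶ j), x.comp (Ext.mk₀ (F.map f)) (add_zero p) = 0

variable {B : Set C} {Cov : ∀ (U : C) (ι : Type u), (ι → Over U) → Prop} (hC : FinCovClass J B Cov)
include hC

lemma commutesWith_zero (F : I ⥤ Sheaf J AddCommGrpCat.{u}) {U : C} (hU : U ∈ B) :
    CommutesWith F U 0 := by
  constructor
  · intro y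
    obtain ⟨φ, rfl⟩ := (Ext.mk₀_bijective _ _).2 y
    obtain ⟨i, s, hs⟩ := exists_rep F hC hU (secEquiv J U _ φ)
    refine ⟨i, Ext.mk₀ ((secEquiv J U _).symm s), ?_⟩
    rw [Ext.mk₀_comp_mk₀, secEquiv_symm_comp]
    exact congrArg Ext.mk₀ ((AddEquiv.symm_apply_eq _).2 hs)
  · intro i x hx
    obtain ⟨φ, rfl⟩ := (Ext.mk₀_bijective _ _).2 x
    rw [Ext.mk₀_comp_mk₀, Ext.mk₀_eq_zero_iff] at hx
    have h0 : stage F i U (secEquiv J U _ φ) = 0 := by
      refine (secEquiv_comp U φ (colimit.ι F i)).symm.trans ?_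
      rw [hx, map_zero]
    obtain ⟨j, f, hf⟩ := exists_killed F hC hU _ h0
    refine ⟨j, f, ?_⟩
    rw [Ext.mk₀_comp_mk₀, Ext.mk₀_eq_zero_iff]
    refine (secEquiv J U _).injective ?_
    rw [map_zero]
    exact (secEquiv_comp U φ (F.map f)).trans hf

/-- Cohomology on the class commutes with filtered colimits. -/
theorem commutesWith (p : ℕ) : ∀ (F : I ⥤ Sheaf J AddCommGrpCat.{u}) {U : C}, U ∈ B →
    CommutesWith F U p := by
  induction p with
  | zero => exact fun F {U} hU => commutesWith_zero hC F hU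
  | succ p ih =>
    intro F U hU
    let G := injSystem F
    let η := toInjSystem F
    let S : ShortComplex (I ⥤ Sheaf J AddCommGrpCat.{u}) :=
      ShortComplex.mk η (cokernel.π η) (cokernel.condition η)
    have hS : S.ShortExact := ⟨ShortComplex.exact_cokernel η⟩
    have hSi : ∀ i, (S.map ((evaluation I (Sheaf J AddCommGrpCat.{u})).obj i)).ShortExact := fun i =>
      hS.map_of_exact _
    have hSc : (S.map (colim (J := I) (C := Sheaf J AddCommGrpCat.{u}))).ShortExact :=
      hS.map_of_exact _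
    let Q := S.X₃
    let φ : ∀ i, S.map ((evaluation I (Sheaf J AddCommGrpCat.{u})).obj i) ⟶
        S.map (colim (J := I) (C := Sheaf J AddCommGrpCat.{u})) := fun i =>
      ShortComplex.homMk (colimit.ι F i) (colimit.ι G i) (colimit.ι Q i)
        (ι_colimMap η i) (ι_colimMap (cokernel.π η) i)
    have hnat : ∀ i, (hSi i).extClass.comp (Ext.mk₀ (colimit.ι F i)) (add_zero 1) =
        (Ext.mk₀ (colimit.ι Q i)).comp hSc.extClass (zero_add 1) := fun i =>
      ShortComplex.ShortExact.extClass_naturality (hSi i) hSc (φ i)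
    have hGacyc : ∀ (x : Ext.{u} (CohCx.freeSheaf J U) (colimit G) (p + 1)), x = 0 := fun x => by
      have h := Groth.Agent.S0861.result J B Cov
        (fun V ι Y hY => ⟨(hC.mem V ι Y hY).2.1, (hC.mem V ι Y hY).2.2.1, (hC.mem V ι Y hY).2.2.2⟩)
        hC.refine (colimit G) (fun V ι Y hY q => by
          refine (HomologicalComplex.exactAt_iff_isZero_homology _ _).1
            (exactAt_cech_colimit G hC hY q fun i => ?_)
          exact injAcyclic_over Y _ (injective_injSystem F i) q) U hU p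
      exact @Subsingleton.elim _ h _ _
    refine ⟨fun y => ?_, fun i x hx => ?_⟩
    · obtain ⟨z, rfl⟩ := Ext.covariant_sequence_exact₁ _ hSc y
        (hGacyc (y.comp (Ext.mk₀ (colimMap η)) (add_zero (p + 1)))) (rfl : p + 1 = p + 1)
      obtain ⟨i, z', rfl⟩ := (ih Q hU).1 z
      exact ⟨i, z'.comp (hSi i).extClass rfl, comp_natural z' (hnat i)⟩
    · have hx0 : x.comp (Ext.mk₀ (η.app i)) (add_zero (p + 1)) = 0 :=
        have := injective_injSystem F i
        Ext.eq_zero_of_injective _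
      obtain ⟨z, rfl⟩ := Ext.covariant_sequence_exact₁ _ (hSi i) x hx0 (rfl : p + 1 = p + 1)
      have hz : (z.comp (Ext.mk₀ (colimit.ι Q i)) (add_zero p)).comp hSc.extClass rfl = 0 :=
        (comp_natural z (hnat i)).symm.trans hx
      obtain ⟨w, hw⟩ := Ext.covariant_sequence_exact₃ _ hSc _ rfl hz
      obtain ⟨j, w', rfl⟩ := (ih G hU).1 w
      let k := IsFiltered.max i j
      let a : i ⟶ k := IsFiltered.leftToMax i j
      let b : j ⟶ k := IsFiltered.rightToMax i j
      let v := (w'.comp (Ext.mk₀ (G.map b)) (add_zero p)).comp (Ext.mk₀ ((cokernel.π η).app k)) (add_zero p)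
      have hzk : (z.comp (Ext.mk₀ (Q.map a)) (add_zero p) - v).comp (Ext.mk₀ (colimit.ι Q k)) (add_zero p) = 0 := by
        refine sub_eq_zero_comp _ _ _ ?_
        refine (comp_mk₀_mk₀ z (Q.map a) (colimit.ι Q k)).trans (Eq.trans ?_ ((comp_mk₀_mk₀ _ _ _).trans
          (comp_mk₀_mk₀ _ _ _)).symm)
        refine (congrArg (fun t => z.comp (Ext.mk₀ t) (add_zero p)) (colimit.w Q a)).trans ?_
        refine hw.symm.trans ((comp_mk₀_mk₀ w' _ _).trans
          (congrArg (fun t => w'.comp (Ext.mk₀ t) (add_zero p)) ?_))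
        show colimit.ι G j ≫ colimMap (cokernel.π η) = G.map b ≫ (cokernel.π η).app k ≫ colimit.ι Q k
        rw [← ι_colimMap, ← Category.assoc, colimit.w]
      obtain ⟨l, c, hl⟩ := (ih Q hU).2 k _ hzk
      refine ⟨l, a ≫ c, ?_⟩
      have hnat' : (hSi i).extClass.comp (Ext.mk₀ (F.map (a ≫ c))) (add_zero 1) =
          (Ext.mk₀ (Q.map (a ≫ c))).comp (hSi l).extClass (zero_add 1) :=
        ShortComplex.ShortExact.extClass_naturality (hSi i) (hSi l)
          (ShortComplex.homMk (F.map (a ≫ c)) (G.map (a ≫ c)) (Q.map (a ≫ c))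
            (η.naturality (a ≫ c)) ((cokernel.π η).naturality (a ≫ c)))
      refine (comp_natural z hnat').trans ?_
      have hv : z.comp (Ext.mk₀ (Q.map (a ≫ c))) (add_zero p) =
          ((w'.comp (Ext.mk₀ (G.map b)) (add_zero p)).comp (Ext.mk₀ (G.map c)) (add_zero p)).comp
            (Ext.mk₀ ((cokernel.π η).app l)) (add_zero p) := by
        refine ((congrArg (fun t => z.comp (Ext.mk₀ t) (add_zero p)) (Q.map_comp a c)).trans
          (comp_mk₀_mk₀ z _ _).symm).trans ((eq_of_sub_comp _ _ _ hl).trans ?_)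
        refine (comp_mk₀_mk₀ _ _ _).trans (Eq.trans ?_ (comp_mk₀_mk₀ _ _ _).symm)
        exact congrArg (fun t => (w'.comp (Ext.mk₀ (G.map b)) (add_zero p)).comp (Ext.mk₀ t) (add_zero p))
          ((cokernel.π η).naturality c).symm
      refine (congrArg (fun t => Ext.comp t (hSi l).extClass rfl) hv).trans ?_
      exact comp_extClass_eq_zero (hSi l) _

/-- Cohomology on the class preserves filtered colimits. -/
theorem preservesColimit_cohomology {U : C} (hU : U ∈ B) (p : ℕ) (F : I ⥤ Sheaf J AddCommGrpCat.{u}) :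
    PreservesColimit F ((Sheaf.cohomologyPresheafFunctor J p).flip.obj (op U)) := by
  let H := (Sheaf.cohomologyPresheafFunctor J p).flip.obj (op U)
  let t := H.mapCocone (colimit.cocone F)
  refine preservesColimit_of_preserves_colimit_cocone (colimit.isColimit F) ?_
  obtain ⟨hsur, hkill⟩ := commutesWith hC p F hU
  have : IsIso ((colimit.isColimit (F ⋙ H)).desc t) := by
    rw [ConcreteCategory.isIso_iff_bijective]
    refine ⟨(injective_iff_map_eq_zero ((colimit.isColimit (F ⋙ H)).desc t).hom).2 fun y hy => ?_,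
      fun y => ?_⟩
    · obtain ⟨i, x, rfl⟩ := Concrete.colimit_exists_rep (F ⋙ H) y
      obtain ⟨j, f, hf⟩ := hkill i x
        ((ConcreteCategory.congr_hom (colimit.ι_desc t i) x).symm.trans hy)
      refine ((ConcreteCategory.congr_hom (colimit.w (F ⋙ H) f) x).symm).trans ?_
      exact (congrArg (colimit.ι (F ⋙ H) j).hom hf).trans (map_zero _)
    · obtain ⟨i, x, rfl⟩ := hsur y
      exact ⟨(colimit.ι (F ⋙ H) i).hom x, ConcreteCategory.congr_hom (colimit.ι_desc t i) x⟩
  exact IsColimit.ofPointIso (colimit.isColimit (F ⋙ H))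

end Cohomology

end Groth.Agent.Der55
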