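import Mathlib.CategoryTheory.Abelian.Refinements
import Mathlib.CategoryTheory.Abelian.Exact
import Mathlib.Algebra.Homology.ShortComplex.ShortExact

/-!
# Finitely presented objects relative to a class of objects in an abelian category
-/

universe v u

open CategoryTheory Limits

namespace Groth.Agent.Der55.FinPres

variable {A : Type u} [Category.{v} A] [Abelian A]

/-- The kernel of a morphism is generated by an object of the class. -/
def KerFG (FS : A → Prop) {P X : A} (f : P ⟶ X) : Prop :=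
  ∃ (S : A) (s : S ⟶ P) (w : s ≫ f = 0), FS S ∧ (ShortComplex.mk s f w).Exact

/-- The object is the cokernel of a morphism between objects of the class. -/
def Pres (FS : A → Prop) (F : A) : Prop :=
  ∃ (P₀ : A) (e : P₀ ⟶ F), FS P₀ ∧ Epi e ∧ KerFG FS e

/-- Morphisms out of objects of the class lift after refinement. -/
def HasLifts (FS : A → Prop) : Prop :=
  ∀ {M N : A} (e : M ⟶ N) [Epi e] {P : A}, FS P → ∀ f : P ⟶ N,
    ∃ (P' : A) (π : P' ⟶ P) (f' : P' ⟶ M), FS P' ∧ Epi π ∧ f' ≫ e = π ≫ f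

/-- Lifts after refinements with finitely generated kernels. -/
def HasGoodLifts (FS : A → Prop) : Prop :=
  ∀ {M N : A} (e : M ⟶ N) [Epi e] {P : A}, FS P → ∀ f : P ⟶ N,
    ∃ (P' : A) (π : P' ⟶ P) (f' : P' ⟶ M), FS P' ∧ Epi π ∧ f' ≫ e = π ≫ f ∧ KerFG FS π

variable {FS : A → Prop}

/-- Refinement of a morphism through an epimorphism. -/
lemma exists_refine {M N : A} (e : M ⟶ N) [Epi e] {T : A} (x : T ⟶ N) :
    ∃ (T' : A) (p : T' ⟶ T) (_ : Epi p) (y : T' ⟶ M), p ≫ x = y ≫ e :=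
  (epi_iff_surjective_up_to_refinements e).1 inferInstance x

/-- Exactness from refinements. -/
lemma exact_of_lifts {S P X : A} (s : S ⟶ P) (f : P ⟶ X) (w : s ≫ f = 0)
    (h : ∀ (T : A) (x : T ⟶ P), x ≫ f = 0 →
      ∃ (T' : A) (p : T' ⟶ T) (_ : Epi p) (y : T' ⟶ S), p ≫ x = y ≫ s) :
    (ShortComplex.mk s f w).Exact :=
  (ShortComplex.exact_iff_exact_up_to_refinements _).2 fun {T} x hx => h T x hx

lemma pres_iff {F : A} :
    Pres FS F ↔ ∃ (P₁ P₀ : A) (ψ : P₁ ⟶ P₀), FS P₁ ∧ FS P₀ ∧ Nonempty (F ≅ cokernel ψ) := by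
  constructor
  · rintro ⟨P₀, e, hP₀, he, S, s, w, hS, hex⟩
    exact ⟨S, P₀, s, hS, hP₀, ⟨IsColimit.coconePointUniqueUpToIso hex.gIsCokernel (colimit.isColimit (parallelPair s 0))⟩⟩
  · rintro ⟨P₁, P₀, ψ, h₁, h₀, ⟨i⟩⟩
    have w : ψ ≫ cokernel.π ψ ≫ i.inv = 0 := by rw [cokernel.condition_assoc, zero_comp]
    refine ⟨P₀, cokernel.π ψ ≫ i.inv, h₀, inferInstance, P₁, ψ, w, h₁, ?_⟩
    refine exact_of_lifts ψ _ w fun T x hx => ?_
    rw [← Category.assoc] at hx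
    obtain ⟨T', p, hp, y, hy⟩ := (ShortComplex.exact_cokernel ψ).exact_up_to_refinements x
      ((cancel_mono i.inv).1 (hx.trans zero_comp.symm))
    exact ⟨T', p, hp, y, hy⟩

variable (hbi : ∀ {X Y : A}, FS X → FS Y → FS (X ⊞ Y))

include hbi

/-- Cokernels of morphisms between finitely presented objects. -/
theorem pres_cokernel (hL : HasLifts FS) {F G : A} (α : F ⟶ G) (hF : Pres FS F) (hG : Pres FS G) :
    Pres FS (cokernel α) := by
  obtain ⟨P₀, e, hP₀, he, -⟩ := hF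
  obtain ⟨Q₀, q, hQ₀, hq, S, s, w, hS, hex⟩ := hG
  obtain ⟨P', π, a, hP', hπ, ha⟩ := hL q hP₀ (e ≫ α)
  have : Epi (q ≫ cokernel.π α) := inferInstance
  have w' : biprod.desc s a ≫ q ≫ cokernel.π α = 0 := by
    refine biprod.hom_ext' _ _ ?_ ?_
    · rw [biprod.inl_desc_assoc, reassoc_of% w, zero_comp, comp_zero]
    · rw [biprod.inr_desc_assoc, reassoc_of% ha, cokernel.condition, comp_zero, comp_zero, comp_zero]
  refine ⟨Q₀, q ≫ cokernel.π α, hQ₀, this, S ⊞ P', biprod.desc s a, w', hbi hS hP', ?_⟩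
  refine exact_of_lifts _ _ _ fun T x hx => ?_
  obtain ⟨T₁, p₁, _, t, ht⟩ := (ShortComplex.exact_cokernel α).exact_up_to_refinements (x ≫ q)
    (by simpa using hx)
  dsimp at ht
  obtain ⟨T₂, p₂, _, y, hy⟩ := exists_refine e t
  obtain ⟨T₃, p₃, _, y', hy'⟩ := exists_refine π y
  have h0 : (p₃ ≫ p₂ ≫ p₁ ≫ x - y' ≫ a) ≫ q = 0 := by
    rw [Preadditive.sub_comp, sub_eq_zero]
    simp only [Category.assoc, ha]
    rw [← reassoc_of% hy', ← reassoc_of% hy, ← ht]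
  obtain ⟨T₄, p₄, _, z, hz⟩ := hex.exact_up_to_refinements _ h0
  dsimp at hz
  refine ⟨T₄, p₄ ≫ p₃ ≫ p₂ ≫ p₁, inferInstance, biprod.lift z (p₄ ≫ y'), ?_⟩
  rw [biprod.lift_desc, ← hz, Preadditive.comp_sub]
  simp

/-- An epimorphism from the class onto a finitely presented object has finitely generated kernel. -/
theorem kerFG_of_epi (hL : HasLifts FS) (hG : HasGoodLifts FS) {P F : A} (e : P ⟶ F) [Epi e]
    (hP : FS P) (hF : Pres FS F) : KerFG FS e := by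
  obtain ⟨Q₀, q, hQ₀, hq, S, s, w, hS, hex⟩ := hF
  obtain ⟨Q', π, b, hQ', hπ, hb, R, r, wr, hR, hrex⟩ := hG e hQ₀ q
  obtain ⟨S', π₂, s', hS', hπ₂, hs'⟩ := hL π hS s
  have wq : biprod.desc r s' ≫ π ≫ q = 0 := by
    refine biprod.hom_ext' _ _ ?_ ?_
    · rw [biprod.inl_desc_assoc, reassoc_of% wr, zero_comp, comp_zero]
    · rw [biprod.inr_desc_assoc, reassoc_of% hs', w, comp_zero, comp_zero]
  have hqex : (ShortComplex.mk _ _ wq).Exact := exact_of_lifts _ _ _ fun T x hx => by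
    obtain ⟨T₁, p₁, _, z, hz⟩ := hex.exact_up_to_refinements (x ≫ π) (by simpa using hx)
    dsimp at hz
    obtain ⟨T₂, p₂, _, z', hz'⟩ := exists_refine π₂ z
    have h0 : (p₂ ≫ p₁ ≫ x - z' ≫ s') ≫ π = 0 := by
      rw [Preadditive.sub_comp, sub_eq_zero]
      simp only [Category.assoc, hs']
      rw [← reassoc_of% hz', ← hz]
    obtain ⟨T₃, p₃, _, v, hv⟩ := hrex.exact_up_to_refinements _ h0
    dsimp at hv
    refine ⟨T₃, p₃ ≫ p₂ ≫ p₁, inferInstance, biprod.lift v (p₃ ≫ z'), ?_⟩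
    rw [biprod.lift_desc, ← hv, Preadditive.comp_sub]
    simp
  have : Epi (π ≫ q) := inferInstance
  obtain ⟨P', π₃, a, hP', hπ₃, ha⟩ := hL (π ≫ q) hP e
  let t := biprod.desc r s'
  have w' : biprod.desc (t ≫ b) (π₃ - a ≫ b) ≫ e = 0 := by
    refine biprod.hom_ext' _ _ ?_ ?_
    · rw [biprod.inl_desc_assoc, Category.assoc, hb, wq, comp_zero]
    · rw [biprod.inr_desc_assoc, Preadditive.sub_comp, Category.assoc, hb, ha, sub_self, comp_zero]
  refine ⟨(R ⊞ S') ⊞ P', _, w', hbi (hbi hR hS') hP', exact_of_lifts _ _ _ fun T x hx => ?_⟩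
  obtain ⟨T₁, p₁, _, x', hx'⟩ := exists_refine π₃ x
  have h0 : (x' ≫ a) ≫ π ≫ q = 0 := by
    rw [Category.assoc, ha, ← reassoc_of% hx', hx, comp_zero]
  obtain ⟨T₂, p₂, _, v, hv⟩ := hqex.exact_up_to_refinements _ h0
  dsimp at hv
  refine ⟨T₂, p₂ ≫ p₁, inferInstance, biprod.lift v (p₂ ≫ x'), ?_⟩
  rw [biprod.lift_desc, ← Category.assoc v, ← hv]
  simp only [Category.assoc, Preadditive.comp_sub, add_sub_cancel]
  rw [hx']

/-- Extensions of finitely presented objects. -/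
theorem pres_extension (hL : HasLifts FS) (hG : HasGoodLifts FS) (S : ShortComplex A) (hS : S.ShortExact)
    (h₁ : Pres FS S.X₁) (h₃ : Pres FS S.X₃) : Pres FS S.X₂ := by
  have := hS.mono_f
  have := hS.epi_g
  obtain ⟨P₁, e₁, hP₁, he₁, S₁, s₁, w₁, hS₁, hex₁⟩ := h₁
  obtain ⟨Q₀, q, hQ₀, hq, -⟩ := id h₃
  obtain ⟨Q', π, l, hQ', hπ, hl⟩ := hL S.g hQ₀ q
  have : Epi (l ≫ S.g) := by rw [hl]; infer_instance
  obtain ⟨T, t, wt, hT, htex⟩ := kerFG_of_epi hbi hL hG (l ≫ S.g) hQ' h₃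
  obtain ⟨T', π₄, m, hT', hπ₄, hm⟩ := hL e₁ hT (hS.exact.lift (t ≫ l) (by rw [Category.assoc, wt]))
  have hmf : m ≫ e₁ ≫ S.f = π₄ ≫ t ≫ l := by rw [reassoc_of% hm, hS.exact.lift_f]
  let e : P₁ ⊞ Q' ⟶ S.X₂ := biprod.desc (e₁ ≫ S.f) l
  have he : Epi e := (epi_iff_surjective_up_to_refinements e).2 fun {T₀} x => by
    obtain ⟨T₁, p₁, _, y, hy⟩ := exists_refine (l ≫ S.g) (x ≫ S.g)
    obtain ⟨z, hz⟩ : ∃ z : T₁ ⟶ S.X₁, z ≫ S.f = p₁ ≫ x - y ≫ l :=
      ⟨hS.exact.lift (p₁ ≫ x - y ≫ l)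
        (by rw [Preadditive.sub_comp, Category.assoc, Category.assoc, hy, sub_self]),
        hS.exact.lift_f _ _⟩
    obtain ⟨T₂, p₂, _, v, hv⟩ := exists_refine e₁ z
    refine ⟨T₂, p₂ ≫ p₁, inferInstance, biprod.lift v (p₂ ≫ y), ?_⟩
    show _ = _ ≫ biprod.desc _ _
    rw [biprod.lift_desc, ← reassoc_of% hv, hz, Preadditive.comp_sub]
    simp
  let s₂ : T' ⟶ P₁ ⊞ Q' := biprod.lift (-m) (π₄ ≫ t)
  have w' : biprod.desc (s₁ ≫ biprod.inl) s₂ ≫ e = 0 := by
    refine biprod.hom_ext' _ _ ?_ ?_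
    · rw [biprod.inl_desc_assoc, Category.assoc, biprod.inl_desc, reassoc_of% w₁, zero_comp, comp_zero]
    · rw [biprod.inr_desc_assoc, biprod.lift_desc, Preadditive.neg_comp, hmf, Category.assoc,
        neg_add_cancel, comp_zero]
  refine ⟨P₁ ⊞ Q', e, hbi hP₁ hQ', he, S₁ ⊞ T', _, w', hbi hS₁ hT', exact_of_lifts _ _ _ fun U x hx => ?_⟩
  have hxe : x ≫ e = (x ≫ biprod.fst) ≫ e₁ ≫ S.f + (x ≫ biprod.snd) ≫ l := by
    rw [show e = biprod.fst ≫ e₁ ≫ S.f + biprod.snd ≫ l from biprod.desc_eq, Preadditive.comp_add]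
    simp only [Category.assoc]
  rw [hxe] at hx
  have hy : (x ≫ biprod.snd) ≫ l ≫ S.g = 0 := by
    have := congrArg (· ≫ S.g) hx
    simpa [S.zero] using this
  obtain ⟨U₁, p₁, _, z, hz⟩ := htex.exact_up_to_refinements _ hy
  dsimp at hz
  obtain ⟨U₂, p₂, _, z', hz'⟩ := exists_refine π₄ z
  have h0 : (p₂ ≫ p₁ ≫ x ≫ biprod.fst + z' ≫ m) ≫ e₁ = 0 := by
    rw [← cancel_mono S.f, zero_comp, Category.assoc, Preadditive.add_comp]
    simp only [Category.assoc, hmf]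
    rw [← reassoc_of% hz', ← reassoc_of% hz, ← Preadditive.comp_add, ← Preadditive.comp_add]
    simp only [Category.assoc] at hx
    rw [hx, comp_zero, comp_zero]
  obtain ⟨U₃, p₃, _, v, hv⟩ := hex₁.exact_up_to_refinements _ h0
  dsimp at hv
  refine ⟨U₃, p₃ ≫ p₂ ≫ p₁, inferInstance, biprod.lift v (p₃ ≫ z'), ?_⟩
  rw [biprod.lift_desc]
  refine biprod.hom_ext _ _ ?_ ?_
  · simp only [s₂, Preadditive.add_comp, Category.assoc, biprod.inl_fst, Category.comp_id,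
      biprod.lift_fst, Preadditive.comp_neg, ← hv, Preadditive.comp_add]
    abel
  · simp only [s₂, Preadditive.add_comp, Category.assoc, biprod.inl_snd, comp_zero, zero_add,
      biprod.lift_snd]
    rw [← reassoc_of% hz', ← hz]

/-- With finitely generated kernels between objects of the class, morphisms into finitely presented
objects have finitely generated kernels. -/
theorem kerFG_of_pres (hL : HasLifts FS)
    (hker : ∀ {P Q : A} (φ : P ⟶ Q), FS P → FS Q → KerFG FS φ) {W F : A} (h : W ⟶ F) (hW : FS W)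
    (hF : Pres FS F) : KerFG FS h := by
  obtain ⟨Q₀, q, hQ₀, hq, S, s, w, hS, hex⟩ := hF
  obtain ⟨W', π, c, hW', hπ, hc⟩ := hL q hW h
  obtain ⟨K, k, wk, hK, hkex⟩ := hker (biprod.desc c (-s)) (hbi hW' hS) hQ₀
  have w' : (k ≫ biprod.fst ≫ π) ≫ h = 0 := by
    have h1 := congrArg (· ≫ q) wk
    simp only [Category.assoc, biprod.desc_eq, Preadditive.add_comp, Preadditive.comp_add,
      Preadditive.neg_comp, w, comp_zero, neg_zero, add_zero, hc, zero_comp] at h1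
    simpa [Category.assoc] using h1
  refine ⟨K, _, w', hK, exact_of_lifts _ _ _ fun T x hx => ?_⟩
  obtain ⟨T₁, p₁, _, x', hx'⟩ := exists_refine π x
  have h0 : (x' ≫ c) ≫ q = 0 := by rw [Category.assoc, hc, ← reassoc_of% hx', hx, comp_zero]
  obtain ⟨T₂, p₂, _, z, hz⟩ := hex.exact_up_to_refinements _ h0
  dsimp at hz
  have h1 : biprod.lift (p₂ ≫ x') z ≫ biprod.desc c (-s) = 0 := by
    rw [biprod.lift_desc, Category.assoc, hz, Preadditive.comp_neg, add_neg_cancel]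
  obtain ⟨T₃, p₃, _, v, hv⟩ := hkex.exact_up_to_refinements _ h1
  dsimp at hv
  refine ⟨T₃, p₃ ≫ p₂ ≫ p₁, inferInstance, v, ?_⟩
  rw [← reassoc_of% hv, biprod.lift_fst_assoc]
  simp [hx']

/-- Kernels of morphisms between finitely presented objects. -/
theorem pres_kernel (hL : HasLifts FS)
    (hker : ∀ {P Q : A} (φ : P ⟶ Q), FS P → FS Q → KerFG FS φ) {F G : A} (α : F ⟶ G)
    (hF : Pres FS F) (hG : Pres FS G) : Pres FS (kernel α) := by
  obtain ⟨P₀, e, hP₀, he, -⟩ := id hF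
  obtain ⟨S, s, w, hS, hex⟩ := kerFG_of_pres hbi hL hker (e ≫ α) hP₀ hG
  let k : S ⟶ kernel α := kernel.lift α (s ≫ e) (by rw [Category.assoc, w])
  have hk : Epi k := (epi_iff_surjective_up_to_refinements k).2 fun {T} x => by
    obtain ⟨T₁, p₁, _, y, hy⟩ := exists_refine e (x ≫ kernel.ι α)
    have h0 : y ≫ e ≫ α = 0 := by
      rw [← reassoc_of% hy, kernel.condition, comp_zero, comp_zero]
    obtain ⟨T₂, p₂, _, v, hv⟩ := hex.exact_up_to_refinements _ h0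
    dsimp at hv
    refine ⟨T₂, p₂ ≫ p₁, inferInstance, v, (cancel_mono (kernel.ι α)).1 ?_⟩
    simp only [k, Category.assoc, kernel.lift_ι, hy]
    rw [reassoc_of% hv]
  obtain ⟨R, r, wr, hR, hrex⟩ := kerFG_of_pres hbi hL hker (s ≫ e) hS hF
  have wk : r ≫ k = 0 := by
    rw [← cancel_mono (kernel.ι α), Category.assoc, kernel.lift_ι, wr, zero_comp]
  refine ⟨S, k, hS, hk, R, r, wk, hR, exact_of_lifts _ _ _ fun T x hx => ?_⟩
  exact hrex.exact_up_to_refinements x (by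
    show x ≫ s ≫ e = 0
    rw [← kernel.lift_ι α (s ≫ e) (by rw [Category.assoc, w]), reassoc_of% hx, zero_comp])

end Groth.Agent.Der55.FinPres
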