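import Groth.Agent.Der55.SumSubcomplex
import Groth.Agent.ModTensor.FreeOn
import Groth.Agent.ModPull.Sections
import Groth.Agent.SiteBase.ModGroth
import Groth.Prelude.Def_CohCx
import Mathlib.CategoryTheory.Sites.LocallySurjective

/-! Morphisms out of `j_{U!}O_U`, `U` quasi-compact, into direct sums have finite support. -/

universe u

open CategoryTheory Limits Opposite

namespace Groth.Agent.Der55

open ModTensor ModPull

variable {C : Type u} [SmallCategory C] {J : GrothendieckTopology C} {O : Sheaf J CommRingCat.{u}}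

section

variable {κ : Type u} (F : κ → ModSite.Mod O)

/-- The section is fixed by the projection onto finitely many summands. -/
def FiniteSupp {X : Cᵒᵖ} (y : ((fg O).obj (∐ F)).obj X) : Prop :=
  ∃ T : Finset κ, ((fg O).map (pr F (Iso.refl (∐ F)) (T : Set κ))).app X y = y

variable {F}

lemma FiniteSupp.mono' {X : Cᵒᵖ} {y : ((fg O).obj (∐ F)).obj X} {T T' : Finset κ} (h : T ⊆ T')
    (hy : ((fg O).map (pr F (Iso.refl (∐ F)) (T : Set κ))).app X y = y) :
    ((fg O).map (pr F (Iso.refl (∐ F)) (T' : Set κ))).app X y = y := by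
  conv_rhs => rw [← hy]
  conv_lhs => rw [← hy]
  show ((fg O).map (pr F _ _) ≫ (fg O).map (pr F _ _)).app X y = _
  rw [← Functor.map_comp, pr_comp_of_subset (Iso.refl (∐ F)) _ (Finset.coe_subset.2 h)]

lemma FiniteSupp.zero {X : Cᵒᵖ} : FiniteSupp F (0 : ((fg O).obj (∐ F)).obj X) :=
  ⟨∅, map_zero (((fg O).map (pr F (Iso.refl (∐ F)) ((∅ : Finset κ) : Set κ))).app X).hom⟩

lemma FiniteSupp.add {X : Cᵒᵖ} {y z : ((fg O).obj (∐ F)).obj X} (hy : FiniteSupp F y)
    (hz : FiniteSupp F z) : FiniteSupp F (y + z) := by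
  classical
  obtain ⟨T, hT⟩ := hy
  obtain ⟨T', hT'⟩ := hz
  refine ⟨T ∪ T', ?_⟩
  rw [map_add, FiniteSupp.mono' Finset.subset_union_left hT,
    FiniteSupp.mono' Finset.subset_union_right hT']

variable (F)

lemma finiteSupp_ι {X : Cᵒᵖ} (i : κ) (a : ((fg O).obj (F i)).obj X) :
    FiniteSupp F (((fg O).map (Sigma.ι F i)).app X a) := by
  classical
  refine ⟨{i}, ?_⟩
  show ((fg O).map (Sigma.ι F i) ≫ (fg O).map (pr F _ _)).app X a = _
  rw [← Functor.map_comp]
  have h := ι_pr (Iso.refl (∐ F)) (({i} : Finset κ) : Set κ) i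
  rw [Iso.refl_inv, Category.comp_id, if_pos (by simp)] at h
  rw [h]

/-- The comparison from the presheaf direct sum. -/
noncomputable def fromPre : (∐ fun i => (fg O).obj (F i)) ⟶ (fg O).obj (∐ F) :=
  Sigma.desc fun i => (fg O).map (Sigma.ι F i)

lemma finiteSupp_fromPre {X : Cᵒᵖ} (p : (∐ fun i => (fg O).obj (F i)).obj X) :
    FiniteSupp F ((fromPre F).app X p) := by
  let E := PresheafOfModules.evaluation (O.obj ⋙ forget₂ CommRingCat.{u} RingCat.{u}) X
  let hc := isColimitCofanMkObjOfIsColimit E (fun i => (fg O).obj (F i)) _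
    (coproductIsCoproduct fun i => (fg O).obj (F i))
  let R := ((O.obj ⋙ forget₂ CommRingCat.{u} RingCat.{u}).obj X)
  let M : ModuleCat.{u} R := (∐ fun i => (fg O).obj (F i)).obj X
  let S : Submodule R M :=
    { carrier := {p | FiniteSupp F ((fromPre F).app X p)}
      add_mem' := fun {p q} hp hq => by
        show FiniteSupp F ((fromPre F).app X (p + q))
        rw [map_add]
        exact hp.add hq
      zero_mem' := by
        show FiniteSupp F ((fromPre F).app X 0)
        rw [map_zero]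
        exact FiniteSupp.zero
      smul_mem' := fun r p ⟨T, hT⟩ => by
        refine ⟨T, ?_⟩
        rw [map_smul, map_smul, hT] }
  let q : E.obj (∐ fun i => (fg O).obj (F i)) ⟶ ModuleCat.of R (M ⧸ S) := ModuleCat.ofHom S.mkQ
  have hq : q = 0 := Cofan.IsColimit.hom_ext hc _ _ fun i => by
    ext a
    refine (Submodule.Quotient.mk_eq_zero S).2 ?_
    show FiniteSupp F ((Sigma.ι (fun i => (fg O).obj (F i)) i ≫ fromPre F).app X a)
    rw [fromPre, Sigma.ι_desc]
    exact finiteSupp_ι F i a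
  exact (Submodule.Quotient.mk_eq_zero S).1 (ConcreteCategory.congr_hom hq p)

/-- Sections of a direct sum are locally of finite support. -/
lemma locally_finiteSupp {W : C} (y : ((fg O).obj (∐ F)).obj (op W)) :
    Locally J W (fun V g => FiniteSupp F (rs ((fg O).obj (∐ F)) g.op y)) := by
  let P := ∐ fun i => (fg O).obj (F i)
  let φ : (sh O).obj P ⟶ ∐ F := ((shAdj O).homEquiv P (∐ F)).symm (fromPre F)
  have hφ : ∀ i, (sh O).map (Sigma.ι (fun i => (fg O).obj (F i)) i) ≫ φ =
      (shAdj O).counit.app (F i) ≫ Sigma.ι F i := fun i => by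
    refine ((shAdj O).homEquiv_naturality_left_symm _ _).symm.trans ?_
    rw [fromPre, Sigma.ι_desc, Adjunction.homEquiv_counit]
    exact (shAdj O).counit.naturality (Sigma.ι F i)
  have : Epi φ := ⟨fun {Z} g h e => Sigma.hom_ext _ _ fun i => by
    have := congrArg ((sh O).map (Sigma.ι (fun i => (fg O).obj (F i)) i) ≫ ·) e
    simp only [← Category.assoc, hφ] at this
    rw [Category.assoc, Category.assoc] at this
    exact (cancel_epi _).1 this⟩
  refine (locally_exists_app_eq φ y).bind fun V g ⟨m, hm⟩ => ?_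
  refine (locally_exists_shu P m).mono fun V' g' ⟨p, hp⟩ => ?_
  have key : rs ((fg O).obj (∐ F)) (g' ≫ g).op y = (fromPre F).app (op V') p := by
    rw [op_comp, rs_comp, ← hm, ← app_rs ((fg O).map φ), ← hp, shu_desc]
    exact congrArg (fun t : P ⟶ _ => t.app (op V') p) (Equiv.apply_symm_apply _ _)
  rw [key]
  exact finiteSupp_fromPre F p

/-- A map out of `j_{U!}O_U` with `U` quasi-compact has finite support. -/
theorem finFactor_of_isQcObject {U : C}
    (hU : CohCx.IsQcObject ((presheafToSheaf J (Type u)).obj (yoneda.obj U)))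
    (f : ModSite.freeOn O U ⟶ ∐ F) : TriCat.FinFactor f := by
  classical
  let y : ((fg O).obj (∐ F)).obj (op U) := (freeOnCorepr O U).homEquiv f
  obtain ⟨S, hS, hfin⟩ := locally_finiteSupp F y
  let h := fun V : C => (presheafToSheaf J (Type u)).obj (yoneda.obj V)
  let un := fun V : C => CategoryTheory.toSheafify J (yoneda.obj V)
  let I := Σ V : C, {g : V ⟶ U // S g}
  let φ : ∀ i : I, h i.1 ⟶ h U := fun i => (presheafToSheaf J (Type u)).map (yoneda.map i.2.1)
  have hφ : ∀ (i : I) (W : C) (b : W ⟶ i.1),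
      (φ i).hom.app (op W) ((un i.1).app (op W) b) = (un U).app (op W) (b ≫ i.2.1) := fun i W b =>
    (congrArg (fun t => t.app (op W) b) (toSheafify_naturality J (yoneda.map i.2.1))).symm
  have hnat : ∀ (V : C) {W W' : C} (g : W' ⟶ W) (a : W ⟶ V),
      (h V).obj.map g.op ((un V).app (op W) a) = (un V).app (op W') (g ≫ a) := fun V W W' g a =>
    (congrArg (fun t => t a) ((un V).naturality g.op)).symm
  have hsurj : CohCx.JointlySurjective φ := fun W s => by
    refine ⟨Sieve.bind (Presheaf.imageSieve (un U) (U := W) s).arrows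
      fun V g hg => S.pullback hg.choose, J.bind_covering (Presheaf.imageSieve_mem J (un U) (U := op W) s)
        (fun V g hg => J.pullback_stable _ hS), ?_⟩
    rintro V g ⟨V₁, g₁, g₂, hg₂, hg₁, rfl⟩
    refine ⟨⟨V, ⟨g₁ ≫ hg₂.choose, hg₁⟩⟩, (un V).app (op V) (𝟙 V), ?_⟩
    rw [hφ, Category.id_comp, ← hnat, hg₂.choose_spec, op_comp, Functor.map_comp]
    rfl
  obtain ⟨t, ht⟩ := hU I (fun i => h i.1) φ hsurj
  choose T hT using fun i : I => hfin i.2.1 i.2.2
  let T₀ : Finset κ := t.biUnion T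
  let ψ := pr F (Iso.refl (∐ F)) (T₀ : Set κ)
  have hy : ((fg O).map ψ).app (op U) y = y := by
    refine eq_of_locally' _ ?_
    obtain ⟨R, hR, hR'⟩ := ht U ((un U).app (op U) (𝟙 U))
    refine Locally.bind (P := fun V g => R g) ⟨R, hR, fun V g hg => hg⟩ fun V g hg => ?_
    obtain ⟨⟨i, hi⟩, x, hx⟩ := hR' V g hg
    refine Locally.bind (P := fun V' g' => Presheaf.imageSieve (un i.1) (U := V) x g')
      ⟨_, Presheaf.imageSieve_mem J (un i.1) (U := op V) x, fun V' g' hg' => hg'⟩
      fun V' g' ⟨b, hb⟩ => ?_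
    have he : (un U).app (op V') (b ≫ i.2.1) = (un U).app (op V') (g' ≫ g) := by
      rw [← hφ i V' b, hb]
      refine (congrArg (fun t => t x) ((φ i).hom.naturality g'.op)).trans ?_
      refine (congrArg ((h U).obj.map g'.op) hx).trans ?_
      rw [hnat, Category.comp_id, hnat]
    refine ⟨Presheaf.equalizerSieve (F := yoneda.obj U) (X := op V') (b ≫ i.2.1) (g' ≫ g),
      Presheaf.equalizerSieve_mem J (un U) (X := op V') _ _ he, fun V'' g'' hg'' => ?_⟩
    have e : (g'' ≫ g') ≫ g = (g'' ≫ b) ≫ i.2.1 := by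
      rw [Category.assoc, Category.assoc]
      exact (show g'' ≫ b ≫ i.2.1 = g'' ≫ g' ≫ g from hg'').symm
    show rs _ ((g'' ≫ g') ≫ g).op _ = rs _ ((g'' ≫ g') ≫ g).op y
    rw [e, op_comp, rs_comp, rs_comp, ← app_rs ((fg O).map ψ) i.2.1.op, show ψ = pr F (Iso.refl (∐ F)) (T₀ : Set κ) from rfl,
      FiniteSupp.mono' (Finset.subset_biUnion_of_mem T hi) (hT i)]
  have hf : f ≫ ψ = f := by
    refine (freeOnCorepr O U).homEquiv.injective ?_
    exact ((freeOnCorepr O U).homEquiv_comp ψ f).trans hy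
  have hψ : ψ = ∑ i ∈ T₀, TriCat.coprodProj F i ≫ Sigma.ι F i := by
    refine Sigma.hom_ext _ _ fun j => ?_
    have h := ι_pr (Iso.refl (∐ F)) (T₀ : Set κ) j
    rw [Iso.refl_inv, Category.comp_id] at h
    rw [h, Preadditive.comp_sum]
    split_ifs with hj
    · rw [Finset.sum_eq_single j (fun i _ hij => by
          rw [TriCat.ι_coprodProj_ne_assoc (Ne.symm hij), zero_comp])
        (fun hn => absurd (Finset.mem_coe.1 hj) hn), TriCat.ι_coprodProj_self_assoc]
    · refine (Finset.sum_eq_zero fun i hi => ?_).symm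
      rw [TriCat.ι_coprodProj_ne_assoc (fun e => hj (Finset.mem_coe.2 (by rwa [e]))), zero_comp]
  refine ⟨T₀, fun i => f ≫ TriCat.coprodProj F i, ?_⟩
  conv_lhs => rw [← hf, hψ, Preadditive.comp_sum]
  simp only [Category.assoc]

end

end Groth.Agent.Der55
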