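import Groth.Agent.Der55.FinPresFree
import Groth.Agent.Der55.QcSections
import Mathlib.CategoryTheory.Filtered.Basic
import Mathlib.CategoryTheory.Limits.Preserves.Basic

/-!
# Every module is a filtered colimit of finitely presented modules built from `j_{U!} O_U`
-/

universe v u

open CategoryTheory Limits Opposite

namespace Groth.Agent.Der55

namespace FinPres

variable {A : Type u} [Category.{v} A] [Abelian A] {FS : A → Prop}

/-- An object of the class is finitely presented. -/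
lemma pres_of_fs {P : A} (hP : FS P) : Pres FS P :=
  pres_iff.2 ⟨P, P, 0, hP, hP, ⟨cokernelZeroIsoTarget.symm⟩⟩

/-- Direct sums of finitely presented objects. -/
lemma pres_biprod (hbi : ∀ {X Y : A}, FS X → FS Y → FS (X ⊞ Y)) {F G : A} (hF : Pres FS F)
    (hG : Pres FS G) : Pres FS (F ⊞ G) := by
  obtain ⟨P, e, hP, he, S, s, w, hS, hex⟩ := hF
  obtain ⟨Q, q, hQ, hq, R, r, w', hR, hex'⟩ := hG
  have h : Epi (biprod.map e q) := inferInstance
  refine ⟨P ⊞ Q, biprod.map e q, hbi hP hQ, h, S ⊞ R, biprod.map s r,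
    biprod.hom_ext' _ _ (by simp [reassoc_of% w]) (by simp [reassoc_of% w']), hbi hS hR,
    exact_of_lifts _ _ _ fun T x hx => ?_⟩
  have h1 := congrArg (· ≫ biprod.fst) hx
  have h2 := congrArg (· ≫ biprod.snd) hx
  simp only [Category.assoc, biprod.map_fst, biprod.map_snd, zero_comp] at h1 h2
  rw [← Category.assoc] at h1 h2
  obtain ⟨T₁, p₁, _, a, ha⟩ := hex.exact_up_to_refinements _ h1
  obtain ⟨T₂, p₂, _, b, hb⟩ := hex'.exact_up_to_refinements (p₁ ≫ x ≫ biprod.snd)
    (by simp only [Category.assoc] at h2 ⊢; rw [h2, comp_zero])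
  dsimp at ha hb
  refine ⟨T₂, p₂ ≫ p₁, inferInstance, biprod.lift (p₂ ≫ a) b, biprod.hom_ext _ _ ?_ ?_⟩
  · simp [← ha]
  · simp [← hb]

end FinPres

open ModTensor ModPull

variable {C : Type u} [SmallCategory C] {J : GrothendieckTopology C} {O : Sheaf J CommRingCat.{u}}

/-- Morphisms agree if they agree on `j_{U!} O_U` for `U` in a covering class. -/
lemma hom_ext_of_freeOn {B : Set C}
    (hB : ∀ X : C, ∃ (κ : Type u) (Y : κ → C) (g : ∀ k, Y k ⟶ X), Sieve.ofArrows Y g ∈ J X ∧ ∀ k, Y k ∈ B)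
    {M N : ModSite.Mod O} (a b : M ⟶ N)
    (h : ∀ U ∈ B, ∀ g : ModSite.freeOn O U ⟶ M, g ≫ a = g ≫ b) : a = b := by
  refine (fg O).map_injective (PresheafOfModules.hom_ext fun X => ?_)
  ext x
  obtain ⟨κ, Y, g, hcov, hY⟩ := hB X.unop
  refine eq_of_locally (J := J) (H := (fg O).obj N) N.isSheaf hcov fun W f hf => ?_
  obtain ⟨Z, c, d, ⟨k⟩, rfl⟩ := hf
  rw [op_comp, rs_comp, rs_comp]
  refine congrArg (rs ((fg O).obj N) c.op) ?_
  have h' := congrArg secOf (h _ (hY k) (homOf (rs ((fg O).obj M) (g k).op x)))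
  rw [secOf_comp, secOf_comp, secOf_homOf] at h'
  exact (app_rs _ _ _).symm.trans (h'.trans (app_rs _ _ _))

section Colim

variable (O) (B : Set C) (F : ModSite.Mod O)

/-- Finitely presented modules over `F`. -/
structure Idx : Type u where
  m : ℕ
  n : ℕ
  V : Fin m → C
  U : Fin n → C
  hV : ∀ j, V j ∈ B
  hU : ∀ i, U i ∈ B
  ψ : (∐ fun j => ModSite.freeOn O (V j)) ⟶ ∐ fun i => ModSite.freeOn O (U i)
  h : cokernel ψ ⟶ F

variable {O B F}

/-- The module of an index. -/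
noncomputable abbrev Idx.X (a : Idx O B F) : ModSite.Mod O := cokernel a.ψ

noncomputable instance : SmallCategory (Idx O B F) where
  Hom a b := { φ : a.X ⟶ b.X // φ ≫ b.h = a.h }
  id a := ⟨𝟙 _, Category.id_comp _⟩
  comp f g := ⟨f.1 ≫ g.1, by rw [Category.assoc, g.2, f.2]⟩
  id_comp f := Subtype.ext (Category.id_comp _)
  comp_id f := Subtype.ext (Category.comp_id _)
  assoc f g k := Subtype.ext (Category.assoc _ _ _)

lemma Idx.pres (a : Idx O B F) : FinPres.Pres (IsFS O B) a.X :=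
  pres_iff_fin.2 ⟨a.m, a.n, a.V, a.U, a.ψ, a.hV, a.hU, ⟨Iso.refl _⟩⟩

/-- Any finitely presented module over `F` is isomorphic to an index. -/
lemma Idx.exists_iso {M : ModSite.Mod O} (hM : FinPres.Pres (IsFS O B) M) (f : M ⟶ F) :
    ∃ (a : Idx O B F) (i : M ≅ a.X), i.hom ≫ a.h = f := by
  obtain ⟨m, n, V, U, ψ, hV, hU, ⟨i⟩⟩ := pres_iff_fin.1 hM
  exact ⟨⟨m, n, V, U, hV, hU, ψ, i.inv ≫ f⟩, i, i.hom_inv_id_assoc f⟩

lemma pres_coprod {κ : Type} [Finite κ] (U : κ → C) (hU : ∀ k, U k ∈ B) :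
    FinPres.Pres (IsFS O B) (∐ fun k => ModSite.freeOn O (U k)) :=
  FinPres.pres_of_fs (isFS_coprod U hU)

variable (hB₁ : ∀ X : C, ∃ (κ : Type u) (Y : κ → C) (g : ∀ k, Y k ⟶ X),
    Sieve.ofArrows Y g ∈ J X ∧ ∀ k, Y k ∈ B)
  (hB₂ : ∀ U ∈ B, CohCx.IsQcObject ((presheafToSheaf J (Type u)).obj (yoneda.obj U)))
include hB₁ hB₂

theorem isFiltered_idx : IsFiltered (Idx O B F) := by
  have hL : FinPres.HasLifts (IsFS O B) := hasLifts hB₁ hB₂
  have : IsFilteredOrEmpty (Idx O B F) := by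
    refine ⟨fun a b => ?_, fun a b f g => ?_⟩
    · obtain ⟨c, i, hi⟩ := Idx.exists_iso (FinPres.pres_biprod IsFS.biprod a.pres b.pres)
        (Limits.biprod.desc a.h b.h)
      exact ⟨c, ⟨Limits.biprod.inl ≫ i.hom, by rw [Category.assoc, hi, Limits.biprod.inl_desc]⟩,
        ⟨Limits.biprod.inr ≫ i.hom, by rw [Category.assoc, hi, Limits.biprod.inr_desc]⟩, trivial⟩
    · obtain ⟨c, i, hi⟩ := Idx.exists_iso
        (FinPres.pres_cokernel IsFS.biprod hL (f.1 - g.1) a.pres b.pres)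
        (cokernel.desc _ b.h (by rw [Preadditive.sub_comp, f.2, g.2, sub_self]))
      refine ⟨c, ⟨cokernel.π _ ≫ i.hom, by rw [Category.assoc, hi, cokernel.π_desc]⟩, Subtype.ext ?_⟩
      show f.1 ≫ _ ≫ _ = g.1 ≫ _ ≫ _
      rw [← sub_eq_zero, ← Preadditive.sub_comp, cokernel.condition_assoc, zero_comp]
  obtain ⟨a, -⟩ := Idx.exists_iso (F := F)
    (pres_coprod (O := O) (B := B) (fun k : Fin 0 => (k.elim0 : C)) fun k => k.elim0) 0
  exact { nonempty := ⟨a⟩ }

variable (O B F) in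
omit hB₁ hB₂ in
/-- The diagram of finitely presented modules over `F`. -/
noncomputable abbrev idxFunctor : Idx O B F ⥤ ModSite.Mod O where
  obj a := a.X
  map f := f.1

variable (O B F) in
omit hB₁ hB₂ in
/-- The cocone on `F`. -/
noncomputable def idxNat : idxFunctor O B F ⟶ (Functor.const _).obj F where
  app a := a.h
  naturality a b f := f.2.trans (Category.comp_id _).symm

theorem nonempty_isColimit_idx : Nonempty (IsColimit (Cocone.mk F (idxNat O B F))) := by
  have := isFiltered_idx (F := F) hB₁ hB₂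
  let c : colimit (idxFunctor O B F) ⟶ F := colimit.desc (idxFunctor O B F) (Cocone.mk F (idxNat O B F))
  have hc : ∀ a, colimit.ι (idxFunctor O B F) a ≫ c = a.h := fun a => colimit.ι_desc _ a
  have : Epi c := ⟨fun {Z} g g' hgg => hom_ext_of_freeOn hB₁ _ _ fun U hU x => by
    obtain ⟨a, i, hi⟩ := Idx.exists_iso (pres_coprod (O := O) (B := B) (fun _ : Fin 1 => U) fun _ => hU)
      (Sigma.desc fun _ => x)
    have h : Sigma.ι (fun _ : Fin 1 => ModSite.freeOn O U) 0 ≫ i.hom ≫ colimit.ι (idxFunctor O B F) a ≫ c = x := by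
      rw [hc, hi, Sigma.ι_desc]
    rw [← h]
    simp only [Category.assoc, hgg]⟩
  have : Mono c := by
    refine Preadditive.mono_of_cancel_zero _ fun {T} z₀ hz₀ => hom_ext_of_freeOn hB₁ _ _ fun U hU x => ?_
    rw [comp_zero]
    have hz : (x ≫ z₀) ≫ c = 0 := by rw [Category.assoc, hz₀, comp_zero]
    generalize x ≫ z₀ = z at hz ⊢
    let e : (∐ (idxFunctor O B F).obj) ⟶ colimit (idxFunctor O B F) := Sigma.desc fun a => colimit.ι (idxFunctor O B F) a
    have : Epi e := ⟨fun {Z} g g' hgg => colimit.hom_ext fun a => by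
      simpa [e] using Sigma.ι (idxFunctor O B F).obj a ≫= hgg⟩
    obtain ⟨P', π, f', hP', hπ, hf'⟩ := hasLifts hB₁ hB₂ e
      (isFS_coprod (O := O) (fun _ : Fin 1 => U) fun _ => hU) (Sigma.desc fun _ => z)
    obtain ⟨κ, _, V, hV, ⟨i⟩⟩ := id hP'
    have : Fintype κ := Fintype.ofFinite κ
    have h1 : ∀ k, ∃ (l : Idx O B F) (y : ModSite.freeOn O (V k) ⟶ (idxFunctor O B F).obj l),
        y ≫ colimit.ι (idxFunctor O B F) l = Sigma.ι (fun k => ModSite.freeOn O (V k)) k ≫ i.inv ≫ f' ≫ e := fun k => by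
      classical
      obtain ⟨S, a, ha⟩ := finFactor_of_isQcObject (idxFunctor O B F).obj (hB₂ _ (hV k))
        (Sigma.ι (fun k => ModSite.freeOn O (V k)) k ≫ i.inv ≫ f')
      obtain ⟨l, hl⟩ := IsFiltered.sup_objs_exists S
      refine ⟨l, ∑ s ∈ S.attach, a s.1 ≫ (idxFunctor O B F).map (hl s.2).some, ?_⟩
      rw [Preadditive.sum_comp, ← Category.assoc i.inv, ← Category.assoc _ (i.inv ≫ f'), ha,
        Preadditive.sum_comp, ← Finset.sum_attach S]
      refine Finset.sum_congr rfl fun s _ => ?_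
      rw [Category.assoc, Category.assoc, colimit.w, Sigma.ι_desc]
    choose l y hy using h1
    classical
    obtain ⟨L, hL⟩ := IsFiltered.sup_objs_exists (Finset.univ.image l)
    have hLk : ∀ k, Nonempty (l k ⟶ L) := fun k => hL (Finset.mem_image_of_mem l (Finset.mem_univ k))
    let t : P' ⟶ (idxFunctor O B F).obj L := i.hom ≫ Sigma.desc fun k => y k ≫ (idxFunctor O B F).map (hLk k).some
    have ht : t ≫ colimit.ι (idxFunctor O B F) L = π ≫ Sigma.desc fun _ => z := by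
      rw [← hf', ← cancel_epi i.inv, Category.assoc, Iso.inv_hom_id_assoc]
      exact Sigma.hom_ext _ _ fun k => by rw [Sigma.ι_desc_assoc, Category.assoc, colimit.w, hy]
    clear_value t
    have hth : t ≫ L.h = 0 := by
      rw [← hc L, ← Category.assoc, ht, Category.assoc]
      have : Sigma.desc (fun _ : Fin 1 => z) ≫ c = 0 :=
        Sigma.hom_ext _ _ fun _ => by rw [Sigma.ι_desc_assoc, hz, comp_zero]
      rw [this, comp_zero]
    obtain ⟨b, j, hj⟩ := Idx.exists_iso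
      (FinPres.pres_cokernel IsFS.biprod (hasLifts hB₁ hB₂) t (FinPres.pres_of_fs hP') L.pres) (cokernel.desc t L.h hth)
    let r : L ⟶ b := ⟨cokernel.π t ≫ j.hom, by rw [Category.assoc, hj, cokernel.π_desc]⟩
    have h0 : t ≫ colimit.ι (idxFunctor O B F) L = 0 := by
      rw [← colimit.w (idxFunctor O B F) r]
      show t ≫ (cokernel.π t ≫ j.hom) ≫ _ = 0
      rw [Category.assoc, cokernel.condition_assoc, zero_comp]
    rw [ht, ← comp_zero (f := π), cancel_epi] at h0
    simpa using Sigma.ι (fun _ : Fin 1 => ModSite.freeOn O U) 0 ≫= h0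
  have : IsIso c := isIso_of_mono_of_epi c
  exact ⟨IsColimit.ofIsoColimit (colimit.isColimit (idxFunctor O B F)) (Cocone.ext (asIso c) hc)⟩

end Colim

end Groth.Agent.Der55
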