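import Groth.Agent.Der55.FinPresAbstract
import Groth.Agent.ModPull.Sections
import Groth.Agent.SiteBase.DLim.Rlim
import Groth.Agent.ToposFinLib.Eps
import Groth.Prelude.Def_CohCx
import Mathlib.CategoryTheory.Limits.Shapes.Products
import Mathlib.CategoryTheory.Sites.IsSheafFor

/-!
# Finite sums of `j_{U!} O_U` with `U` quasi-compact: lifts and kernels
-/

universe u

open CategoryTheory Limits Opposite

namespace Groth.Agent.Der55

open ModTensor ModPull

variable {C : Type u} [SmallCategory C] {J : GrothendieckTopology C}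

/-- A quasi-compact object of the topos is quasi-compact on the site. -/
lemma isQCSite_of_isQcObject {U : C}
    (h : CohCx.IsQcObject ((presheafToSheaf J (Type u)).obj (yoneda.obj U))) :
    ToposFin.IsQCSite J U := by
  refine (ToposFinLib.isQC_eps_iff U).2 (ToposFinLib.isQC_iff.2 fun ι F π hπ => ?_)
  obtain ⟨t, ht⟩ := h ι F π fun V s => ⟨_, hπ s, fun W g hg => hg⟩
  refine ⟨t, fun V y => ?_⟩
  obtain ⟨S, hS, hS'⟩ := ht V y
  exact J.superset_covering (fun W g hg => hS' W g hg) hS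

/-- Finite refinements by members of a covering class. -/
lemma exists_finite_refinement {B : Set C}
    (hB : ∀ X : C, ∃ (κ : Type u) (Y : κ → C) (g : ∀ k, Y k ⟶ X), Sieve.ofArrows Y g ∈ J X ∧ ∀ k, Y k ∈ B)
    {U : C} (hU : ToposFin.IsQCSite J U) {T : Sieve U} (hT : T ∈ J U) :
    ∃ (n : ℕ) (V : Fin n → C) (g : ∀ k, V k ⟶ U),
      (∀ k, V k ∈ B) ∧ (∀ k, T (g k)) ∧ Sieve.ofArrows V g ∈ J U := by
  obtain ⟨ι, Y, f, hf, hcov, hY⟩ := DLim.IsCoveredBy.refine_cover hB U hT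
  obtain ⟨n, W, g, hg, hW⟩ := hU _ hcov
  have : ∀ k, ∃ (i : ι) (a : W k ⟶ Y i), a ≫ f i = g k := fun k => by
    obtain ⟨Z, a, b, ⟨i⟩, e⟩ := hg k
    exact ⟨i, a, e⟩
  choose i a ha using this
  refine ⟨n, fun k => Y (i k), fun k => f (i k), fun k => hY _, fun k => hf _, J.superset_covering ?_ hW⟩
  rintro Z z ⟨Z', b, c, ⟨k⟩, rfl⟩
  exact ⟨_, b ≫ a k, _, Presieve.ofArrows.mk k, by rw [Category.assoc, ha]⟩

variable (O : Sheaf J CommRingCat.{u})

/-- Sections of a module over an object. -/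
abbrev Sec (M : ModSite.Mod O) (U : C) : Type u := ((fg O).obj M).obj (op U)

variable {O}

/-- The section of a morphism out of `j_{U!} O_U`. -/
noncomputable abbrev secOf {U : C} {M : ModSite.Mod O} (f : ModSite.freeOn O U ⟶ M) : Sec O M U :=
  (freeOnCorepr O U).homEquiv f

/-- The morphism of a section. -/
noncomputable abbrev homOf {U : C} {M : ModSite.Mod O} (x : Sec O M U) : ModSite.freeOn O U ⟶ M :=
  (freeOnCorepr O U).homEquiv.symm x

lemma secOf_comp {U : C} {M N : ModSite.Mod O} (f : ModSite.freeOn O U ⟶ M) (φ : M ⟶ N) :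
    secOf (f ≫ φ) = ((fg O).map φ).app (op U) (secOf f) :=
  (freeOnCorepr O U).homEquiv_comp φ f

lemma secOf_injective {U : C} {M : ModSite.Mod O} {f g : ModSite.freeOn O U ⟶ M}
    (h : secOf f = secOf g) : f = g :=
  (freeOnCorepr O U).homEquiv.injective h

lemma secOf_homOf {U : C} {M : ModSite.Mod O} (x : Sec O M U) : secOf (homOf x) = x :=
  (freeOnCorepr O U).homEquiv.apply_symm_apply x

variable (O) in
/-- The morphism `j_{V!} O_V ⟶ j_{U!} O_U` of a morphism `V ⟶ U`. -/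
noncomputable def freeOnMap {V U : C} (g : V ⟶ U) : ModSite.freeOn O V ⟶ ModSite.freeOn O U :=
  homOf (rs ((fg O).obj (ModSite.freeOn O U)) g.op (secOf (𝟙 (ModSite.freeOn O U))))

lemma secOf_freeOnMap_comp {V U : C} (g : V ⟶ U) {M : ModSite.Mod O} (f : ModSite.freeOn O U ⟶ M) :
    secOf (freeOnMap O g ≫ f) = rs ((fg O).obj M) g.op (secOf f) := by
  rw [secOf_comp, freeOnMap, secOf_homOf, app_rs, ← secOf_comp, Category.id_comp]

lemma freeOnMap_comp {W V U : C} (a : W ⟶ V) (g : V ⟶ U) :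
    freeOnMap O a ≫ freeOnMap O g = freeOnMap O (a ≫ g) := by
  refine secOf_injective ?_
  rw [secOf_freeOnMap_comp, freeOnMap, secOf_homOf, freeOnMap, secOf_homOf, op_comp, rs_comp]

variable (O)

/-- Finite sums of `j_{U!} O_U` for `U` in a class. -/
def IsFS (B : Set C) (X : ModSite.Mod O) : Prop :=
  ∃ (κ : Type) (_ : Finite κ) (U : κ → C),
    (∀ k, U k ∈ B) ∧ Nonempty (X ≅ ∐ fun k => ModSite.freeOn O (U k))

variable {O} {B : Set C}

lemma isFS_coprod {κ : Type} [Finite κ] (U : κ → C) (hU : ∀ k, U k ∈ B) :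
    IsFS O B (∐ fun k => ModSite.freeOn O (U k)) := ⟨κ, inferInstance, U, hU, ⟨Iso.refl _⟩⟩

lemma IsFS.biprod {X Y : ModSite.Mod O} (hX : IsFS O B X) (hY : IsFS O B Y) : IsFS O B (X ⊞ Y) := by
  obtain ⟨κ, _, U, hU, ⟨i⟩⟩ := hX
  obtain ⟨κ', _, U', hU', ⟨i'⟩⟩ := hY
  let W : κ ⊕ κ' → C := Sum.elim U U'
  refine ⟨κ ⊕ κ', inferInstance, W, fun k => k.rec hU hU',
    ⟨⟨biprod.desc (i.hom ≫ Sigma.desc fun k => Sigma.ι (fun k => ModSite.freeOn O (W k)) (Sum.inl k))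
        (i'.hom ≫ Sigma.desc fun k => Sigma.ι (fun k => ModSite.freeOn O (W k)) (Sum.inr k)),
      Sigma.desc (fun k => match k with
        | Sum.inl k => Sigma.ι (fun k => ModSite.freeOn O (U k)) k ≫ i.inv ≫ Limits.biprod.inl
        | Sum.inr k => Sigma.ι (fun k => ModSite.freeOn O (U' k)) k ≫ i'.inv ≫ Limits.biprod.inr), ?_, ?_⟩⟩⟩
  · refine Limits.biprod.hom_ext' _ _ ?_ ?_
    · rw [Limits.biprod.inl_desc_assoc, Category.comp_id, Category.assoc, ← cancel_epi i.inv,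
        Iso.inv_hom_id_assoc]
      exact Sigma.hom_ext _ _ fun k => by
        rw [Sigma.ι_desc_assoc]
        exact Sigma.ι_desc _ _
    · rw [Limits.biprod.inr_desc_assoc, Category.comp_id, Category.assoc, ← cancel_epi i'.inv,
        Iso.inv_hom_id_assoc]
      exact Sigma.hom_ext _ _ fun k => by
        rw [Sigma.ι_desc_assoc]
        exact Sigma.ι_desc _ _
  · refine Sigma.hom_ext _ _ fun k => ?_
    rw [Sigma.ι_desc_assoc, Category.comp_id]
    rcases k with k | k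
    · show (Sigma.ι _ k ≫ i.inv ≫ Limits.biprod.inl) ≫ _ = _
      rw [Category.assoc, Category.assoc, Limits.biprod.inl_desc, Iso.inv_hom_id_assoc]
      exact Sigma.ι_desc _ _
    · show (Sigma.ι _ k ≫ i'.inv ≫ Limits.biprod.inr) ≫ _ = _
      rw [Category.assoc, Category.assoc, Limits.biprod.inr_desc, Iso.inv_hom_id_assoc]
      exact Sigma.ι_desc _ _

lemma IsFS.exists_fin {X : ModSite.Mod O} (hX : IsFS O B X) :
    ∃ (n : ℕ) (U : Fin n → C), (∀ k, U k ∈ B) ∧ Nonempty (X ≅ ∐ fun k => ModSite.freeOn O (U k)) := by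
  obtain ⟨κ, _, U, hU, ⟨i⟩⟩ := hX
  obtain ⟨n, ⟨e⟩⟩ := Finite.exists_equiv_fin κ
  exact ⟨n, fun k => U (e.symm k), fun k => hU _,
    ⟨i ≪≫ Sigma.whiskerEquiv e fun k => eqToIso (congrArg (fun t => ModSite.freeOn O (U t)) (e.symm_apply_apply k))⟩⟩

/-- The statement form of finite presentation agrees with the abstract one. -/
lemma pres_iff_fin {F : ModSite.Mod O} :
    FinPres.Pres (IsFS O B) F ↔ ∃ (m' n' : ℕ) (V' : Fin m' → C) (U' : Fin n' → C)
      (ψ : (∐ fun j => ModSite.freeOn O (V' j)) ⟶ ∐ fun i => ModSite.freeOn O (U' i)),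
      (∀ j, V' j ∈ B) ∧ (∀ i, U' i ∈ B) ∧ Nonempty (F ≅ cokernel ψ) := by
  rw [FinPres.pres_iff]
  constructor
  · rintro ⟨P₁, P₀, ψ, h₁, h₀, ⟨e⟩⟩
    obtain ⟨m, V, hV, ⟨i₁⟩⟩ := h₁.exists_fin
    obtain ⟨n, U, hU, ⟨i₀⟩⟩ := h₀.exists_fin
    exact ⟨m, n, V, U, i₁.inv ≫ ψ ≫ i₀.hom, hV, hU,
      ⟨e ≪≫ cokernel.mapIso ψ (i₁.inv ≫ ψ ≫ i₀.hom) i₁ i₀ (by simp)⟩⟩
  · rintro ⟨m, n, V, U, ψ, hV, hU, h⟩
    exact ⟨_, _, ψ, isFS_coprod V hV, isFS_coprod U hU, h⟩

section Cover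

variable {κ : Type} (U : κ → C) {ν : κ → ℕ} (V : ∀ i, Fin (ν i) → C) (g : ∀ i k, V i k ⟶ U i)

/-- The map of sums of a family of covering families. -/
noncomputable def coverMap [Finite κ] :
    (∐ fun p : Σ i, Fin (ν i) => ModSite.freeOn O (V p.1 p.2)) ⟶ ∐ fun i => ModSite.freeOn O (U i) :=
  Sigma.desc fun p => freeOnMap O (g p.1 p.2) ≫ Sigma.ι (fun i => ModSite.freeOn O (U i)) p.1

lemma ι_coverMap [Finite κ] (p : Σ i, Fin (ν i)) :
    Sigma.ι (fun p : Σ i, Fin (ν i) => ModSite.freeOn O (V p.1 p.2)) p ≫ coverMap (O := O) U V g =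
      freeOnMap O (g p.1 p.2) ≫ Sigma.ι (fun i => ModSite.freeOn O (U i)) p.1 :=
  Sigma.ι_desc _ _

variable (hcov : ∀ i, Sieve.ofArrows (V i) (g i) ∈ J (U i))
include hcov

lemma epi_coverMap [Finite κ] : Epi (coverMap (O := O) U V g) := by
  refine ⟨fun {M} a b h => Sigma.hom_ext _ _ fun i => secOf_injective ?_⟩
  refine eq_of_locally (J := J) (H := (fg O).obj M) M.isSheaf (hcov i) fun W f hf => ?_
  obtain ⟨Z, c, d, ⟨k⟩, rfl⟩ := hf
  rw [op_comp, rs_comp, rs_comp, ← secOf_freeOnMap_comp (g i k), ← secOf_freeOnMap_comp (g i k)]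
  have := congrArg (Sigma.ι (fun p : Σ i, Fin (ν i) => ModSite.freeOn O (V p.1 p.2)) ⟨i, k⟩ ≫ ·) h
  simp only [← Category.assoc, ι_coverMap] at this
  rw [Category.assoc, Category.assoc] at this
  rw [this]

variable [HasPullbacks C] (hB₁ : ∀ X : C, ∃ (κ : Type u) (Y : κ → C) (g : ∀ k, Y k ⟶ X),
    Sieve.ofArrows Y g ∈ J X ∧ ∀ k, Y k ∈ B)
  (hqc : ∀ i k l, ToposFin.IsQCSite J (pullback (g i k) (g i l)))
include hB₁ hqc

/-- The kernel of the map of sums of covering families is finitely generated. -/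
lemma kerFG_coverMap [Finite κ] : FinPres.KerFG (IsFS O B) (coverMap (O := O) U V g) := by
  choose m W w hW _ hwcov using fun p : Σ i, Fin (ν i) × Fin (ν i) =>
    exists_finite_refinement hB₁ (hqc p.1 p.2.1 p.2.2) (J.top_mem _)
  let X := fun p : Σ i, Fin (ν i) => ModSite.freeOn O (V p.1 p.2)
  let R := fun q : Σ p : (Σ i, Fin (ν i) × Fin (ν i)), Fin (m p) => ModSite.freeOn O (W q.1 q.2)
  let r : (∐ R) ⟶ ∐ X := Sigma.desc fun q =>
    freeOnMap O (w q.1 q.2 ≫ pullback.fst (g q.1.1 q.1.2.1) (g q.1.1 q.1.2.2)) ≫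
        Sigma.ι X ⟨q.1.1, q.1.2.1⟩ -
      freeOnMap O (w q.1 q.2 ≫ pullback.snd (g q.1.1 q.1.2.1) (g q.1.1 q.1.2.2)) ≫
        Sigma.ι X ⟨q.1.1, q.1.2.2⟩
  have hwr : r ≫ coverMap (O := O) U V g = 0 := Sigma.hom_ext _ _ fun q => by
    rw [Sigma.ι_desc_assoc, Preadditive.sub_comp, Category.assoc, Category.assoc, ι_coverMap,
      ι_coverMap, comp_zero, sub_eq_zero, ← Category.assoc, ← Category.assoc, freeOnMap_comp,
      freeOnMap_comp, Category.assoc, Category.assoc, pullback.condition]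
  refine ⟨_, r, hwr, isFS_coprod (fun q : Σ p : (Σ i, Fin (ν i) × Fin (ν i)), Fin (m p) => W q.1 q.2)
    (fun q => hW q.1 q.2), ShortComplex.exact_of_g_is_cokernel _ ?_⟩
  have := epi_coverMap (O := O) U V g hcov
  have hdesc : ∀ {M : ModSite.Mod O} (a : (∐ X) ⟶ M), r ≫ a = 0 →
      ∃ b, coverMap (O := O) U V g ≫ b = a := by
    intro M a ha
    let x : ∀ i k, Sec O M (V i k) := fun i k => secOf (Sigma.ι X ⟨i, k⟩ ≫ a)
    have hx : ∀ i k l, rs ((fg O).obj M) (pullback.fst (g i k) (g i l)).op (x i k) =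
        rs ((fg O).obj M) (pullback.snd (g i k) (g i l)).op (x i l) := fun i k l => by
      refine eq_of_locally (J := J) (H := (fg O).obj M) M.isSheaf (hwcov ⟨i, k, l⟩) fun Z f hf => ?_
      obtain ⟨Z', c, d, ⟨s⟩, rfl⟩ := hf
      have h := congrArg (Sigma.ι R ⟨⟨i, k, l⟩, s⟩ ≫ ·) ha
      rw [Sigma.ι_desc_assoc, comp_zero, Preadditive.sub_comp, sub_eq_zero, Category.assoc,
        Category.assoc] at h
      have h' := congrArg secOf h
      rw [secOf_freeOnMap_comp, secOf_freeOnMap_comp, op_comp, op_comp, rs_comp, rs_comp] at h'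
      rw [op_comp, rs_comp, rs_comp]
      exact congrArg (rs ((fg O).obj M) c.op) h'
    have hglue : ∀ i, ∃ y : Sec O M (U i), ∀ k, rs ((fg O).obj M) (g i k).op y = x i k := fun i => by
      have hs : Presieve.IsSheafFor (((fg O).obj M).presheaf ⋙ CategoryTheory.forget Ab.{u})
          (Presieve.ofArrows (V i) (g i)) := by
        rw [Presieve.isSheafFor_iff_generate]
        exact ((Presheaf.isSheaf_iff_isSheaf_forget J ((fg O).obj M).presheaf
          (CategoryTheory.forget Ab.{u})).1 M.isSheaf).isSheafFor _ (hcov i)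
      obtain ⟨y, hy, -⟩ := (Presieve.isSheafFor_arrows_iff _ _).1 hs (x i) fun k l Z c d e => by
        change rs ((fg O).obj M) c.op (x i k) = rs ((fg O).obj M) d.op (x i l)
        have h := congrArg (rs ((fg O).obj M) (pullback.lift c d e).op) (hx i k l)
        rw [← rs_comp, ← rs_comp, ← op_comp, ← op_comp, pullback.lift_fst, pullback.lift_snd] at h
        exact h
      exact ⟨y, hy⟩
    choose y hy using hglue
    refine ⟨Sigma.desc fun i => homOf (y i), Sigma.hom_ext _ _ fun p => secOf_injective ?_⟩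
    rw [← Category.assoc, ι_coverMap, Category.assoc, Sigma.ι_desc, secOf_freeOnMap_comp,
      secOf_homOf]
    exact hy p.1 p.2
  exact CokernelCofork.IsColimit.ofπ _ _ (fun a ha => (hdesc a ha).choose)
    (fun a ha => (hdesc a ha).choose_spec)
    (fun a ha b hb => (cancel_epi (coverMap (O := O) U V g)).1 (hb.trans (hdesc a ha).choose_spec.symm))

end Cover

variable (hB₁ : ∀ X : C, ∃ (κ : Type u) (Y : κ → C) (g : ∀ k, Y k ⟶ X),
    Sieve.ofArrows Y g ∈ J X ∧ ∀ k, Y k ∈ B)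
  (hB₂ : ∀ U ∈ B, CohCx.IsQcObject ((presheafToSheaf J (Type u)).obj (yoneda.obj U)))
include hB₁ hB₂

/-- The common part of lifting after refinement. -/
lemma exists_cover_lift {M N : ModSite.Mod O} (e : M ⟶ N) [Epi e] {κ : Type} [Finite κ] (U : κ → C)
    (hU : ∀ k, U k ∈ B) (f : (∐ fun k => ModSite.freeOn O (U k)) ⟶ N) :
    ∃ (ν : κ → ℕ) (V : ∀ i, Fin (ν i) → C) (g : ∀ i k, V i k ⟶ U i),
      (∀ i, Sieve.ofArrows (V i) (g i) ∈ J (U i)) ∧ (∀ i k, V i k ∈ B) ∧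
      ∃ f', f' ≫ e = coverMap (O := O) U V g ≫ f := by
  have : ∀ i, ∃ (n : ℕ) (V : Fin n → C) (g : ∀ k, V k ⟶ U i),
      Sieve.ofArrows V g ∈ J (U i) ∧ (∀ k, V k ∈ B) ∧ ∀ k, ∃ m : Sec O M (V k),
        ((fg O).map e).app (op (V k)) m =
          rs ((fg O).obj N) (g k).op (secOf (Sigma.ι (fun k => ModSite.freeOn O (U k)) i ≫ f)) := fun i => by
    obtain ⟨S, hS, hS'⟩ := locally_exists_app_eq e (secOf (Sigma.ι (fun k => ModSite.freeOn O (U k)) i ≫ f))
    obtain ⟨n, V, g, hV, hg, hcov⟩ :=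
      exists_finite_refinement hB₁ (isQCSite_of_isQcObject (hB₂ _ (hU i))) hS
    exact ⟨n, V, g, hcov, hV, fun k => hS' (g k) (hg k)⟩
  choose ν V g hcov hV m hm using this
  refine ⟨ν, V, g, hcov, hV, Sigma.desc fun p => homOf (m p.1 p.2),
    Sigma.hom_ext _ _ fun p => secOf_injective ?_⟩
  rw [Sigma.ι_desc_assoc, secOf_comp, secOf_homOf, ← Category.assoc, ι_coverMap, Category.assoc,
    secOf_freeOnMap_comp]
  exact hm p.1 p.2

theorem hasLifts : FinPres.HasLifts (IsFS O B) := by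
  intro M N e _ P hP f
  obtain ⟨κ, _, U, hU, ⟨i⟩⟩ := hP
  obtain ⟨ν, V, g, hcov, hV, f', hf'⟩ := exists_cover_lift hB₁ hB₂ e U hU (i.inv ≫ f)
  have := epi_coverMap (O := O) U V g hcov
  exact ⟨_, coverMap (O := O) U V g ≫ i.inv, f', isFS_coprod _ (fun p => hV p.1 p.2), inferInstance,
    by rw [hf', Category.assoc]⟩

theorem hasGoodLifts [HasPullbacks C]
    (hB₃ : ∀ (U U₁ U₂ : C) (f₁ : U₁ ⟶ U) (f₂ : U₂ ⟶ U), U ∈ B → U₁ ∈ B → U₂ ∈ B →
      CohCx.IsQcObject ((presheafToSheaf J (Type u)).obj (yoneda.obj (pullback f₁ f₂)))) :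
    FinPres.HasGoodLifts (IsFS O B) := by
  intro M N e _ P hP f
  obtain ⟨κ, _, U, hU, ⟨i⟩⟩ := hP
  obtain ⟨ν, V, g, hcov, hV, f', hf'⟩ := exists_cover_lift hB₁ hB₂ e U hU (i.inv ≫ f)
  have := epi_coverMap (O := O) U V g hcov
  refine ⟨_, coverMap (O := O) U V g ≫ i.inv, f', isFS_coprod _ (fun p => hV p.1 p.2), inferInstance,
    by rw [hf', Category.assoc], ?_⟩
  obtain ⟨S, s, w, hS, hex⟩ := kerFG_coverMap (O := O) U V g hcov hB₁ fun a k l =>
    isQCSite_of_isQcObject (hB₃ _ _ _ (g a k) (g a l) (hU a) (hV a k) (hV a l))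
  refine ⟨S, s, by rw [reassoc_of% w, zero_comp], hS, FinPres.exact_of_lifts _ _ _ fun T x hx => ?_⟩
  exact hex.exact_up_to_refinements x ((cancel_mono i.inv).1 (by simpa using hx))

end Groth.Agent.Der55
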