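import Groth.Agent.ModPull.Refine
import Groth.Agent.ModPull.Sections
import Groth.Prelude.Def_ModSite
import Mathlib.CategoryTheory.Sites.Over

/-!
# Gluing along a locally filtered functor of sites
-/

universe u

open CategoryTheory CategoryTheory.Limits Opposite

namespace Groth.Agent.Der55

open ModTensor ModPull

section Glue

variable {C : Type u} [SmallCategory C] {J : GrothendieckTopology C}

/-- A sieve containing a covering sieve locally is covering. -/
lemma mem_of_locally {X : C} {S : Sieve X} (h : Locally J X fun _ g => S g) : S ∈ J X := by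
  obtain ⟨T, hT, hTS⟩ := h
  exact J.superset_covering (fun Z g hg => hTS g hg) hT

/-- A sheaf of sets glues a functional relation given locally. -/
theorem exists_glue_types {P : Cᵒᵖ ⥤ Type u} (hP : Presieve.IsSheaf J P) {X : C}
    (rel : ∀ ⦃T : C⦄, (T ⟶ X) → P.obj (op T) → Prop)
    (hstab : ∀ ⦃T T' : C⦄ (t : T ⟶ X) (s : T' ⟶ T) (a : P.obj (op T)), rel t a → rel (s ≫ t) (P.map s.op a))
    (htot : Locally J X fun T t => ∃ a, rel t a)
    (hfun : ∀ ⦃T : C⦄ (t : T ⟶ X) (a b : P.obj (op T)), rel t a → rel t b → a = b) :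
    ∃ x : P.obj (op X), ∀ ⦃T : C⦄ (t : T ⟶ X) (a : P.obj (op T)), rel t a → P.map t.op x = a := by
  obtain ⟨S, hS, hex⟩ := htot
  choose a ha using hex
  let fam : Presieve.FamilyOfElements P S.arrows := fun T t ht => a t ht
  have hc : fam.Compatible := fun T₁ T₂ Z g₁ g₂ t₁ t₂ h₁ h₂ e =>
    hfun (g₁ ≫ t₁) _ _ (hstab _ g₁ _ (ha t₁ h₁)) (e ▸ hstab _ g₂ _ (ha t₂ h₂))
  refine ⟨(hP S hS).amalgamate fam hc, fun T t b hb => ?_⟩
  refine (hP.isSeparated _ (J.pullback_stable t hS)).ext fun Z s hs => ?_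
  have h1 := (hP S hS).valid_glue hc (s ≫ t) hs
  rw [op_comp, P.map_comp] at h1
  exact h1.trans (hfun (s ≫ t) _ _ (ha _ hs) (hstab t s b hb))

/-- The underlying sheaf of sets of a module. -/
lemma isSheaf_forget_mod {O : Sheaf J CommRingCat.{u}} (M : ModSite.Mod O) :
    Presieve.IsSheaf J (((fg O).obj M).presheaf ⋙ CategoryTheory.forget Ab.{u}) :=
  (isSheaf_iff_isSheaf_of_type _ _).1
    ((Presheaf.isSheaf_iff_isSheaf_forget J ((fg O).obj M).presheaf (CategoryTheory.forget Ab.{u})).1 M.isSheaf)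

/-- A module glues a functional relation given locally. -/
theorem exists_glue {O : Sheaf J CommRingCat.{u}} (M : ModSite.Mod O) {X : C}
    (rel : ∀ ⦃T : C⦄, (T ⟶ X) → ((fg O).obj M).obj (op T) → Prop)
    (hstab : ∀ ⦃T T' : C⦄ (t : T ⟶ X) (s : T' ⟶ T) (a : ((fg O).obj M).obj (op T)), rel t a →
      rel (s ≫ t) (rs ((fg O).obj M) s.op a))
    (htot : Locally J X fun T t => ∃ a, rel t a)
    (hfun : ∀ ⦃T : C⦄ (t : T ⟶ X) (a b : ((fg O).obj M).obj (op T)), rel t a → rel t b → a = b) :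
    ∃ x : ((fg O).obj M).obj (op X), ∀ ⦃T : C⦄ (t : T ⟶ X) (a : ((fg O).obj M).obj (op T)),
      rel t a → rs ((fg O).obj M) t.op x = a :=
  exists_glue_types (isSheaf_forget_mod M) (fun T t a => rel t a) hstab htot hfun

end Glue

variable {C D : Type u} [SmallCategory C] [SmallCategory D]

/-- The properties of the inverse image functor of a morphism of sites that are used in gluing. -/
structure LocFilt (J : GrothendieckTopology C) (K : GrothendieckTopology D) (u : D ⥤ C) : Prop where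
  img : ∀ {U : D} {S : Sieve U}, S ∈ K U → ∀ {W : C} (g : W ⟶ u.obj U), imgSieve u S g ∈ J W
  some' : ∀ W : C, someSieve u W ∈ J W
  pair : ∀ {U₁ U₂ : D} {W : C} (g₁ : W ⟶ u.obj U₁) (g₂ : W ⟶ u.obj U₂), pairSieve u g₁ g₂ ∈ J W
  equalize : ∀ {U U' : D} (a b : U ⟶ U') {W : C} (g : W ⟶ u.obj U),
    g ≫ u.map a = g ≫ u.map b → eqSieve u a b g ∈ J W

namespace LocFilt

variable {J : GrothendieckTopology C} {K : GrothendieckTopology D} {u : D ⥤ C}

lemma of_rmor {O_C : Sheaf J CommRingCat.{u}} {O_D : Sheaf K CommRingCat.{u}} (f : ModSite.RMor O_C O_D) :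
    LocFilt J K f.fn where
  img hS _ g := imgSieve_mem f.fn hS g
  some' W := someSieve_mem (K := K) f.fn W
  pair g₁ g₂ := pairSieve_mem (K := K) f.fn g₁ g₂
  equalize a b _ g h := eqSieve_mem (K := K) f.fn a b g h

variable (L : LocFilt J K u)
include L

/-- Local filteredness passes to slices. -/
lemma over (U : D) : LocFilt (J.over (u.obj U)) (K.over U) (Over.post (X := U) u) where
  img {V S} hS W g := by
    rw [GrothendieckTopology.mem_over_iff] at hS ⊢
    refine J.superset_covering ?_ (L.img hS g.left)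
    rintro Z z ⟨V', a, h, ha, e⟩
    rw [Sieve.overEquiv_iff] at ha ⊢
    refine ⟨Over.mk (a ≫ V.hom), Over.homMk a, Over.homMk h ?_, ha, Over.OverMorphism.ext e⟩
    show h ≫ u.map (a ≫ V.hom) = z ≫ W.hom
    rw [u.map_comp, reassoc_of% e]
    exact congrArg (z ≫ ·) (Over.w g)
  some' W := by
    rw [GrothendieckTopology.mem_over_iff]
    refine J.superset_covering ?_ (L.pair W.hom W.hom)
    rintro Z z ⟨V, a₁, a₂, h, e₁, e₂⟩
    rw [Sieve.overEquiv_iff]
    exact ⟨Over.mk a₁, ⟨Over.homMk h e₁⟩⟩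
  pair {U₁ U₂ W} g₁ g₂ := by
    rw [GrothendieckTopology.mem_over_iff]
    refine mem_of_locally (Locally.bind (⟨_, L.pair g₁.left g₂.left, fun _ _ h => h⟩ :
      Locally J W.left fun _ z => pairSieve u g₁.left g₂.left z) fun Z z hz => ?_)
    obtain ⟨V, a₁, a₂, h, e₁, e₂⟩ := hz
    refine Locally.mono (⟨_, L.equalize (a₁ ≫ U₁.hom) (a₂ ≫ U₂.hom) h ?_, fun _ _ h => h⟩ :
      Locally J Z fun _ z' => eqSieve u (a₁ ≫ U₁.hom) (a₂ ≫ U₂.hom) h z') ?_
    · rw [u.map_comp, u.map_comp, reassoc_of% e₁, reassoc_of% e₂]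
      exact congrArg (z ≫ ·) ((Over.w g₁).trans (Over.w g₂).symm)
    rintro Z₁ z' ⟨V₂, c, h', ec, eh⟩
    rw [Sieve.overEquiv_iff]
    refine ⟨Over.mk (c ≫ a₁ ≫ U₁.hom), Over.homMk (c ≫ a₁) (by simp),
      Over.homMk (c ≫ a₂) (by simpa using ec.symm), Over.homMk h' ?_,
      Over.OverMorphism.ext ?_, Over.OverMorphism.ext ?_⟩
    · show h' ≫ u.map (c ≫ a₁ ≫ U₁.hom) = (z' ≫ z) ≫ W.hom
      rw [u.map_comp, u.map_comp, reassoc_of% eh, reassoc_of% e₁, Category.assoc]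
      exact congrArg (fun t => z' ≫ z ≫ t) (Over.w g₁)
    · show h' ≫ u.map (c ≫ _) = (z' ≫ z) ≫ g₁.left
      rw [u.map_comp, reassoc_of% eh, e₁, Category.assoc]; rfl
    · show h' ≫ u.map (c ≫ _) = (z' ≫ z) ≫ g₂.left
      rw [u.map_comp, reassoc_of% eh, e₂, Category.assoc]; rfl
  equalize {V V'} a b W g hg := by
    rw [GrothendieckTopology.mem_over_iff]
    refine J.superset_covering ?_ (L.equalize a.left b.left g.left (congrArg CommaMorphism.left hg))
    rintro Z z ⟨V₂, c, h, ec, eh⟩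
    rw [Sieve.overEquiv_iff]
    refine ⟨Over.mk (c ≫ V.hom), Over.homMk c, Over.homMk h ?_, Over.OverMorphism.ext ec,
      Over.OverMorphism.ext eh⟩
    show h ≫ u.map (c ≫ V.hom) = z ≫ W.hom
    rw [u.map_comp, reassoc_of% eh]
    exact congrArg (z ≫ ·) (Over.w g)

/-- Local filteredness gives continuity. -/
theorem isContinuous : u.IsContinuous K J := by
  refine ⟨fun G X S hS x hx => ?_⟩
  have hG := (isSheaf_iff_isSheaf_of_type _ _).1 G.property
  let rel : ∀ ⦃T : C⦄, (T ⟶ u.obj X) → G.obj.obj (op T) → Prop := fun T t a =>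
    ∃ (V : D) (c : V ⟶ X) (hc : S c) (s : T ⟶ u.obj V), s ≫ u.map c = t ∧ G.obj.map s.op (x c hc) = a
  obtain ⟨y, hy⟩ := exists_glue_types hG (X := u.obj X) rel
    (by
      rintro T T' t r a ⟨V, c, hc, s, rfl, rfl⟩
      exact ⟨V, c, hc, r ≫ s, Category.assoc _ _ _, by rw [op_comp, G.obj.map_comp]; rfl⟩)
    ⟨imgSieve u S (𝟙 _), L.img hS _, fun T t ⟨V, c, s, hc, e⟩ =>
      ⟨_, V, c, hc, s, e.trans (Category.comp_id t), rfl⟩⟩
    (by
      rintro T t a b ⟨V₁, c₁, hc₁, s₁, e₁, rfl⟩ ⟨V₂, c₂, hc₂, s₂, e₂, rfl⟩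
      refine (hG.isSeparated _ (L.pair s₁ s₂)).ext fun Z z hz => ?_
      obtain ⟨V₃, d₁, d₂, s₃, f₁, f₂⟩ := hz
      refine (hG.isSeparated _ (L.equalize (d₁ ≫ c₁) (d₂ ≫ c₂) s₃ ?_)).ext fun Z' z' hz' => ?_
      · rw [u.map_comp, u.map_comp, reassoc_of% f₁, reassoc_of% f₂, e₁, e₂]
      obtain ⟨V₄, k, s₄, ek, es⟩ := hz'
      have h := hx (k ≫ d₁) (k ≫ d₂) hc₁ hc₂ (by rw [Category.assoc, Category.assoc, ek])
      have h₁ : (z' ≫ z) ≫ s₁ = s₄ ≫ u.map (k ≫ d₁) := by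
        rw [u.map_comp, reassoc_of% es, f₁, Category.assoc]
      have h₂ : (z' ≫ z) ≫ s₂ = s₄ ≫ u.map (k ≫ d₂) := by
        rw [u.map_comp, reassoc_of% es, f₂, Category.assoc]
      simp only [← ConcreteCategory.comp_apply, ← G.obj.map_comp, ← op_comp]
      rw [← Category.assoc, ← Category.assoc, h₁, h₂, op_comp, op_comp, G.obj.map_comp, G.obj.map_comp]
      exact congrArg (G.obj.map s₄.op) h)
  refine ⟨y, fun V c hc => hy (u.map c) _ ⟨V, c, hc, 𝟙 _, Category.id_comp _, ?_⟩, fun y' hy' => ?_⟩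
  · rw [op_id, G.obj.map_id]; rfl
  · refine (hG.isSeparated _ (L.img hS (𝟙 (u.obj X)))).ext fun T t ht => ?_
    obtain ⟨V, c, s, hc, e⟩ := ht
    rw [Category.comp_id] at e
    refine Eq.trans ?_ (hy t _ ⟨V, c, hc, s, e, rfl⟩).symm
    rw [← hy' c hc, ← e, op_comp, G.obj.map_comp]
    rfl

end LocFilt

end Groth.Agent.Der55
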