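import Groth.Agent.Der55.LocalLiftCx
import Groth.Agent.Der55.RMorGlue
import Groth.Agent.ModPull.Criterion
import Mathlib.Algebra.Category.ModuleCat.Sheaf.Quasicoherent

/-!
# Maps from finitely presented to flat modules factor locally through finite free modules
-/

set_option linter.style.haveILetI false

universe u

open CategoryTheory CategoryTheory.Limits Opposite

namespace Groth.Agent.Der55

open SuppCore ModTensor ModPull

variable {C : Type u} [SmallCategory C] {J : GrothendieckTopology C} {O : Sheaf J CommRingCat.{u}}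

/-- Restriction from `C/W` to `C/W'` is exact. -/
theorem preservesFiniteColimits_overM {W W' : C} (g : W' ⟶ W) :
    PreservesFiniteColimits (overM (O := O) g) := by
  have : (overM (O := O) g).PreservesEpimorphisms := ⟨fun {M N} φ hφ => by
    let ψ := (SheafOfModules.toSheaf (ModSite.ringSh (O.over W'))).map ((overM (O := O) g).map φ)
    suffices h : Epi ψ from (SheafOfModules.toSheaf (ModSite.ringSh (O.over W'))).epi_of_epi_map h
    have hloc : Sheaf.IsLocallySurjective ψ := ⟨fun {Y} s => by
      obtain ⟨S, hS, hlift⟩ := locally_exists_app_eq φ (W := (Over.map g).obj Y) s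
      rw [GrothendieckTopology.mem_over_iff] at hS ⊢
      refine J.superset_covering (fun Z k hk => ?_) hS
      obtain ⟨x, hx⟩ := hlift (Over.homMk k : Over.mk (k ≫ ((Over.map g).obj Y).hom) ⟶ (Over.map g).obj Y)
        ((Sieve.overEquiv_iff S k).1 hk)
      rw [Sieve.overEquiv_iff]
      have e : (Over.mk (k ≫ ((Over.map g).obj Y).hom) : Over W) =
          (Over.map g).obj (Over.mk (k ≫ Y.hom)) := congrArg Over.mk (Category.assoc _ _ _).symm
      refine ⟨rs ((fg (O.over W)).obj M) (Over.homMk (𝟙 Z) (by simp) :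
        (Over.map g).obj (Over.mk (k ≫ Y.hom)) ⟶ Over.mk (k ≫ ((Over.map g).obj Y).hom)).op x, ?_⟩
      refine (app_rs ((fg (O.over W)).map φ) _ x).trans ?_
      rw [hx, ← rs_comp, ← op_comp]
      exact congrArg (fun t : (Over.map g).obj (Over.mk (k ≫ Y.hom)) ⟶ (Over.map g).obj Y =>
        rs ((fg (O.over W)).obj N) t.op (show ((fg (O.over W)).obj N).obj (op ((Over.map g).obj Y)) from s))
        (Over.OverMorphism.ext (Category.id_comp k))⟩
    exact (Sheaf.isLocallySurjective_iff_epi' _ ψ).1 hloc⟩
  have : (overM (O := O) g).IsRightAdjoint :=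
    inferInstanceAs (SheafOfModules.pushforward.{u} _).IsRightAdjoint
  have : PreservesLimitsOfSize.{0, 0} (overM (O := O) g) :=
    (Adjunction.ofIsRightAdjoint (overM (O := O) g)).rightAdjoint_preservesLimits
  have : PreservesFiniteLimits (overM (O := O) g) := ⟨fun _ => inferInstance⟩
  have : (overM (O := O) g).PreservesHomology := Functor.preservesHomology_of_preservesEpis_and_kernels _
  exact (overM (O := O) g).preservesFiniteColimits_of_preservesHomology

/-- The value of a local map out of the structure sheaf. -/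
noncomputable def ev {H : ModSite.Mod O} {W : C}
    (ψ : ModSite.unit (O.over W) ⟶ (ModSite.restr O W).obj H) : ((fg O).obj H).obj (op W) :=
  (((ModSite.restr O W).obj H).unitHomEquiv ψ).val (op (Over.mk (𝟙 W)))

variable {H : ModSite.Mod O} {W : C}

lemma ev_injective {ψ ψ' : ModSite.unit (O.over W) ⟶ (ModSite.restr O W).obj H} (h : ev ψ = ev ψ') :
    ψ = ψ' :=
  (eq_overUnitHom ψ).trans ((congrArg (overUnitHom H) h).trans (eq_overUnitHom ψ').symm)

lemma ev_overUnitHom (t : ((fg O).obj H).obj (op W)) : ev (overUnitHom H t) = t := by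
  show (((ModSite.restr O W).obj H).unitHomEquiv (overUnitHom H t)).val (op (Over.mk (𝟙 W))) = t
  rw [overUnitHom, Equiv.apply_symm_apply]
  exact rs_id (R := O.obj) (P := (fg O).obj H) t

lemma ev_sum {ι : Type*} (s : Finset ι) (ψ : ι → (ModSite.unit (O.over W) ⟶ (ModSite.restr O W).obj H)) :
    ev (∑ i ∈ s, ψ i) = ∑ i ∈ s, ev (ψ i) := by
  classical
  induction s using Finset.induction_on with
  | empty => rw [Finset.sum_empty, Finset.sum_empty]; rfl
  | insert a s ha ih => rw [Finset.sum_insert ha, Finset.sum_insert ha, ← ih]; rfl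

lemma ev_zero : ev (0 : ModSite.unit (O.over W) ⟶ (ModSite.restr O W).obj H) = 0 := rfl

/-- The scalar of a local endomorphism of the structure sheaf. -/
noncomputable def evO (χ : ModSite.unit (O.over W) ⟶ ModSite.unit (O.over W)) : O.obj.obj (op W) :=
  ev (H := ModSite.unit O) χ

lemma ev_comp (χ : ModSite.unit (O.over W) ⟶ ModSite.unit (O.over W))
    (ψ : ModSite.unit (O.over W) ⟶ (ModSite.restr O W).obj H) : ev (χ ≫ ψ) = evO χ • ev ψ := by
  let V : (Over W)ᵒᵖ := op (Over.mk (𝟙 W))
  let f := (((fg (O.over W)).map ψ).app V)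
  show f.hom (((fg (O.over W)).map χ).app V (1 : (O.over W).obj.obj V)) = _
  let r : (O.over W).obj.obj V := (evO (O := O) (W := W) χ : O.obj.obj (op W))
  refine Eq.trans (congrArg f.hom ?_) (map_smul f.hom r (1 : (O.over W).obj.obj V))
  exact (mul_one r).symm

lemma ev_resMap {W' : C} (g : W' ⟶ W) (ψ : ModSite.unit (O.over W) ⟶ (ModSite.restr O W).obj H) :
    ev (resMap g (A := ModSite.unit O) ψ) = rs ((fg O).obj H) g.op (ev ψ) := by
  refine Eq.symm (((((ModSite.restr O W).obj H).unitHomEquiv ψ).property
    (Over.homMk g (by simp) : (Over.map g).obj (Over.mk (𝟙 W')) ⟶ Over.mk (𝟙 W)).op).trans ?_)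
  exact (resMap_app g (A := ModSite.unit O) ψ (Over.mk (𝟙 W')) _).symm

lemma evO_resMap {W' : C} (g : W' ⟶ W) (χ : ModSite.unit (O.over W) ⟶ ModSite.unit (O.over W)) :
    evO (resMap g (A := ModSite.unit O) (B := ModSite.unit O) χ) = (O.obj.map g.op).hom (evO χ) :=
  ev_resMap (H := ModSite.unit O) g χ

lemma evO_res_comp {W' : C} (g : W' ⟶ W) {A B : ModSite.Mod O} (a : ModSite.unit O ⟶ A)
    (x : (ModSite.restr O W).obj A ⟶ (ModSite.restr O W).obj B) (c : B ⟶ ModSite.unit O) :
    evO ((ModSite.restr O W').map a ≫ resMap g x ≫ (ModSite.restr O W').map c) =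
      (O.obj.map g.op).hom (evO ((ModSite.restr O W).map a ≫ x ≫ (ModSite.restr O W).map c)) := by
  refine (congrArg evO ?_).trans (evO_resMap g ((ModSite.restr O W).map a ≫ x ≫ (ModSite.restr O W).map c))
  exact ((congrArg₂ (fun u v => u ≫ resMap g x ≫ v) (resMap_restr g a) (resMap_restr g c)).symm.trans
    (congrArg (resMap g ((ModSite.restr O W).map a) ≫ ·) (resMap_comp g x ((ModSite.restr O W).map c)).symm)).trans
      (resMap_comp g ((ModSite.restr O W).map a) (x ≫ (ModSite.restr O W).map c)).symm

lemma ev_res_comp {W' : C} (g : W' ⟶ W) {A B : ModSite.Mod O} (a : ModSite.unit O ⟶ A)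
    (x : (ModSite.restr O W).obj A ⟶ (ModSite.restr O W).obj B) (c : B ⟶ H) :
    ev ((ModSite.restr O W').map a ≫ resMap g x ≫ (ModSite.restr O W').map c) =
      rs ((fg O).obj H) g.op (ev ((ModSite.restr O W).map a ≫ x ≫ (ModSite.restr O W).map c)) := by
  refine (congrArg ev ?_).trans (ev_resMap g ((ModSite.restr O W).map a ≫ x ≫ (ModSite.restr O W).map c))
  exact ((congrArg₂ (fun u v => u ≫ resMap g x ≫ v) (resMap_restr g a) (resMap_restr g c)).symm.trans
    (congrArg (resMap g ((ModSite.restr O W).map a) ≫ ·) (resMap_comp g x ((ModSite.restr O W).map c)).symm)).trans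
      (resMap_comp g ((ModSite.restr O W).map a) (x ≫ (ModSite.restr O W).map c)).symm

lemma evO_overUnitHom (r : O.obj.obj (op W)) : evO (overUnitHom (ModSite.unit O) r) = r :=
  ev_overUnitHom (H := ModSite.unit O) r

lemma ev_overUnitHom_comp (r : O.obj.obj (op W)) (t : ((fg O).obj H).obj (op W)) :
    ev (overUnitHom (ModSite.unit O) r ≫ overUnitHom H t) = r • t :=
  (ev_comp (overUnitHom (ModSite.unit O) r) (overUnitHom H t)).trans
    ((congrArg (· • ev (overUnitHom H t)) (evO_overUnitHom r)).trans
      (congrArg (r • ·) (ev_overUnitHom t)))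

variable (O) in
/-- The finite free module. -/
noncomputable abbrev gFree (σ : Type u) : ModSite.Mod O := SheafOfModules.free (R := ModSite.ringSh O) σ

variable (O) in
/-- The inclusion of a summand. -/
noncomputable abbrev gι {σ : Type u} (j : σ) : ModSite.unit O ⟶ gFree O σ := SheafOfModules.ιFree j

variable (O) in
open Classical in
/-- The projection to a summand. -/
noncomputable def gPr {σ : Type u} (j : σ) : gFree O σ ⟶ ModSite.unit O :=
  Cofan.IsColimit.desc (SheafOfModules.isColimitFreeCofan σ) fun i => if i = j then 𝟙 _ else 0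

lemma gι_gPr {σ : Type u} [DecidableEq σ] (i j : σ) :
    gι O i ≫ gPr O j = if i = j then 𝟙 _ else 0 := by
  refine (Cofan.IsColimit.fac (SheafOfModules.isColimitFreeCofan σ) _ i).trans ?_
  split_ifs <;> rfl

lemma sum_gPr_gι (σ : Type u) [Fintype σ] : ∑ j, gPr O j ≫ gι O j = 𝟙 (gFree O σ) := by
  classical
  refine Cofan.IsColimit.hom_ext (SheafOfModules.isColimitFreeCofan σ) _ _ fun i => ?_
  show gι O i ≫ _ = gι O i ≫ _
  rw [Preadditive.comp_sum, Category.comp_id, Finset.sum_eq_single i
    (fun j _ hj => by rw [← Category.assoc, gι_gPr, if_neg (Ne.symm hj), zero_comp])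
    (fun h => absurd (Finset.mem_univ i) h), ← Category.assoc, gι_gPr, if_pos rfl, Category.id_comp]

variable (O) in
/-- A restricted finite free module is free. -/
noncomputable def restrFreeIso (σ : Type u) [Finite σ] (W : C) :
    (ModSite.restr O W).obj (gFree O σ) ≅ gFree (O.over W) σ :=
  have := preservesFiniteColimits_restr (O := O) W
  (isColimitCofanMkObjOfIsColimit (ModSite.restr O W) _ _
    (SheafOfModules.isColimitFreeCofan (R := ModSite.ringSh O) σ)).coconePointUniqueUpToIso
      (SheafOfModules.isColimitFreeCofan (R := ModSite.ringSh (O.over W)) σ)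

/-- A map out of a restricted finite free module is determined by its components. -/
lemma eq_sum_gPr {σ : Type u} [Fintype σ] (x : (ModSite.restr O W).obj (gFree O σ) ⟶ (ModSite.restr O W).obj H) :
    x = ∑ j, (ModSite.restr O W).map (gPr O j) ≫ (ModSite.restr O W).map (gι O j) ≫ x := by
  have h := congrArg (ModSite.restr O W).map (sum_gPr_gι (O := O) σ)
  rw [Functor.map_sum, CategoryTheory.Functor.map_id] at h
  conv_lhs => rw [← Category.id_comp x, ← h, Preadditive.sum_comp]
  simp only [Functor.map_comp, Category.assoc]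

/-- The exact sequence of a presentation. -/
theorem exists_exact_of_presentation {C' : Type u} [SmallCategory C'] {J' : GrothendieckTopology C'}
    {R : Sheaf J' RingCat.{u}} {M : SheafOfModules.{u} R} (P : M.Presentation) :
    ∃ (r : SheafOfModules.free (R := R) P.relations.I ⟶ SheafOfModules.free P.generators.I)
      (w : r ≫ P.generators.π = 0), (ShortComplex.mk r P.generators.π w).Exact :=
  ⟨(SheafOfModules.freeHomEquiv _).symm P.relations.s ≫ kernel.ι P.generators.π, by simp,
    ShortComplex.exact_of_g_is_cokernel _ P.isColimit⟩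

/-- A presentation by restricted free modules gives local factorisations into flat modules. -/
theorem exists_factor_of_presentation {F : ModSite.Mod O} (hH : ModSite.IsFlat H) (φ : F ⟶ H) {X : C}
    {κ σ : Type u} [Fintype κ] [Fintype σ]
    (rel : (ModSite.restr O X).obj (gFree O κ) ⟶ (ModSite.restr O X).obj (gFree O σ))
    (π : (ModSite.restr O X).obj (gFree O σ) ⟶ (ModSite.restr O X).obj F) [Epi π] (w : rel ≫ π = 0)
    (hex : (ShortComplex.mk rel π w).Exact) {W : C} (b : W ⟶ X) :
    Locally J W fun V _ => ∃ (n : ℕ) (a : (ModSite.restr O V).obj F ⟶ gFree (O.over V) (ULift.{u} (Fin n)))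
      (c : gFree (O.over V) (ULift.{u} (Fin n)) ⟶ (ModSite.restr O V).obj H),
      a ≫ c = (ModSite.restr O V).map φ := by
  classical
  let RX := ModSite.restr O X
  let co : κ → σ → O.obj.obj (op W) := fun k j =>
    (O.obj.map b.op).hom (evO (RX.map (gι O k) ≫ rel ≫ RX.map (gPr O j)))
  let sX : σ → ((fg O).obj H).obj (op X) := fun j => ev (RX.map (gι O j) ≫ π ≫ RX.map φ)
  let s : σ → ((fg O).obj H).obj (op W) := fun j => rs ((fg O).obj H) b.op (sX j)
  have hX : ∀ k, ∑ j, evO (RX.map (gι O k) ≫ rel ≫ RX.map (gPr O j)) • sX j = 0 := fun k => by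
    simp only [sX]
    simp only [← ev_comp]
    rw [← ev_sum]
    refine (congrArg ev (?_ : _ = (0 : ModSite.unit (O.over X) ⟶ RX.obj H))).trans ev_zero
    have h := congrArg (fun x => RX.map (gι O k) ≫ rel ≫ x) (eq_sum_gPr (π ≫ RX.map φ))
    simp only [reassoc_of% w, zero_comp, comp_zero, Preadditive.comp_sum] at h
    refine Eq.trans (Finset.sum_congr rfl fun j _ => ?_) h.symm
    simp only [Category.assoc]
    rfl
  have hrel : ∀ k, ∑ j, co k j • s j = 0 := fun k => by
    refine Eq.trans ?_ ((congrArg (rs ((fg O).obj H) b.op) (hX k)).trans (map_zero (((fg O).obj H).map b.op).hom))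
    refine Eq.symm ((map_sum (((fg O).obj H).map b.op).hom _ _).trans (Finset.sum_congr rfl fun j _ => ?_))
    exact rs_smul (P := (fg O).obj H) b.op _ (sX j)
  let eκ := Fintype.equivFin κ
  let eσ := Fintype.equivFin σ
  refine (exists_trivialisation hH (fun k j => co (eκ.symm k) (eσ.symm j)) (fun j => s (eσ.symm j))
    fun k => Eq.trans (Fintype.sum_equiv eσ.symm _ (fun j => co (eκ.symm k) j • s j) fun j => rfl)
      (hrel _)).mono ?_
  rintro V g ⟨n, N, t, ht, hN⟩
  let RV := ModSite.restr O V
  let p : V ⟶ X := g ≫ b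
  have := preservesFiniteColimits_overM (O := O) p
  let S₀ := ShortComplex.mk rel π w
  have wV : resMap p rel ≫ resMap p π = 0 := by rw [← resMap_comp, w, resMap_zero]
  have hexV : (ShortComplex.mk (resMap p rel) (resMap p π) wV).Exact := by
    have : PreservesFiniteLimits (overM (O := O) p) :=
      have : (overM (O := O) p).IsRightAdjoint :=
        inferInstanceAs (SheafOfModules.pushforward.{u} _).IsRightAdjoint
      have : PreservesLimitsOfSize.{0, 0} (overM (O := O) p) :=
        (Adjunction.ofIsRightAdjoint (overM (O := O) p)).rightAdjoint_preservesLimits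
      ⟨fun _ => inferInstance⟩
    refine ShortComplex.exact_of_iso ?_ (hex.map (overM (O := O) p))
    exact ShortComplex.isoMk ((overMIso p).app _) ((overMIso p).app _) ((overMIso p).app _)
      (Iso.hom_inv_id_app_assoc (overMIso (O := O) p) _ _) (Iso.hom_inv_id_app_assoc (overMIso (O := O) p) _ _)
  have : Epi (resMap p π) := by
    have : Epi ((overM (O := O) p).map π) := inferInstance
    have : IsIso ((overMIso (O := O) p).hom.app F) := inferInstance
    exact epi_comp' inferInstance (epi_comp' inferInstance inferInstance)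
  let χ : σ → ULift.{u} (Fin n) → (RV.obj (ModSite.unit O) ⟶ RV.obj (ModSite.unit O)) := fun j l =>
    overUnitHom (ModSite.unit O) (N l.down (eσ j))
  let τ : ULift.{u} (Fin n) → (RV.obj (ModSite.unit O) ⟶ RV.obj H) := fun l => overUnitHom H (t l.down)
  let a₀ : RV.obj (gFree O σ) ⟶ RV.obj (gFree O (ULift.{u} (Fin n))) :=
    ∑ j, ∑ l, RV.map (gPr O j) ≫ χ j l ≫ RV.map (gι O l)
  let c₀ : RV.obj (gFree O (ULift.{u} (Fin n))) ⟶ RV.obj H := ∑ l, RV.map (gPr O l) ≫ τ l
  have hco : ∀ k j, evO (RV.map (gι O k) ≫ resMap p rel ≫ RV.map (gPr O j)) =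
      (O.obj.map g.op).hom (co k j) := fun k j => by
    rw [evO_res_comp]
    simp only [co, p, op_comp, Functor.map_comp, CommRingCat.comp_apply]
    rfl
  have hzero : resMap p rel ≫ a₀ = 0 := by
    rw [eq_sum_gPr (H := gFree O (ULift.{u} (Fin n))) (resMap p rel ≫ a₀)]
    refine Finset.sum_eq_zero fun k _ => ?_
    suffices h : RV.map (gι O k) ≫ resMap p rel ≫ a₀ = 0 by rw [h, comp_zero]
    simp only [a₀, Preadditive.comp_sum]
    rw [Finset.sum_comm]
    refine Finset.sum_eq_zero fun l _ => ?_
    have hl : ∑ j, (RV.map (gι O k) ≫ resMap p rel ≫ RV.map (gPr O j)) ≫ χ j l = 0 := by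
      refine ev_injective (H := ModSite.unit O) ((ev_sum (H := ModSite.unit O) _ _).trans ?_)
      refine (Finset.sum_congr rfl fun j _ => (ev_comp (H := ModSite.unit O) _ _).trans
        (congrArg₂ (fun (r : O.obj.obj (op V)) (x : ((fg O).obj (ModSite.unit O)).obj (op V)) => r • x)
          (hco k j) (ev_overUnitHom (H := ModSite.unit O) (N l.down (eσ j))))).trans ?_
      refine Eq.trans ?_ (hN (eκ k) l.down)
      simp only [Equiv.symm_apply_apply]
      exact Fintype.sum_equiv eσ _ _ fun j => by
        show (O.obj.map g.op).hom (co k j) * N l.down (eσ j) = _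
        rw [eσ.symm_apply_apply]
    refine Eq.trans (Finset.sum_congr rfl fun j _ => ?_)
      ((Preadditive.sum_comp _ _ (RV.map (gι O l))).symm.trans
        ((congrArg (· ≫ RV.map (gι O l)) hl).trans zero_comp))
    simp only [Category.assoc]
  have hfac : a₀ ≫ c₀ = resMap p π ≫ RV.map φ := by
    rw [eq_sum_gPr (H := H) (resMap p π ≫ RV.map φ)]
    simp only [a₀, Preadditive.sum_comp]
    refine Finset.sum_congr rfl fun j _ => ?_
    simp only [Preadditive.sum_comp, Category.assoc, ← Preadditive.comp_sum]
    refine congrArg (RV.map (gPr O j) ≫ ·) ?_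
    have hc : ∀ l, RV.map (gι O l) ≫ c₀ = τ l := fun l => by
      simp only [c₀, Preadditive.comp_sum, ← Category.assoc, ← Functor.map_comp, gι_gPr]
      rw [Finset.sum_eq_single l (fun i _ hi => by rw [if_neg (Ne.symm hi), Functor.map_zero, zero_comp])
        (fun h => absurd (Finset.mem_univ l) h), if_pos rfl]
      exact (congrArg (· ≫ τ l) (RV.map_id _)).trans (Category.id_comp _)
    refine ev_injective ?_
    simp only [Preadditive.sum_comp, Category.assoc, hc]
    refine (ev_sum _ _).trans ?_
    refine (Finset.sum_congr rfl fun l _ =>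
      ev_overUnitHom_comp (H := H) (N l.down (eσ j)) (t l.down)).trans ?_
    refine Eq.trans ?_ (ev_res_comp (H := H) p (gι O j) π φ).symm
    refine Eq.trans ?_ (rs_comp (P := (fg O).obj H) b.op g.op (sX j)).symm
    refine Eq.trans ?_ (congrArg (rs ((fg O).obj H) g.op) (show s (eσ.symm (eσ j)) = s j by
      rw [eσ.symm_apply_apply]))
    refine Eq.trans ?_ (ht (eσ j)).symm
    exact Fintype.sum_equiv Equiv.ulift _ _ fun l => rfl
  let e := restrFreeIso O (ULift.{u} (Fin n)) V
  refine ⟨n, hexV.desc a₀ hzero ≫ e.hom, e.inv ≫ c₀, ?_⟩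
  rw [Category.assoc, e.hom_inv_id_assoc, ← cancel_epi (resMap p π), ← Category.assoc]
  exact (congrArg (· ≫ c₀) (hexV.g_desc a₀ hzero)).trans hfac

/-- A morphism from a module of finite presentation to a flat one factors locally through finite free modules. -/
theorem exists_local_factorisation (F H : ModSite.Mod O) [F.IsFinitePresentation] (hH : ModSite.IsFlat H)
    (φ : F ⟶ H) (X : C) :
    Locally J X fun V _ => ∃ (n : ℕ) (a : (ModSite.restr O V).obj F ⟶ gFree (O.over V) (ULift.{u} (Fin n)))
      (c : gFree (O.over V) (ULift.{u} (Fin n)) ⟶ (ModSite.restr O V).obj H),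
      a ≫ c = (ModSite.restr O V).map φ := by
  obtain ⟨q, hq⟩ := SheafOfModules.IsFinitePresentation.exists_quasicoherentData (R := ModSite.ringSh O) F
  refine Locally.bind (⟨_, q.coversTop X, fun _ _ h => h⟩ :
    Locally J X fun _ g => Sieve.ofObjects q.X X g) fun W g hg => ?_
  obtain ⟨i, ⟨b⟩⟩ := hg
  let M := (ModSite.restr O (q.X i)).obj F
  let P : SheafOfModules.Presentation (R := ModSite.ringSh (O.over (q.X i))) M := q.presentation i
  have hP := hq.isFinite_presentation i
  have : Finite P.generators.I := hP.isFiniteType_generators.finite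
  have : Finite P.relations.I := hP.isFiniteType_relations.finite
  have : Fintype P.generators.I := Fintype.ofFinite _
  have : Fintype P.relations.I := Fintype.ofFinite _
  let eσ := restrFreeIso O P.generators.I (q.X i)
  let eκ := restrFreeIso O P.relations.I (q.X i)
  obtain ⟨r, hr, hex₀⟩ := exists_exact_of_presentation P
  have : Epi P.generators.π := P.generators.epi
  let π := eσ.hom ≫ P.generators.π
  let rel := eκ.hom ≫ r ≫ eσ.inv
  have w : rel ≫ π = 0 := by simp [rel, π, hr]
  have : Epi π := epi_comp _ _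
  let e : ShortComplex.mk r P.generators.π hr ≅ ShortComplex.mk rel π w :=
    ShortComplex.isoMk eκ.symm eσ.symm (Iso.refl _) (by simp [rel]) (by simp [π])
  have hex : (ShortComplex.mk rel π w).Exact := ShortComplex.exact_of_iso e hex₀
  exact (exists_factor_of_presentation hH φ rel π w hex b).mono fun V _ h => h

end Groth.Agent.Der55
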