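import Groth.Agent.ModTensor.FreeOn
import Groth.Agent.SiteBase.ModGroth

/-! Direct sums of the modules `j_{U!}O_U`. -/

universe u

open CategoryTheory Limits Opposite

namespace Groth.Agent.Der55

variable {C : Type u} [SmallCategory C] {J : GrothendieckTopology C} (O : Sheaf J CommRingCat.{u})

/-- Isomorphic to a direct sum of modules `j_{U!}O_U`. -/
def freeOnSum : ObjectProperty (ModSite.Mod O) := fun X =>
  ∃ (ι : Type u) (U : ι → C), Nonempty (X ≅ ∐ fun j => ModSite.freeOn O (U j))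

instance : (freeOnSum O).IsClosedUnderIsomorphisms where
  of_iso := fun e ⟨ι, U, ⟨h⟩⟩ => ⟨ι, U, ⟨e.symm ≪≫ h⟩⟩

lemma freeOnSum_of_isZero (Z : ModSite.Mod O) (hZ : IsZero Z) : freeOnSum O Z :=
  let U : PEmpty.{u + 1} → C := fun x => x.elim
  ⟨PEmpty, U, ⟨hZ.iso ((IsZero.iff_id_eq_zero (∐ fun x => ModSite.freeOn O (U x))).2
    (Sigma.hom_ext _ _ fun x => x.elim))⟩⟩

lemma freeOnSum_coprod (X Y : ModSite.Mod O) (hX : freeOnSum O X) (hY : freeOnSum O Y) :
    freeOnSum O (X ⊞ Y) := by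
  obtain ⟨ι, U, ⟨eX⟩⟩ := hX
  obtain ⟨κ, V, ⟨eY⟩⟩ := hY
  refine ⟨ι ⊕ κ, Sum.elim U V, ⟨biprod.mapIso eX eY ≪≫
    { hom := biprod.desc
        (Sigma.desc fun i => Sigma.ι (fun j => ModSite.freeOn O (Sum.elim U V j)) (Sum.inl i))
        (Sigma.desc fun i => Sigma.ι (fun j => ModSite.freeOn O (Sum.elim U V j)) (Sum.inr i))
      inv := Sigma.desc fun j => match j with
        | .inl i => Sigma.ι (fun k => ModSite.freeOn O (U k)) i ≫ biprod.inl
        | .inr i => Sigma.ι (fun k => ModSite.freeOn O (V k)) i ≫ biprod.inr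
      hom_inv_id := by
        refine biprod.hom_ext' _ _ ?_ ?_ <;> apply Sigma.hom_ext <;> intro i <;> (simp; exact (Sigma.ι_desc _ _).trans (by simp))
      inv_hom_id := by
        refine Sigma.hom_ext _ _ fun j => ?_
        cases j <;> exact (Sigma.ι_desc_assoc _ _ _).trans (by simp <;> rfl) }⟩⟩

/-- Every module is a quotient of a direct sum of modules `j_{U!}O_U`. -/
lemma exists_epi_freeOnSum (X : ModSite.Mod O) :
    ∃ (Y : ModSite.Mod O) (π : Y ⟶ X), freeOnSum O Y ∧ Epi π := by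
  let ι := Σ U : C, (ModSite.freeOn O U ⟶ X)
  refine ⟨∐ fun j : ι => ModSite.freeOn O j.1, Sigma.desc fun j => j.2,
    ⟨ι, fun j => j.1, ⟨Iso.refl _⟩⟩, ⟨fun {Z} g h w => ?_⟩⟩
  refine ModTensor.isSeparating_freeOn (O := O) Set.univ
    (fun U => ⟨PUnit, fun _ => U, fun _ => 𝟙 U, ?_, fun _ => trivial⟩) _ _ ?_
  · convert J.top_mem U
    rw [eq_top_iff]
    exact fun V f _ => ⟨U, f, 𝟙 U, Presieve.ofArrows.mk PUnit.unit, Category.comp_id f⟩
  · rintro G ⟨⟨U, hU⟩⟩ p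
    simpa using Sigma.ι (fun j : ι => ModSite.freeOn O j.1) ⟨U, p⟩ ≫= w

end Groth.Agent.Der55
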