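import Groth.Agent.SiteBase.LocalLift
import Groth.Agent.KFlatLib.Perfect.Lift

/-!
# Maps out of strictly perfect complexes on a ringed site lift locally up to homotopy
-/

set_option linter.style.haveILetI false

universe u

open CategoryTheory CategoryTheory.Limits Opposite CochainComplex

namespace Groth.Agent.Der55

open SuppCore

variable {C : Type u} [SmallCategory C] {J : GrothendieckTopology C} {O : Sheaf J CommRingCat.{u}}

instance (W : C) : (ModSite.restr O W).Additive where
  map_add := rfl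

section Res

variable {W W' : C} (g : W' ⟶ W)

/-- Restriction from `C/W` to `C/W'`. -/
noncomputable abbrev overM : ModSite.Mod (O.over W) ⥤ ModSite.Mod (O.over W') :=
  SheafOfModules.overMap (ModSite.ringSh O) g

instance : (overM (O := O) g).Additive where
  map_add := rfl

instance : (overM (O := O) g).PreservesZeroMorphisms := Functor.preservesZeroMorphisms_of_additive _

/-- The restrictions to `C/W` and `C/W'` agree. -/
noncomputable abbrev overMIso : ModSite.restr O W ⋙ overM (O := O) g ≅ ModSite.restr O W' :=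
  SheafOfModules.overFunctorMap (ModSite.ringSh O) g

/-- Restriction of a local morphism between global modules. -/
noncomputable def resMap {A B : ModSite.Mod O}
    (φ : (ModSite.restr O W).obj A ⟶ (ModSite.restr O W).obj B) :
    (ModSite.restr O W').obj A ⟶ (ModSite.restr O W').obj B :=
  (overMIso g).inv.app A ≫ (overM g).map φ ≫ (overMIso g).hom.app B

lemma resMap_app {A B : ModSite.Mod O}
    (φ : (ModSite.restr O W).obj A ⟶ (ModSite.restr O W).obj B) (V : Over W')
    (x : ((ModSite.restr O W').obj A).val.obj (op V)) :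
    ((resMap g φ).val.app (op V)).hom x = (φ.val.app (op ((Over.map g).obj V))).hom x :=
  rfl

lemma resMap_restr {A B : ModSite.Mod O} (ψ : A ⟶ B) :
    resMap g ((ModSite.restr O W).map ψ) = (ModSite.restr O W').map ψ :=
  NatIso.naturality_1 (overMIso g) ψ

lemma resMap_zero {A B : ModSite.Mod O} :
    resMap g (0 : (ModSite.restr O W).obj A ⟶ (ModSite.restr O W).obj B) = 0 := by
  rw [resMap, Functor.map_zero, zero_comp, comp_zero]

lemma resMap_comp {A B D : ModSite.Mod O}
    (φ : (ModSite.restr O W).obj A ⟶ (ModSite.restr O W).obj B)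
    (ψ : (ModSite.restr O W).obj B ⟶ (ModSite.restr O W).obj D) :
    resMap g (φ ≫ ψ) = resMap g φ ≫ resMap g ψ := by
  simp [resMap]

lemma resMap_resMap {W'' : C} (g' : W'' ⟶ W') {A B : ModSite.Mod O}
    (φ : (ModSite.restr O W).obj A ⟶ (ModSite.restr O W).obj B) :
    resMap g' (resMap g φ) = resMap (g' ≫ g) φ := by
  refine SheafOfModules.hom_ext (PresheafOfModules.hom_ext fun V => ?_)
  ext x
  refine (resMap_app g' _ V.unop x).trans ((resMap_app g φ ((Over.map g').obj V.unop) x).trans
    (Eq.trans ?_ (resMap_app (g' ≫ g) φ V.unop x).symm))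
  show (φ.val.app (op (Over.mk ((V.unop.hom ≫ g') ≫ g)))).hom x =
    (φ.val.app (op (Over.mk (V.unop.hom ≫ g' ≫ g)))).hom x
  congr 3 <;> rw [Category.assoc]

end Res

/-- Maps out of the structure sheaf over `C/W` are given by their section. -/
lemma eq_overUnitHom {F : ModSite.Mod O} {W : C}
    (φ : ModSite.unit (O.over W) ⟶ (ModSite.restr O W).obj F) :
    φ = overUnitHom F ((((ModSite.restr O W).obj F).unitHomEquiv φ).val (op (Over.mk (𝟙 W)))) := by
  refine ((ModSite.restr O W).obj F).unitHomEquiv.injective (Eq.trans ?_ (Equiv.apply_symm_apply _ _).symm)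
  refine Subtype.ext (funext fun V => ?_)
  exact ((((ModSite.restr O W).obj F).unitHomEquiv φ).property
    (Over.homMk V.unop.hom (Category.comp_id _) : V.unop ⟶ Over.mk (𝟙 W)).op).symm

/-- A local map out of a finite free module lifts locally along an epimorphism. -/
theorem exists_local_lift_free' {n : ℕ} {F G : ModSite.Mod O} (p : G ⟶ F) [Epi p] {W₀ : C}
    (φ : (ModSite.restr O W₀).obj (SheafOfModules.free (R := ModSite.ringSh O) (ULift.{u} (Fin n))) ⟶
      (ModSite.restr O W₀).obj F) :
    ∃ R ∈ J W₀, ∀ ⦃W : C⦄ (g : W ⟶ W₀), R g →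
      ∃ l : (ModSite.restr O W).obj (SheafOfModules.free (R := ModSite.ringSh O) (ULift.{u} (Fin n))) ⟶
          (ModSite.restr O W).obj G,
        l ≫ (ModSite.restr O W).map p = resMap g φ := by
  classical
  let s : ULift.{u} (Fin n) → ModSite.sect F W₀ := fun k =>
    (((ModSite.restr O W₀).obj F).unitHomEquiv
      ((ModSite.restr O W₀).map (SheafOfModules.ιFree k) ≫ φ)).val (op (Over.mk (𝟙 W₀)))
  choose S hS hlift using fun k => exists_cover_lift p (s k)
  refine ⟨Finset.univ.inf S, ?_, fun W g hg => ?_⟩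
  · refine Finset.inf_induction (p := fun R : Sieve W₀ => R ∈ J W₀) (J.top_mem W₀)
      (fun a ha b hb => J.intersection_covering ha hb) fun k _ => hS k
  have hk : ∀ k, (S k).arrows g := fun k => by
    have h : Finset.univ.inf S ≤ S k := Finset.inf_le (Finset.mem_univ k)
    exact h _ hg
  choose t ht using fun k => hlift k g (hk k)
  have : PreservesFiniteColimits (ModSite.restr O W) := preservesFiniteColimits_restr W
  let hc := isColimitCofanMkObjOfIsColimit (ModSite.restr O W) _ _
    (SheafOfModules.isColimitFreeCofan (R := ModSite.ringSh O) (ULift.{u} (Fin n)))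
  refine ⟨Cofan.IsColimit.desc hc fun k => overUnitHom G (t k), Cofan.IsColimit.hom_ext hc _ _ fun k => ?_⟩
  refine (Category.assoc _ _ _).symm.trans ((congrArg (· ≫ _) (Cofan.IsColimit.fac hc _ k)).trans ?_)
  refine (overUnitHom_comp p (t k)).trans ?_
  have h1 : (ModSite.restr O W).map (SheafOfModules.ιFree k) ≫ resMap g φ =
      resMap g ((ModSite.restr O W₀).map (SheafOfModules.ιFree k) ≫ φ) := by
    rw [resMap_comp, resMap_restr]
  refine Eq.trans ?_ h1.symm
  let ψ' : ModSite.unit (O.over W) ⟶ (ModSite.restr O W).obj F :=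
    resMap g ((ModSite.restr O W₀).map (SheafOfModules.ιFree k) ≫ φ)
  refine Eq.trans (congrArg (overUnitHom F) ?_) (eq_overUnitHom ψ').symm
  refine (ht k).trans ?_
  let ψ := (ModSite.restr O W₀).map (SheafOfModules.ιFree k) ≫ φ
  show res F g ((((ModSite.restr O W₀).obj F).unitHomEquiv ψ).val (op (Over.mk (𝟙 W₀)))) = _
  refine ((((ModSite.restr O W₀).obj F).unitHomEquiv ψ).property
    (Over.homMk g (by simp) : (Over.map g).obj (Over.mk (𝟙 W)) ⟶ Over.mk (𝟙 W₀)).op).trans ?_
  exact (resMap_app g ψ (Over.mk (𝟙 W)) _).symm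

/-- A local map out of a summand of a finite free module lifts locally along an epimorphism. -/
theorem exists_local_lift_summand' {E F G : ModSite.Mod O}
    (hE : DCoh.IsFinFreeSummandMod (ModSite.ringSh O) E) (p : G ⟶ F) [Epi p] {W₀ : C}
    (φ : (ModSite.restr O W₀).obj E ⟶ (ModSite.restr O W₀).obj F) :
    ∃ R ∈ J W₀, ∀ ⦃W : C⦄ (g : W ⟶ W₀), R g →
      ∃ l : (ModSite.restr O W).obj E ⟶ (ModSite.restr O W).obj G,
        l ≫ (ModSite.restr O W).map p = resMap g φ := by
  obtain ⟨n, i, r, hir⟩ := hE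
  obtain ⟨R, hR, h⟩ := exists_local_lift_free' p ((ModSite.restr O W₀).map r ≫ φ)
  refine ⟨R, hR, fun W g hg => ?_⟩
  obtain ⟨l, hl⟩ := h g hg
  refine ⟨(ModSite.restr O W).map i ≫ l, ?_⟩
  rw [Category.assoc, hl, resMap_comp, resMap_restr, ← Category.assoc, ← Functor.map_comp, hir,
    CategoryTheory.Functor.map_id, Category.id_comp]

/-- A local map killed by the second map of an exact sequence lifts locally to the first. -/
theorem exists_local_lift_exact {S : ShortComplex (ModSite.Mod O)} (hS : S.Exact) {M : ModSite.Mod O}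
    (hM : DCoh.IsFinFreeSummandMod (ModSite.ringSh O) M) {W₀ : C}
    (φ : (ModSite.restr O W₀).obj M ⟶ (ModSite.restr O W₀).obj S.X₂)
    (hφ : φ ≫ (ModSite.restr O W₀).map S.g = 0) :
    ∃ R ∈ J W₀, ∀ ⦃W : C⦄ (g : W ⟶ W₀), R g →
      ∃ h : (ModSite.restr O W).obj M ⟶ (ModSite.restr O W).obj S.X₁,
        h ≫ (ModSite.restr O W).map S.f = resMap g φ := by
  have := preservesFiniteColimits_restr (O := O) W₀
  have := hS.epi_toCycles
  let T := S.map (ModSite.restr O W₀)
  obtain ⟨R, hR, h⟩ := exists_local_lift_summand' hM S.toCycles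
    (T.liftCycles φ hφ ≫ (S.mapCyclesIso (ModSite.restr O W₀)).hom)
  refine ⟨R, hR, fun W g hg => ?_⟩
  obtain ⟨l, hl⟩ := h g hg
  refine ⟨l, ?_⟩
  rw [← S.toCycles_i, Functor.map_comp, ← Category.assoc, hl, ← resMap_restr g S.iCycles, ← resMap_comp,
    Category.assoc, ShortComplex.mapCyclesIso_hom_iCycles]
  exact congrArg _ (T.liftCycles_i φ hφ)

section Cx

variable {W W' : C} (g : W' ⟶ W)

/-- Restriction of complexes to `C/W`. -/
noncomputable abbrev rsCx (O : Sheaf J CommRingCat.{u}) (W : C) :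
    CochainComplex (ModSite.Mod O) ℤ ⥤ CochainComplex (ModSite.Mod (O.over W)) ℤ :=
  (ModSite.restr O W).mapHomologicalComplex (ComplexShape.up ℤ)

/-- Restriction of local maps of complexes. -/
noncomputable def resCx {E F : CochainComplex (ModSite.Mod O) ℤ}
    (φ : (rsCx O W).obj E ⟶ (rsCx O W).obj F) : (rsCx O W').obj E ⟶ (rsCx O W').obj F :=
  (NatIso.mapHomologicalComplex (overMIso (O := O) g) (ComplexShape.up ℤ)).inv.app E ≫
    ((overM g).mapHomologicalComplex (ComplexShape.up ℤ)).map φ ≫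
      (NatIso.mapHomologicalComplex (overMIso (O := O) g) (ComplexShape.up ℤ)).hom.app F

lemma resCx_f {E F : CochainComplex (ModSite.Mod O) ℤ}
    (φ : (rsCx O W).obj E ⟶ (rsCx O W).obj F) (i : ℤ) : (resCx g φ).f i = resMap g (φ.f i) :=
  rfl

lemma resCx_rsCx {E F : CochainComplex (ModSite.Mod O) ℤ} (α : E ⟶ F) :
    resCx g ((rsCx O W).map α) = (rsCx O W').map α :=
  HomologicalComplex.hom_ext _ _ fun i => resMap_restr g (α.f i)

lemma resCx_resCx {W'' : C} (g' : W'' ⟶ W') {E F : CochainComplex (ModSite.Mod O) ℤ}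
    (φ : (rsCx O W).obj E ⟶ (rsCx O W).obj F) : resCx g' (resCx g φ) = resCx (g' ≫ g) φ :=
  HomologicalComplex.hom_ext _ _ fun i => resMap_resMap g g' (φ.f i)

lemma resCx_zero {E F : CochainComplex (ModSite.Mod O) ℤ} :
    resCx g (0 : (rsCx O W).obj E ⟶ (rsCx O W).obj F) = 0 := by
  exact HomologicalComplex.hom_ext _ _ fun i => resMap_zero g

/-- Restriction of homotopies. -/
noncomputable def resHomotopy {E F : CochainComplex (ModSite.Mod O) ℤ}
    {φ ψ : (rsCx O W).obj E ⟶ (rsCx O W).obj F} (H : Homotopy φ ψ) :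
    Homotopy (resCx g φ) (resCx g ψ) :=
  (((overM g).mapHomotopy H).compRight _).compLeft _

end Cx

variable {E F : CochainComplex (ModSite.Mod O) ℤ}

lemma exists_nullHomotopy_aux (hE : ∀ i, DCoh.IsFinFreeSummandMod (ModSite.ringSh O) (E.X i))
    (a : ℤ) (hEa : ∀ i, i < a → IsZero (E.X i)) (hF : ∀ i, a ≤ i → F.ExactAt i) (n : ℕ) :
    ∀ (W : C) (α : (rsCx O W).obj E ⟶ (rsCx O W).obj F), (∀ i, a + n ≤ i → α.f i = 0) →
      ∃ R ∈ J W, ∀ ⦃W' : C⦄ (g : W' ⟶ W), R g → Nonempty (Homotopy (resCx g α) 0) := by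
  induction n with
  | zero =>
    intro W α hα
    refine ⟨⊤, J.top_mem W, fun W' g _ => ⟨Homotopy.ofEq ?_⟩⟩
    have : α = 0 := HomologicalComplex.hom_ext _ _ fun i => by
      rcases lt_or_ge i a with h | h
      · exact ((ModSite.restr O W).map_isZero (hEa i h)).eq_of_src _ _
      · exact hα i (by omega)
    rw [this, resCx_zero]
  | succ n ih =>
    intro W α hα
    obtain ⟨k, hk⟩ : ∃ k, k = a + n := ⟨_, rfl⟩
    have hcyc : α.f k ≫ (ModSite.restr O W).map (F.d k (k + 1)) = 0 := by
      refine (α.comm k (k + 1)).trans ?_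
      rw [hα (k + 1) (by omega), comp_zero]
      rfl
    obtain ⟨R, hR, hlift⟩ := exists_local_lift_exact
      ((F.exactAt_iff' (k - 1) k (k + 1) (by simp) (by simp)).1 (hF k (by omega)))
      (hE k) (α.f k) hcyc
    have key : ∀ ⦃W' : C⦄ (g : W' ⟶ W), R g →
        ∃ R' ∈ J W', ∀ ⦃W'' : C⦄ (g' : W'' ⟶ W'), R' g' →
          Nonempty (Homotopy (resCx g' (resCx g α)) 0) := by
      intro W' g hg
      obtain ⟨h, hh⟩ := hlift g hg
      let E' := (rsCx O W').obj E
      let F' := (rsCx O W').obj F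
      let hom : ∀ i j : ℤ, (ComplexShape.up ℤ).Rel j i → (E'.X i ⟶ F'.X j) := fun i j hji =>
        if hi : i = k then
          eqToHom (by subst hi; rfl) ≫ h ≫ eqToHom (by
            have : j + 1 = i := hji
            obtain rfl : j = k - 1 := by omega
            rfl)
        else 0
      let α' := resCx g α - Homotopy.nullHomotopicMap' hom
      have hα' : ∀ i, a + n ≤ i → α'.f i = 0 := fun i hi => by
        change (resCx g α).f i - (Homotopy.nullHomotopicMap' hom).f i = 0
        rw [Homotopy.nullHomotopicMap'_f (k₂ := i - 1) (k₀ := i + 1) (by simp) (by simp)]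
        have h0 : hom (i + 1) i (by simp) = 0 := dif_neg (by omega)
        rw [h0, comp_zero, zero_add, sub_eq_zero]
        rcases eq_or_lt_of_le (show k ≤ i by omega) with h' | h'
        · subst h'
          rw [show hom k (k - 1) (by simp) = h from
            (dif_pos rfl).trans ((Category.id_comp _).trans (Category.comp_id _))]
          exact hh.symm
        · rw [show hom i (i - 1) (by simp) = 0 from dif_neg (by omega), zero_comp]
          rw [resCx_f, hα i (by omega)]
          exact resMap_zero g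
      obtain ⟨R', hR', hH⟩ := ih W' α' hα'
      refine ⟨R', hR', fun W'' g' hg' => ?_⟩
      obtain ⟨H⟩ := hH g' hg'
      have H₁ : Homotopy (resCx g α) α' :=
        Homotopy.equivSubZero.symm
          ((Homotopy.ofEq (by simp [α'])).trans (Homotopy.nullHomotopy' hom))
      exact ⟨(resHomotopy g' H₁).trans H⟩
    choose R' hR' hH using key
    refine ⟨Sieve.bind R.arrows fun Y f hf => R' f hf, J.bind_covering hR fun Y f hf => hR' f hf,
      fun W'' g'' hg'' => ?_⟩
    obtain ⟨Y, g', g, hg, hg', rfl⟩ := hg''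
    obtain ⟨H⟩ := hH g hg g' hg'
    exact ⟨(Homotopy.ofEq (resCx_resCx g g' α).symm).trans H⟩

/-- Maps from a strictly perfect complex to a complex exact in its degrees are locally null. -/
theorem exists_local_nullHomotopy (α : E ⟶ F) (hE : DCoh.IsStrictlyPerfectMod (ModSite.ringSh O) E)
    (a : ℤ) (hEa : ∀ i : ℤ, i < a → IsZero (E.X i)) (hF : ∀ i : ℤ, a ≤ i → IsZero (F.homology i)) (V : C) :
    ∃ R ∈ J V, ∀ ⦃W : C⦄ (g : W ⟶ V), R g → Nonempty (Homotopy ((rsCx O W).map α) 0) := by
  obtain ⟨⟨c, d, hd⟩, hf⟩ := hE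
  obtain ⟨R, hR, h⟩ := exists_nullHomotopy_aux hf a hEa
    (fun i hi => (F.exactAt_iff_isZero_homology i).2 (hF i hi)) (d + 1 - a).toNat V ((rsCx O V).map α)
    (fun i hi => ((ModSite.restr O V).map_isZero (hd i (Or.inr (by omega)))).eq_of_src _ _)
  refine ⟨R, hR, fun W g hg => ?_⟩
  obtain ⟨H⟩ := h g hg
  exact ⟨(Homotopy.ofEq (resCx_rsCx g α).symm).trans H⟩

section Lift

attribute [local instance] HasDerivedCategory.standard

/-- Maps out of strictly perfect complexes lift locally up to homotopy. -/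
theorem exists_local_lift_homotopy {E F G : CochainComplex (ModSite.Mod O) ℤ} (α : E ⟶ F) (f : G ⟶ F)
    (hE : DCoh.IsStrictlyPerfectMod (ModSite.ringSh O) E) (a : ℤ)
    (hEa : ∀ j : ℤ, j < a → IsZero (E.X j))
    (hiso : ∀ j : ℤ, a < j → IsIso (HomologicalComplex.homologyMap f j))
    (hepi : Epi (HomologicalComplex.homologyMap f a)) (V : C) :
    ∃ R ∈ J V, ∀ ⦃W : C⦄ (g : W ⟶ V), R g →
      ∃ β : (rsCx O W).obj E ⟶ (rsCx O W).obj G,
        Nonempty (Homotopy (β ≫ (rsCx O W).map f) ((rsCx O W).map α)) := by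
  obtain ⟨R, hR, h⟩ := exists_local_nullHomotopy (α ≫ mappingCone.inr f) hE a hEa
    ((KFlatLib.isPcMap_iff_cone a f).1 (KFlatLib.isPcMap_of_homologyMap a f hiso hepi)) V
  refine ⟨R, hR, fun W g hg => ?_⟩
  obtain ⟨H⟩ := h g hg
  exact KFlatLib.exists_lift_of_homotopy ((rsCx O W).map f) ((rsCx O W).map α)
    ((Homotopy.ofEq (by rw [Functor.map_comp, Category.assoc, mappingCone.map_inr])).trans
      ((H.compRight (mappingCone.mapHomologicalComplexIso f (ModSite.restr O W)).hom).trans
        (Homotopy.ofEq zero_comp)))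

end Lift

/-- Maps in the derived category out of strictly perfect complexes are locally maps of complexes. -/
theorem exists_local_chain_rep
    [HasDerivedCategory.{u} (ModSite.Mod O)] [∀ W : C, HasDerivedCategory.{u} (ModSite.Mod (O.over W))]
    [∀ W : C, (ModSite.restr O W).Additive] [∀ W : C, PreservesFiniteColimits (ModSite.restr O W)]
    (E F : CochainComplex (ModSite.Mod O) ℤ) (hE : DCoh.IsStrictlyPerfectMod (ModSite.ringSh O) E)
    (α : DerivedCategory.Q.obj E ⟶ DerivedCategory.Q.obj F) (V : C) :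
    ∃ R ∈ J V, ∀ ⦃W : C⦄ (g : W ⟶ V), R g →
      ∃ α' : (rsCx O W).obj E ⟶ (rsCx O W).obj F,
        (ModSite.restr O W).mapDerivedCategory.map α =
          (ModSite.restr O W).mapDerivedCategoryFactors.hom.app E ≫ DerivedCategory.Q.map α' ≫
            (ModSite.restr O W).mapDerivedCategoryFactors.inv.app F := by
  obtain ⟨F', g, s, hs, hfac⟩ := DerivedCategory.left_fac α
  have hq : QuasiIso s := by rwa [← DerivedCategory.isIso_Q_map_iff_quasiIso]
  obtain ⟨⟨a, b, hab⟩, hf⟩ := hE
  obtain ⟨R, hR, h⟩ := exists_local_lift_homotopy g s ⟨⟨a, b, hab⟩, hf⟩ a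
    (fun j hj => hab j (Or.inl hj)) (fun i _ => (quasiIsoAt_iff_isIso_homologyMap s i).1 (hq.quasiIsoAt i))
    (haveI := (quasiIsoAt_iff_isIso_homologyMap s a).1 (hq.quasiIsoAt a); inferInstance) V
  refine ⟨R, hR, fun W k hk => ?_⟩
  obtain ⟨β, ⟨H⟩⟩ := h k hk
  refine ⟨β, ?_⟩
  let φ := (ModSite.restr O W).mapDerivedCategoryFactors
  have h : DerivedCategory.Q.map (β ≫ (rsCx O W).map s) = DerivedCategory.Q.map ((rsCx O W).map g) :=
    congrArg DerivedCategory.Qh.map (HomotopyCategory.eq_of_homotopy _ _ H)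
  rw [Functor.map_comp] at h
  have hg := φ.hom.naturality g
  dsimp at hg
  haveI : IsIso ((ModSite.restr O W).mapDerivedCategory.map (DerivedCategory.Q.map s)) := inferInstance
  rw [hfac, Functor.map_comp, Functor.map_inv, IsIso.comp_inv_eq]
  have hs'' : φ.inv.app F ≫ (ModSite.restr O W).mapDerivedCategory.map
      (DerivedCategory.Q.map s) = DerivedCategory.Q.map ((rsCx O W).map s) ≫ φ.inv.app F' :=
    (φ.inv.naturality s).symm
  simp only [Category.assoc]
  rw [hs'', reassoc_of% h, ← reassoc_of% hg, Iso.hom_inv_id_app]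
  exact (Category.comp_id _).symm

end Groth.Agent.Der55
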