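import Groth.Agent.Der55.SpecialSystem
import Groth.Agent.TriCat.DerivedProducts
import Mathlib.Algebra.Homology.DerivedCategory.TStructure
import Mathlib.Algebra.Homology.DerivedCategory.HomologySequence
import Mathlib.Algebra.Homology.DerivedCategory.KInjective
import Mathlib.Algebra.Homology.HomologicalComplexLimits
import Mathlib.CategoryTheory.Abelian.GrothendieckAxioms.Basic

/-! Products of complexes: K-injectivity, homology, and sequential homotopy limits. -/

universe t w v u

open CategoryTheory Limits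

namespace Groth.Agent.Der55

open HomologicalComplex

variable {A : Type u} [Category.{v} A] [Abelian A] {J : Type t}

lemma isKInjective_pi [HasLimitsOfShape (Discrete J) A] (M : J → CochainComplex A ℤ)
    (h : ∀ j, (M j).IsKInjective) : CochainComplex.IsKInjective (∏ᶜ M) := by
  refine ⟨fun {K} f hK => ⟨HomotopyCategory.homotopyOfEq _ _ ?_⟩⟩
  refine TriCat.quotient_hom_ext_pi _ _ fun j => ?_
  have := h j
  exact HomotopyCategory.eq_of_homotopy _ _ ((CochainComplex.IsKInjective.homotopyZero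
    (f ≫ Pi.π M j) hK).trans (Homotopy.ofEq zero_comp.symm))

lemma isKInjective_mappingCocone {M N : CochainComplex A ℤ} (d : M ⟶ N)
    [hM : M.IsKInjective] [hN : N.IsKInjective] :
    CochainComplex.IsKInjective (CochainComplex.mappingCocone d) := by
  have : (CochainComplex.mappingCone d).IsKInjective := by
    rw [CochainComplex.isKInjective_iff_rightOrthogonal] at hM hN ⊢
    exact (HomotopyCategory.subcategoryAcyclic A).rightOrthogonal.ext_of_isTriangulatedClosed₃ _
      (HomotopyCategory.mappingCone_triangleh_distinguished d) hM hN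
  exact inferInstanceAs (((CochainComplex.mappingCone d)⟦(-1 : ℤ)⟧).IsKInjective)

section

open ZeroObject

variable [EnoughInjectives A]

lemma exists_injective_resolution_of_isStrictlyGE (K : CochainComplex A ℤ) (a : ℤ) [K.IsStrictlyGE a] :
    ∃ (I : CochainComplex A ℤ) (f : K ⟶ I), I.IsKInjective ∧ QuasiIso f := by
  obtain ⟨I, f, hIa, hI, -, hf⟩ := TriCat.exists_quasiIso_resolution (fun Y : A => Injective Y)
    ⟨0, isZero_zero A, inferInstance⟩
    (fun Y => ⟨Injective.under Y, Injective.ι Y, inferInstance, inferInstance⟩) K a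
  have := hI
  exact ⟨I, f, CochainComplex.isKInjective_of_injective I a, hf⟩

/-- Products of bounded below objects of the derived category. -/
theorem hasProduct_of_isGE [HasDerivedCategory.{w} A] [HasLimitsOfShape (Discrete J) A]
    (X : J → DerivedCategory A) (hX : ∀ j, ∃ a : ℤ, (X j).IsGE a) : HasProduct X := by
  have h : ∀ j, ∃ I : CochainComplex A ℤ, I.IsKInjective ∧
      Nonempty (X j ≅ DerivedCategory.Qh.obj ((HomotopyCategory.quotient A _).obj I)) := by
    intro j
    obtain ⟨a, ha⟩ := hX j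
    obtain ⟨K, hK, ⟨e⟩⟩ := DerivedCategory.exists_iso_Q_obj_of_isGE (X j) a
    obtain ⟨I, f, hI, hf⟩ := exists_injective_resolution_of_isStrictlyGE K a
    exact ⟨I, hI, ⟨e ≪≫ asIso (DerivedCategory.Q.map f) ≪≫
      ((DerivedCategory.quotientCompQhIso A).app I).symm⟩⟩
  choose I hI e using h
  let e' := fun j => (e j).some
  let q := HomotopyCategory.quotient A (ComplexShape.up ℤ)
  let P := ∏ᶜ I
  have : P.IsKInjective := isKInjective_pi I hI
  let c : Fan X := Fan.mk (DerivedCategory.Qh.obj (q.obj P))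
    fun j => DerivedCategory.Qh.map (q.map (Pi.π I j)) ≫ (e' j).inv
  have hq : ∀ Z : DerivedCategory A, ∃ (K : HomotopyCategory A (ComplexShape.up ℤ)),
      Nonempty (DerivedCategory.Qh.obj K ≅ Z) := fun Z =>
    ⟨_, ⟨DerivedCategory.Qh.objObjPreimageIso Z⟩⟩
  have key : ∀ (Z : DerivedCategory A) (s : ∀ j, Z ⟶ X j),
      ∃! l : Z ⟶ c.pt, ∀ j, l ≫ c.proj j = s j := by
    intro Z s
    obtain ⟨K, ⟨z⟩⟩ := hq Z
    obtain ⟨K, rfl⟩ := HomotopyCategory.quotient_obj_surjective K
    have hs : ∀ j, ∃ g : K ⟶ I j,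
        DerivedCategory.Qh.map (q.map g) = z.hom ≫ s j ≫ (e' j).hom := fun j => by
      have := hI j
      obtain ⟨g, hg⟩ := (CochainComplex.IsKInjective.Qh_map_bijective (q.obj K) (I j)).2
        (z.hom ≫ s j ≫ (e' j).hom)
      obtain ⟨g, rfl⟩ := q.map_surjective g
      exact ⟨g, hg⟩
    choose g hg using hs
    refine ⟨z.inv ≫ DerivedCategory.Qh.map (q.map (Pi.lift g)), fun j => ?_, fun l hl => ?_⟩
    · simp [c, ← Functor.map_comp_assoc, ← Functor.map_comp, hg]
    · obtain ⟨l', hl'⟩ := (CochainComplex.IsKInjective.Qh_map_bijective (q.obj K) P).2 (z.hom ≫ l)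
      obtain ⟨l', rfl⟩ := q.map_surjective l'
      rw [Iso.eq_inv_comp, ← hl']
      congr 1
      refine TriCat.quotient_hom_ext_pi _ _ fun j => ?_
      have := hI j
      apply (CochainComplex.IsKInjective.Qh_map_bijective (q.obj K) (I j)).1
      rw [Pi.lift_π, hg, Functor.map_comp, Functor.map_comp, hl', ← hl j]
      simp [c, q]
  exact ⟨⟨⟨c, Fan.IsLimit.mk _ (fun s => (key s.pt s.proj).choose)
    (fun s j => (key s.pt s.proj).choose_spec.1 j)
    (fun s m hm => (key s.pt s.proj).choose_spec.2 m hm)⟩⟩⟩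

end

section Homology

variable [HasLimitsOfShape (Discrete J) A] [HasExactLimitsOfShape (Discrete J) A]

/-- Homology commutes with exact products. -/
lemma isIso_piComparison_homologyFunctor (M : J → CochainComplex A ℤ) (i : ℤ) :
    IsIso (piComparison (HomologicalComplex.homologyFunctor A (ComplexShape.up ℤ) i) M) := by
  let X : ℤ → (Discrete J ⥤ A) := fun n => Discrete.functor fun j => (M j).X n
  let d : ∀ m n : ℤ, X m ⟶ X n := fun m n => Discrete.natTrans fun j => (M j.as).d m n
  let i₀ := (ComplexShape.up ℤ).prev i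
  let i₁ := (ComplexShape.up ℤ).next i
  let S : ShortComplex (Discrete J ⥤ A) :=
    ShortComplex.mk (d i₀ i) (d i i₁) (by ext ⟨j⟩; exact (M j).d_comp_d _ _ _)
  have iso : ∀ n : ℤ, IsIso (limit.lift (X n) (Fan.mk _ fun j => (Pi.π M j).f n)) := fun n =>
    inferInstanceAs (IsIso (piComparison (HomologicalComplex.eval A (ComplexShape.up ℤ) n) M))
  let eX : ∀ n : ℤ, (∏ᶜ M).X n ≅ limit (X n) := fun n => @asIso _ _ _ _ _ (iso n)
  have hX : ∀ (n : ℤ) (j : J), (eX n).hom ≫ limit.π (X n) ⟨j⟩ = (Pi.π M j).f n := fun n j =>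
    limit.lift_π _ _
  have hd : ∀ m n : ℤ, (eX m).hom ≫ limMap (d m n) = (∏ᶜ M).d m n ≫ (eX n).hom := fun m n => by
    refine limit.hom_ext fun ⟨j⟩ => ?_
    rw [Category.assoc, Category.assoc, hX, limMap_π, ← Category.assoc, hX]
    exact (Pi.π M j).comm m n
  let e : (∏ᶜ M).sc i ≅ S.map (lim (J := Discrete J) (C := A)) :=
    ShortComplex.isoMk (eX i₀) (eX i) (eX i₁) (hd i₀ i) (hd i i₁)
  let τ : ∀ j : J, (lim : (Discrete J ⥤ A) ⥤ A) ⟶ (evaluation (Discrete J) A).obj ⟨j⟩ := fun j =>
    { app := fun F => limit.π F ⟨j⟩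
      naturality := fun F G φ => limMap_π _ _ }
  have he : ∀ j : J, e.hom ≫ S.mapNatTrans (τ j) =
      (HomologicalComplex.shortComplexFunctor A (ComplexShape.up ℤ) i).map (Pi.π M j) := fun j => by
    ext1
    · exact hX i₀ j
    · exact hX i j
    · exact hX i₁ j
  let η : Discrete.functor (fun j => (M j).homology i) ≅ S.homology :=
    Discrete.natIso fun j => S.mapHomologyIso ((evaluation (Discrete J) A).obj j)
  let Φ : (∏ᶜ M).homology i ≅ limit (Discrete.functor fun j => (M j).homology i) :=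
    ShortComplex.homologyMapIso e ≪≫ S.mapHomologyIso lim ≪≫
      (lim (J := Discrete J) (C := A)).mapIso η.symm
  have : piComparison (HomologicalComplex.homologyFunctor A (ComplexShape.up ℤ) i) M = Φ.hom := by
    refine Pi.hom_ext _ _ fun j => ?_
    rw [piComparison_comp_π]
    change ShortComplex.homologyMap ((HomologicalComplex.shortComplexFunctor A _ i).map (Pi.π M j)) = _
    rw [← he j]
    refine (ShortComplex.homologyMap_comp e.hom (S.mapNatTrans (τ j))).trans ?_
    rw [ShortComplex.homologyMap_mapNatTrans]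
    refine Eq.trans ?_ ((Category.assoc _ _ _).trans
      ((congrArg (ShortComplex.homologyMap e.hom ≫ ·) (Category.assoc _ _ _)))).symm
    change _ = ShortComplex.homologyMap e.hom ≫ (S.mapHomologyIso lim).hom ≫
      (limMap η.inv ≫ limit.π _ ⟨j⟩)
    rw [limMap_π]
    rfl
  rw [this]
  exact Φ.isIso_hom

end Homology

section Tower

/-- In a tower which is eventually constant `1 - shift` is surjective on families. -/
lemma exists_family {T : A} (N : ℕ) : ∀ (H : ℕ → A) (t : ∀ n, H (n + 1) ⟶ H n)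
    (_ : ∀ n, N ≤ n → IsIso (t n)) (b : ∀ n, T ⟶ H n),
    ∃ a : ∀ n, T ⟶ H n, ∀ n, a n - a (n + 1) ≫ t n = b n := by
  induction N with
  | zero =>
    intro H t ht b
    let a : ∀ n, T ⟶ H n := fun n => Nat.rec (motive := fun n => T ⟶ H n) 0
      (fun n x => have := ht n n.zero_le; (x - b n) ≫ inv (t n)) n
    refine ⟨a, fun n => ?_⟩
    have := ht n n.zero_le
    simp [a]
  | succ N ih =>
    intro H t ht b
    obtain ⟨a, ha⟩ := ih (fun n => H (n + 1)) (fun n => t (n + 1))
      (fun n hn => ht (n + 1) (by omega)) (fun n => b (n + 1))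
    refine ⟨fun n => match n with
      | 0 => b 0 + a 0 ≫ t 0
      | n + 1 => a n, fun n => ?_⟩
    cases n with
    | zero => simp
    | succ n => exact ha n

variable {H : ℕ → A} (t : ∀ n, H (n + 1) ⟶ H n) {P : A} {π : ∀ n, P ⟶ H n}
  (hlim : IsLimit (Fan.mk P π)) {X : A} (x : ∀ n, X ⟶ H n) (hx : ∀ n, x (n + 1) ≫ t n = x n)
  (N : ℕ) (hN : ∀ n, N ≤ n → IsIso (x n)) (D : P ⟶ P) (hD : ∀ n, D ≫ π n = π n - π (n + 1) ≫ t n)

include hlim hx hN hD in
lemma isSplitEpi_one_sub_shift : IsSplitEpi D := by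
  have ht : ∀ n, N ≤ n → IsIso (t n) := fun n hn => by
    have := hN n hn
    have := hN (n + 1) (by omega)
    exact IsIso.of_isIso_fac_left (hx n)
  obtain ⟨a, ha⟩ := exists_family N H t ht π
  refine ⟨⟨⟨Fan.IsLimit.lift hlim a, Fan.IsLimit.hom_ext hlim _ _ fun n => ?_⟩⟩⟩
  have h : ∀ k, Fan.IsLimit.lift hlim a ≫ π k = a k := fun k => Fan.IsLimit.fac hlim a k
  change (Fan.IsLimit.lift hlim a ≫ D) ≫ π n = 𝟙 P ≫ π n
  rw [Category.assoc, hD, Preadditive.comp_sub, reassoc_of% h, h, ha, Category.id_comp]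

include hlim hx hN hD in
lemma exists_lift_of_comp_one_sub_shift {T : A} (y : T ⟶ P) (hy : y ≫ D = 0) :
    ∃ z : T ⟶ X, ∀ n, z ≫ x n = y ≫ π n := by
  have hy' : ∀ n, y ≫ π (n + 1) ≫ t n = y ≫ π n := fun n => by
    have := hy =≫ π n
    rw [Category.assoc, hD, zero_comp, Preadditive.comp_sub, sub_eq_zero] at this
    exact this.symm
  have := hN N le_rfl
  have up : ∀ k, ((y ≫ π N) ≫ inv (x N)) ≫ x (N + k) = y ≫ π (N + k) := by
    intro k
    induction k with
    | zero => simp
    | succ k ih =>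
      have := hN (N + k) (by omega)
      have := hN (N + (k + 1)) (by omega)
      have : IsIso (t (N + k)) := IsIso.of_isIso_fac_left (hx (N + k))
      refine (cancel_mono (t (N + k))).1 ?_
      exact ((Category.assoc _ _ _).trans (congrArg (_ ≫ ·) (hx (N + k)))).trans
        (ih.trans ((hy' (N + k)).symm.trans (Category.assoc _ _ _).symm))
  have down : ∀ k n, n + k = N → ((y ≫ π N) ≫ inv (x N)) ≫ x n = y ≫ π n := by
    intro k
    induction k with
    | zero => intro n h; obtain rfl : n = N := h; simp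
    | succ k ih => intro n h; rw [← hx n, ← Category.assoc, ih (n + 1) (by omega), Category.assoc, hy']
  refine ⟨(y ≫ π N) ≫ inv (x N), fun n => ?_⟩
  rcases Nat.le_total N n with h | h
  · obtain ⟨k, rfl⟩ := Nat.exists_eq_add_of_le h
    exact up k
  · exact down (N - n) n (by omega)

end Tower

section Resolution

attribute [local instance] HasDerivedCategory.standard

variable [EnoughInjectives A] [HasLimitsOfShape (Discrete ℕ) A]
  [HasExactLimitsOfShape (Discrete ℕ) A]

open ZeroObject in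
theorem exists_kInjective_resolution (K : CochainComplex A ℤ) :
    ∃ (L : CochainComplex A ℤ) (f : K ⟶ L), L.IsKInjective ∧ QuasiIso f := by
  let Inj : ObjectProperty A := fun Y => Injective Y
  have : Inj.IsClosedUnderIsomorphisms := ⟨fun e h => Injective.of_iso e h⟩
  obtain ⟨J₀, e₀, ha₀, hJ₀, he₀, hq₀⟩ := TriCat.exists_quasiIso_resolution Inj
    ⟨0, isZero_zero A, inferInstance⟩
    (fun Y => ⟨Injective.under Y, Injective.ι Y, inferInstance, inferInstance⟩)
    (K.truncGE (-((0 : ℕ) : ℤ))) (-((0 : ℕ) : ℤ))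
  let Good : ℕ → Type (max u v) := fun n =>
    { q : Σ Q : CochainComplex A ℤ, (K ⟶ Q) //
      (∀ i : ℤ, -(n : ℤ) ≤ i → QuasiIsoAt q.2 i) ∧ (∃ a : ℤ, q.1.IsStrictlyGE a) ∧
        ∀ i, Injective (q.1.X i) }
  have hg₀ : ∀ i : ℤ, -((0 : ℕ) : ℤ) ≤ i → QuasiIsoAt (K.πTruncGE _ ≫ e₀) i := fun i hi => by
    have := K.quasiIsoAt_πTruncGE (-((0 : ℕ) : ℤ)) i hi
    infer_instance
  have step : ∀ (n : ℕ) (q : Good n), ∃ (q' : Good (n + 1)) (p : q'.1.1 ⟶ q.1.1), q'.1.2 ≫ p = q.1.2 := by
    intro n q
    obtain ⟨b, hb⟩ := q.2.2.1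
    have : (q.1.1).IsStrictlyGE (min b (-((n + 1 : ℕ) : ℤ))) :=
      CochainComplex.isStrictlyGE_of_ge _ _ b (by omega)
    let c := min b (-((n + 1 : ℕ) : ℤ))
    let r : K.truncGE c ⟶ q.1.1 :=
      CochainComplex.truncGEMap q.1.2 c ≫ inv ((q.1.1).πTruncGE c)
    have hr : K.πTruncGE c ≫ r = q.1.2 := by
      rw [← Category.assoc, IsIso.comp_inv_eq]
      exact CochainComplex.πTruncGE_naturality _ _
    obtain ⟨s⟩ := exists_rightStep Inj ⟨0, isZero_zero A, inferInstance⟩
      (fun X Y (_ : Injective X) (_ : Injective Y) => (inferInstance : Injective (X ⊞ Y)))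
      (fun Y => ⟨Injective.under Y, Injective.ι Y, inferInstance, inferInstance⟩)
      r c c q.2.2.2
    refine ⟨⟨⟨s.obj, K.πTruncGE c ≫ s.π⟩, fun i hi => ?_, s.bdd, s.mem⟩, s.p, ?_⟩
    · have := s.qis
      have := K.quasiIsoAt_πTruncGE c i (by omega)
      infer_instance
    · dsimp only
      rw [Category.assoc, s.fac, hr]
  choose next p hp using step
  let q : ∀ n, Good n := fun n => Nat.rec (motive := Good)
    ⟨⟨J₀, K.πTruncGE _ ≫ e₀⟩, hg₀, ⟨_, ha₀⟩, hJ₀⟩ next n
  let I : ℕ → CochainComplex A ℤ := fun n => (q n).1.1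
  let ε : ∀ n, K ⟶ I n := fun n => (q n).1.2
  let pn : ∀ n, I (n + 1) ⟶ I n := fun n => p n (q n)
  have hε : ∀ n, ε (n + 1) ≫ pn n = ε n := fun n => hp n (q n)
  have hI : ∀ n, (I n).IsKInjective := fun n => by
    obtain ⟨a, ha⟩ := (q n).2.2.1
    have : ∀ i, Injective ((I n).X i) := (q n).2.2.2
    exact CochainComplex.isKInjective_of_injective (I n) a
  let d : ∏ᶜ I ⟶ ∏ᶜ I := 𝟙 _ - Pi.lift (fun n => Pi.π I (n + 1) ≫ pn n)
  have : CochainComplex.IsKInjective (∏ᶜ I) := isKInjective_pi I hI
  have hιd : Pi.lift ε ≫ d = 0 := Pi.hom_ext _ _ fun n => by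
    simp [d, hε, Preadditive.sub_comp]
  refine ⟨CochainComplex.mappingCocone d,
    CochainComplex.mappingCocone.lift d (Pi.lift ε) 0 (by simp [hιd]),
    isKInjective_mappingCocone d, ⟨fun i => ?_⟩⟩
  have hpos : ∀ j : ℤ, IsSplitEpi (homologyMap d j) ∧
      (∀ {T : A} (y : T ⟶ (∏ᶜ I).homology j), y ≫ homologyMap d j = 0 →
        ∃ z : T ⟶ K.homology j, z ≫ homologyMap (Pi.lift ε) j = y) ∧
      Mono (homologyMap (Pi.lift ε) j) := by
    intro j
    have := isIso_piComparison_homologyFunctor I j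
    let cmp := piComparison (HomologicalComplex.homologyFunctor A (ComplexShape.up ℤ) j) I
    have hlim : IsLimit (Fan.mk ((∏ᶜ I).homology j) fun n => homologyMap (Pi.π I n) j) :=
      IsLimit.ofIsoLimit (productIsProduct fun n => (I n).homology j)
        (Fan.ext (asIso cmp).symm fun n => by
          exact (IsIso.eq_inv_comp cmp).2
            (piComparison_comp_π (HomologicalComplex.homologyFunctor A (ComplexShape.up ℤ) j) I n))
    have hx : ∀ n, homologyMap (ε (n + 1)) j ≫ homologyMap (pn n) j = homologyMap (ε n) j :=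
      fun n => by rw [← homologyMap_comp, hε]
    have hN : ∀ n, (-j).toNat ≤ n → IsIso (homologyMap (ε n) j) := fun n hn => by
      have := (q n).2.1 j (by omega)
      exact (quasiIsoAt_iff_isIso_homologyMap _ _).1 this
    have hD : ∀ n, homologyMap d j ≫ homologyMap (Pi.π I n) j =
        homologyMap (Pi.π I n) j - homologyMap (Pi.π I (n + 1)) j ≫ homologyMap (pn n) j := fun n => by
      rw [← homologyMap_comp, ← homologyMap_comp, ← homologyMap_sub]
      congr 1
      simp [d, Preadditive.sub_comp]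
    have hf : ∀ n, homologyMap (Pi.lift ε) j ≫ homologyMap (Pi.π I n) j = homologyMap (ε n) j :=
      fun n => by rw [← homologyMap_comp, Pi.lift_π]
    refine ⟨isSplitEpi_one_sub_shift _ hlim _ hx _ hN _ hD, fun {T} y hy => ?_, ?_⟩
    · obtain ⟨z, hz⟩ := exists_lift_of_comp_one_sub_shift _ hlim _ hx _ hN _ hD y hy
      exact ⟨z, Fan.IsLimit.hom_ext hlim _ _ fun n => by
        change (z ≫ _) ≫ homologyMap (Pi.π I n) j = _
        rw [Category.assoc, hf, hz]
        rfl⟩
    · have := hN _ le_rfl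
      have h := hf (-j).toNat
      exact mono_of_mono_fac h
  let f := CochainComplex.mappingCocone.lift d (Pi.lift ε) 0 (by simp [hιd])
  let T := DerivedCategory.Q.mapTriangle.obj (CochainComplex.mappingCocone.triangle d)
  have hT := DerivedCategory.mappingCocone_triangle_distinguished d
  have hmono : Mono (homologyMap (CochainComplex.mappingCocone.fst d) i) := by
    have := (hpos (i - 1)).1
    refine (CochainComplex.homologyMap_exact₁_of_distTriang _ hT (i - 1) i (by omega)).mono_g ?_
    have h3 := (CochainComplex.homologyMap_exact₃_of_distTriang _ hT (i - 1) i (by omega)).epi_f_iff.1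
      (show Epi (homologyMap d (i - 1)) from inferInstance)
    exact h3
  have hfac : homologyMap f i ≫ homologyMap (CochainComplex.mappingCocone.fst d) i =
      homologyMap (Pi.lift ε) i := by
    rw [← homologyMap_comp, CochainComplex.mappingCocone.lift_fst]
  have hz : homologyMap (CochainComplex.mappingCocone.fst d) i ≫ homologyMap d i = 0 :=
    (fun {S : ShortComplex A} (_ : S.Exact) => S.zero)
      (CochainComplex.homologyMap_exact₂_of_distTriang _ hT i)
  obtain ⟨z, hz'⟩ := (hpos i).2.1 _ hz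
  rw [quasiIsoAt_iff_isIso_homologyMap]
  have := (hpos i).2.2
  refine ⟨z, ?_, ?_⟩
  · rw [← cancel_mono (homologyMap (Pi.lift ε) i), Category.assoc, hz', hfac, Category.id_comp]
  · rw [← cancel_mono (homologyMap (CochainComplex.mappingCocone.fst d) i), Category.assoc, hfac,
      hz', Category.id_comp]

end Resolution

end Groth.Agent.Der55
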