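import Groth.Agent.Der55.AdaptedHom
import Groth.Agent.TriCat.DerivedProducts
import Groth.Agent.TriCat.KInjRes
import Groth.Agent.Der55.Products
import Mathlib.Algebra.Homology.DerivedCategory.ExactFunctor
import Mathlib.Algebra.Homology.DerivedCategory.HomologySequence

/-! An exact right adjoint induces a product preserving functor on derived categories. -/

universe w w₁ w₂ t v u v' u'

open CategoryTheory Limits Pretriangulated Abelian ZeroObject

namespace Groth.Agent.Der55

variable {A : Type u} [Category.{v} A] [Abelian A] [HasDerivedCategory.{w₁} A]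
  {B : Type u'} [Category.{v'} B] [Abelian B] [HasDerivedCategory.{w₂} B]

lemma exists_Q_map_eq_of_isKInjective {K I : CochainComplex A ℤ} [I.IsKInjective]
    (φ : DerivedCategory.Q.obj K ⟶ DerivedCategory.Q.obj I) :
    ∃ g : K ⟶ I, DerivedCategory.Q.map g = φ := by
  let e := DerivedCategory.quotientCompQhIso A
  obtain ⟨g, hg⟩ := (CochainComplex.IsKInjective.Qh_map_bijective
    ((HomotopyCategory.quotient _ _).obj K) I).2 (e.hom.app K ≫ φ ≫ e.inv.app I)
  obtain ⟨g, rfl⟩ := (HomotopyCategory.quotient _ _).map_surjective g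
  refine ⟨g, (cancel_epi (e.hom.app K)).1 ?_⟩
  refine (e.hom.naturality g).symm.trans ?_
  rw [Functor.comp_map, hg]
  simp

lemma quotient_map_eq_of_isKInjective {K I : CochainComplex A ℤ} [I.IsKInjective] {g g' : K ⟶ I}
    (h : DerivedCategory.Q.map g = DerivedCategory.Q.map g') :
    (HomotopyCategory.quotient A (ComplexShape.up ℤ)).map g =
      (HomotopyCategory.quotient A (ComplexShape.up ℤ)).map g' := by
  let e := DerivedCategory.quotientCompQhIso A
  refine (CochainComplex.IsKInjective.Qh_map_bijective _ I).1 ((cancel_mono (e.hom.app I)).1 ?_)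
  exact ((e.hom.naturality g).trans (congrArg (e.hom.app K ≫ ·) h)).trans (e.hom.naturality g').symm

variable {J : Type t} [HasLimitsOfShape (Discrete J) A]

/-- Products of K-injective complexes are products in the derived category. -/
lemma isLimit_Q_pi (I : J → CochainComplex A ℤ) (hI : ∀ j, (I j).IsKInjective) :
    Nonempty (IsLimit (Fan.mk (DerivedCategory.Q.obj (∏ᶜ I))
      fun j => DerivedCategory.Q.map (Pi.π I j))) := by
  let Q := DerivedCategory.Q (C := A)
  have := isKInjective_pi I hI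
  have key : ∀ (Z : DerivedCategory A) (s : ∀ j, Z ⟶ Q.obj (I j)),
      ∃! l : Z ⟶ Q.obj (∏ᶜ I), ∀ j, l ≫ Q.map (Pi.π I j) = s j := by
    intro Z s
    let K := Q.objPreimage Z
    let z : Q.obj K ≅ Z := Q.objObjPreimageIso Z
    choose g hg using fun j => exists_Q_map_eq_of_isKInjective (z.hom ≫ s j)
    refine ⟨z.inv ≫ Q.map (Pi.lift g), fun j => ?_, fun l hl => ?_⟩
    · rw [Category.assoc, ← Q.map_comp, Pi.lift_π]
      exact (congrArg (z.inv ≫ ·) (hg j)).trans (z.inv_hom_id_assoc _)
    · obtain ⟨l', hl'⟩ := exists_Q_map_eq_of_isKInjective (z.hom ≫ l)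
      rw [Iso.eq_inv_comp, ← hl']
      have h : (HomotopyCategory.quotient A (ComplexShape.up ℤ)).map l' =
          (HomotopyCategory.quotient A (ComplexShape.up ℤ)).map (Pi.lift g) := by
        refine TriCat.quotient_hom_ext_pi _ _ fun j => ?_
        refine quotient_map_eq_of_isKInjective (I := I j) ?_
        rw [Pi.lift_π, Functor.map_comp, hl', hg, Category.assoc, hl]
      have := congrArg (DerivedCategory.Qh.map) h
      let e := DerivedCategory.quotientCompQhIso A
      exact (cancel_epi (e.hom.app K)).1 ((e.hom.naturality l').symm.trans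
        ((congrArg (· ≫ e.hom.app _) this).trans (e.hom.naturality (Pi.lift g))))
  exact ⟨Fan.IsLimit.mk _ (fun s => (key s.pt s.proj).choose)
    (fun s j => (key s.pt s.proj).choose_spec.1 j)
    (fun s m hm => (key s.pt s.proj).choose_spec.2 m hm)⟩

variable [HasExt.{w} B] {T : A ⥤ B}

omit [HasLimitsOfShape (Discrete J) A] in
/-- Bijectivity on maps out of adapted bounded above complexes detects isomorphisms. -/
lemma isIso_of_bijective (hP : ∀ X : B, ∃ (Y : B) (π : Y ⟶ X), adapted T Y ∧ Epi π)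
    {X Y : DerivedCategory B} (c : X ⟶ Y)
    (h : ∀ (S : CochainComplex B ℤ) (b : ℤ), S.IsStrictlyLE b → (∀ i, adapted T (S.X i)) →
      Function.Bijective fun f : DerivedCategory.Q.obj S ⟶ X => f ≫ c) : IsIso c := by
  let Q := DerivedCategory.Q (C := B)
  obtain ⟨Z, a, δ, hT⟩ := distinguished_cocone_triangle₁ c
  have h0 : ∀ (S : CochainComplex B ℤ) (b : ℤ), S.IsStrictlyLE b → (∀ i, adapted T (S.X i)) →
      ∀ x : Q.obj S ⟶ Z, x = 0 := by
    intro S b hb hS x
    have hxa : x ≫ a = 0 := (h S b hb hS).1 (by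
      show (x ≫ a) ≫ c = 0 ≫ c
      rw [Category.assoc, show a ≫ c = 0 from comp_distTriang_mor_zero₁₂ _ hT, comp_zero, zero_comp])
    obtain ⟨y, hy⟩ := Triangle.coyoneda_exact₂ _ (inv_rot_of_distTriang _ hT) x hxa
    change Q.obj S ⟶ Y⟦(-1 : ℤ)⟧ at y
    let d : Y⟦(-1 : ℤ)⟧⟦(1 : ℤ)⟧ ≅ Y := (shiftFunctorCompIsoId _ (-1 : ℤ) 1 (by simp)).app Y
    have : S.IsStrictlyLE b := hb
    obtain ⟨z, hz⟩ := (h (S⟦(1 : ℤ)⟧) (b - 1) (S.isStrictlyLE_shift b 1 (b - 1) (by omega))
      (fun i => hS (i + 1))).2 ((Q.commShiftIso (1 : ℤ)).hom.app S ≫ y⟦(1 : ℤ)⟧' ≫ d.hom)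
    obtain ⟨w, hw⟩ := (shiftFunctor (DerivedCategory B) (1 : ℤ)).map_surjective
      ((Q.commShiftIso (1 : ℤ)).inv.app S ≫ z ≫
        ((shiftFunctorCompIsoId _ (-1 : ℤ) 1 (by simp)).app X).inv)
    have hyw : y = w ≫ c⟦(-1 : ℤ)⟧' := by
      apply (shiftFunctor (DerivedCategory B) (1 : ℤ)).map_injective
      rw [← cancel_mono d.hom, Functor.map_comp, hw]
      simp only [Category.assoc, d, Iso.app_hom, Iso.app_inv]
      erw [(shiftFunctorCompIsoId (DerivedCategory B) (-1 : ℤ) 1 (by simp)).hom.naturality c,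
        Iso.inv_hom_id_app_assoc]
      simp only [Functor.id_map]
      change z ≫ c = _ at hz
      rw [hz, Iso.inv_hom_id_app_assoc]
      rfl
    have hzero : c⟦(-1 : ℤ)⟧' ≫ (Triangle.mk a c δ).invRotate.mor₁ = 0 := by
      show c⟦(-1 : ℤ)⟧' ≫ (-δ⟦(-1 : ℤ)⟧' ≫ _) = 0
      refine (Preadditive.comp_neg _ _).trans (neg_eq_zero.2 ?_)
      rw [← Category.assoc, ← Functor.map_comp, show c ≫ δ = 0 from comp_distTriang_mor_zero₂₃ _ hT,
        Functor.map_zero, zero_comp]
    refine hy.trans ?_
    rw [hyw]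
    exact (Category.assoc _ _ _).trans ((congrArg (w ≫ ·) hzero).trans comp_zero)
  have hZ : IsZero Z := by
    let K := Q.objPreimage Z
    let e : Q.obj K ≅ Z := Q.objObjPreimageIso Z
    refine IsZero.of_iso ?_ e.symm
    have hK : ∀ n, IsZero ((DerivedCategory.homologyFunctor B n).obj (Q.obj K)) := fun n => by
      obtain ⟨S, α, hS, hSP, -, hα⟩ := TriCat.exists_quasiIso_left_resolution (adapted T)
        ⟨_, isZero_zero B, adapted_of_isZero _ (isZero_zero B)⟩ hP (K.truncLE n) n
      have h1 := h0 S n hS hSP (Q.map (α ≫ K.ιTruncLE n) ≫ e.hom)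
      have h2 : (DerivedCategory.homologyFunctor B n).map (Q.map (α ≫ K.ιTruncLE n)) = 0 := by
        rw [← cancel_mono ((DerivedCategory.homologyFunctor B n).map e.hom), ← Functor.map_comp, h1,
          Functor.map_zero, zero_comp]
      have h3 : HomologicalComplex.homologyMap (α ≫ K.ιTruncLE n) n = 0 := by
        have h4 := (DerivedCategory.homologyFunctorFactors B n).hom.naturality (α ≫ K.ιTruncLE n)
        rw [Functor.comp_map, h2, zero_comp] at h4
        exact (cancel_epi ((DerivedCategory.homologyFunctorFactors B n).hom.app S)).1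
          (h4.symm.trans comp_zero.symm)
      have : IsIso (HomologicalComplex.homologyMap (α ≫ K.ιTruncLE n) n) := by
        rw [← quasiIsoAt_iff_isIso_homologyMap]
        infer_instance
      refine IsZero.of_iso ?_ ((DerivedCategory.homologyFunctorFactors B n).app K)
      show IsZero (K.homology n)
      rw [IsZero.iff_id_eq_zero,
        ← cancel_epi (HomologicalComplex.homologyMap (α ≫ K.ιTruncLE n) n), h3, zero_comp, zero_comp]
    have : IsIso (0 : Q.obj K ⟶ 0) := (DerivedCategory.isIso_iff _ _).2 fun n =>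
      Limits.IsZero.isIso (hK n) ((DerivedCategory.homologyFunctor B n).map_isZero (isZero_zero _)) _
    exact (isZero_zero _).of_iso (asIso (0 : Q.obj K ⟶ 0))
  exact (Triangle.isZero₁_iff_isIso₂ _ hT).1 hZ

variable [EnoughInjectives A] [T.Additive] [PreservesFiniteLimits T] [PreservesFiniteColimits T]
  {Φ : B ⥤ A} (adj : Φ ⊣ T) [Φ.Additive]

include adj

/-- The derived functor of an exact right adjoint with enough adapted objects preserves products. -/
theorem preservesLimitsOfShape_mapDerivedCategory [HasLimitsOfShape (Discrete J) B]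
    [HasLimitsOfShape (Discrete J) (DerivedCategory B)]
    (hK : ∀ K : CochainComplex A ℤ, ∃ (I : CochainComplex A ℤ) (f : K ⟶ I), I.IsKInjective ∧ QuasiIso f)
    (hP : ∀ X : B, ∃ (Y : B) (π : Y ⟶ X), adapted T Y ∧ Epi π) :
    PreservesLimitsOfShape (Discrete J) T.mapDerivedCategory := by
  let G := T.mapDerivedCategory
  let Q := DerivedCategory.Q (C := A)
  let QB := DerivedCategory.Q (C := B)
  let M := T.mapHomologicalComplex (ComplexShape.up ℤ)
  let eG := T.mapDerivedCategoryFactors
  suffices ∀ X : J → DerivedCategory A, PreservesLimit (Discrete.functor X) G from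
    ⟨fun {F} => have := this (fun j => F.obj ⟨j⟩)
      preservesLimit_of_iso_diagram G Discrete.natIsoFunctor.symm⟩
  intro X
  choose I f hI hf using fun j => hK (Q.objPreimage (X j))
  let eX : ∀ j, X j ≅ Q.obj (I j) := fun j => (Q.objObjPreimageIso (X j)).symm ≪≫
    (have := (DerivedCategory.isIso_Q_map_iff_quasiIso A (f j)).2 (hf j); asIso (Q.map (f j)))
  suffices PreservesLimit (Discrete.functor fun j => Q.obj (I j)) G from
    preservesLimit_of_iso_diagram G (K₁ := Discrete.functor fun j => Q.obj (I j))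
      (Discrete.natIso fun j => (eX j.as).symm)
  obtain ⟨hlim⟩ := isLimit_Q_pi I hI
  refine preservesLimit_of_preserves_limit_cone hlim ((isLimitMapConeFanMkEquiv G _ _).symm ?_)
  let Y := fun j => G.obj (Q.obj (I j))
  let c : G.obj (Q.obj (∏ᶜ I)) ⟶ ∏ᶜ Y := Pi.lift fun j => G.map (Q.map (Pi.π I j))
  have := adj.rightAdjoint_preservesLimits.{t, t}
  have : PreservesLimit (Discrete.functor I) M :=
    ⟨fun hc => ⟨HomologicalComplex.isLimitOfEval _ _ fun n =>
      isLimitOfPreserves T (isLimitOfPreserves (HomologicalComplex.eval A (ComplexShape.up ℤ) n) hc)⟩⟩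
  let pc := PreservesProduct.iso M I
  have hpc : ∀ j, pc.inv ≫ M.map (Pi.π I j) = Pi.π (fun j => M.obj (I j)) j := fun j => by
    rw [Iso.inv_comp_eq, PreservesProduct.iso_hom, piComparison_comp_π]
  have hc : IsIso c := isIso_of_bijective (T := T) hP c fun S b hb hS => by
    have hbij := fun (I : CochainComplex A ℤ) (_ : I.IsKInjective) => Qh_map_bijective adj hP S b hS I
    let e := DerivedCategory.quotientCompQhIso B
    have hsur : ∀ (I : CochainComplex A ℤ) (_ : I.IsKInjective) (φ : QB.obj S ⟶ QB.obj (M.obj I)),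
        ∃ g : S ⟶ M.obj I, QB.map g = φ := fun I hI φ => by
      obtain ⟨g, hg⟩ := (hbij I hI).2 (e.hom.app S ≫ φ ≫ e.inv.app (M.obj I))
      obtain ⟨g, rfl⟩ := (HomotopyCategory.quotient _ _).map_surjective g
      refine ⟨g, (cancel_epi (e.hom.app S)).1 ?_⟩
      refine (e.hom.naturality g).symm.trans ?_
      rw [Functor.comp_map, hg]
      simp [M, QB]
    constructor
    · intro φ φ' hφ
      have := isKInjective_pi I hI
      obtain ⟨g, hg⟩ := hsur (∏ᶜ I) this (φ ≫ eG.hom.app _)
      obtain ⟨g', hg'⟩ := hsur (∏ᶜ I) this (φ' ≫ eG.hom.app _)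
      rw [← cancel_mono (eG.hom.app (∏ᶜ I)), ← hg, ← hg']
      have key : (HomotopyCategory.quotient B (ComplexShape.up ℤ)).map (g ≫ pc.hom) =
          (HomotopyCategory.quotient B (ComplexShape.up ℤ)).map (g' ≫ pc.hom) := by
        refine TriCat.quotient_hom_ext_pi _ _ fun j => ?_
        have hh := congrArg (· ≫ Pi.π Y j ≫ eG.hom.app (I j)) hφ
        simp only [c, Category.assoc, Pi.lift_π_assoc] at hh
        have hn : G.map (Q.map (Pi.π I j)) ≫ eG.hom.app (I j) =
            eG.hom.app (∏ᶜ I) ≫ QB.map (M.map (Pi.π I j)) := eG.hom.naturality (Pi.π I j)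
        rw [hn, ← Category.assoc, ← Category.assoc, ← hg, ← hg', ← QB.map_comp, ← QB.map_comp] at hh
        have hπ : pc.hom ≫ Pi.π (fun j => M.obj (I j)) j = M.map (Pi.π I j) := by
          rw [← hpc j, Iso.hom_inv_id_assoc]
        rw [Category.assoc, Category.assoc, hπ]
        refine (hbij (I j) (hI j)).1 ((cancel_mono (e.hom.app _)).1 ?_)
        exact ((e.hom.naturality _).trans (congrArg (e.hom.app S ≫ ·) hh)).trans
          (e.hom.naturality _).symm
      have key' : (HomotopyCategory.quotient B (ComplexShape.up ℤ)).map g =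
          (HomotopyCategory.quotient B (ComplexShape.up ℤ)).map g' := by
        rw [← cancel_mono ((HomotopyCategory.quotient B (ComplexShape.up ℤ)).map pc.hom),
          ← Functor.map_comp, ← Functor.map_comp, key]
      exact (cancel_epi (e.hom.app S)).1 ((e.hom.naturality g).symm.trans
        ((congrArg (fun t => DerivedCategory.Qh.map t ≫ e.hom.app _) key').trans (e.hom.naturality g')))
    · intro φ
      choose g hg using fun j => hsur (I j) (hI j) (φ ≫ Pi.π Y j ≫ eG.hom.app (I j))
      refine ⟨QB.map (Pi.lift g ≫ pc.inv) ≫ eG.inv.app (∏ᶜ I), Pi.hom_ext _ _ fun j => ?_⟩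
      simp only [c, Category.assoc, Pi.lift_π]
      have hn : eG.inv.app (∏ᶜ I) ≫ G.map (Q.map (Pi.π I j)) =
          QB.map (M.map (Pi.π I j)) ≫ eG.inv.app (I j) := (eG.inv.naturality (Pi.π I j)).symm
      rw [hn, ← Functor.map_comp_assoc, Category.assoc, hpc, Pi.lift_π, hg]
      simp [eG, Y]
      exact congrArg (φ ≫ ·) (Category.comp_id _)
  exact IsLimit.ofIsoLimit (productIsProduct Y)
    (Fan.ext (asIso c).symm fun j => ((IsIso.inv_comp_eq c).2 (Pi.lift_π _ j).symm).symm)

end Groth.Agent.Der55
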