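import Groth.Agent.Der55.ModRlimBase
import Groth.Agent.SiteBase.DLim.Single
import Groth.Agent.SiteCmpC.CohIn

/-!
# Derived limits in the derived category of modules on a ringed site
-/

set_option autoImplicit false

universe w u

open CategoryTheory CategoryTheory.Limits Opposite Pretriangulated DerivedCategory

namespace Groth.Agent.Der55

open Groth.Agent.DLim

attribute [local instance] sheafDerived

variable {C : Type u} [SmallCategory C] {J : GrothendieckTopology C} (O : Sheaf J CommRingCat.{u})
  [HasDerivedCategory.{w} (ModSite.Mod O)]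

local notation "tS" => (DerivedCategory.TStructure.t (C := Sheaf J AddCommGrpCat))
local notation "H" => DerivedCategory.homologyFunctor (Sheaf J AddCommGrpCat)

lemma subsingleton_HU_toShD (E : DerivedCategory (ModSite.Mod O)) (q : ℤ) (k : ℕ) (U : C)
    (h : Subsingleton (ModSite.HU O ((DerivedCategory.homologyFunctor (ModSite.Mod O) q).obj E) k U)) :
    Subsingleton (CohSite.HU (CohCx.HD ((toShD O).obj E) q) k U) :=
  subsingleton_of_ext_iso (hdIso O q E).symm h

/-- `E` is the derived limit of its truncations if its cohomology sheaves have locally bounded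
cohomology. -/
theorem isRlimVia_trunc_mod (E : DerivedCategory (ModSite.Mod O))
    [HasProduct (CohCx.truncTower E)] {B : Set C} (hB : IsCoveredBy J B)
    (h : ∀ V ∈ B, ∃ p : ℤ → ℤ, ∀ T ∈ J V, ∃ (ι : Type u) (Y : ι → C) (f : ∀ i, Y i ⟶ V),
      (∀ i, T.arrows (f i)) ∧ Sieve.ofArrows Y f ∈ J V ∧
      ∀ (i : ι) (m : ℤ) (k : ℕ), p m < k →
        Subsingleton (ModSite.HU O
          ((DerivedCategory.homologyFunctor (ModSite.Mod O) (m - k)).obj E) k (Y i))) :
    CohCx.IsRlimVia (CohCx.truncTower E) (CohCx.truncTowerMap E) E (CohCx.toTruncTower E) := by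
  obtain ⟨L, a, e, hL, hea, hfin⟩ := exists_trunc_comparison E
  let G := toShD O
  let E' := G.obj E
  have := preservesNatProducts_toShD O
  have := hasProduct_sheafD (J := J) fun n => G.obj (CohCx.truncTower E n)
  have := hasProduct_sheafD (J := J) (CohCx.truncTower E')
  obtain ⟨v, hv, hvπ⟩ := exists_truncTower_iso O E
  let a' : ∀ n, G.obj L ⟶ CohCx.truncTower E' n := fun n => G.map (a n) ≫ (v n).hom
  have hL' : CohCx.IsRlimVia (CohCx.truncTower E') (CohCx.truncTowerMap E') (G.obj L) a' :=
    isRlimVia_of_iso (isRlimVia_map G hL) v hv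
  have hea' : ∀ n, G.map e ≫ a' n = CohCx.toTruncTower E' n := fun n => by
    show G.map e ≫ G.map (a n) ≫ (v n).hom = _
    rw [← G.map_comp_assoc, hea]
    exact hvπ n
  refine hfin ((DerivedCategory.isIso_iff _ e).2 fun m => ?_)
  have : IsIso ((H m).map (G.map e)) := isIso_of_bijective_on _ hB fun V hV => by
    obtain ⟨p, hp⟩ := h V hV
    let N : ℕ := (-m).toNat + (p m - m).toNat
    have := isIso_toTruncTower E' N m (by omega)
    have hinj : Function.Injective (((H m).map (a' N)).hom.app (op V)).hom := by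
      refine sections_injective hL' V m N fun T hT => ?_
      obtain ⟨ι, Y, f, hf, hcov, hvan⟩ := hp T hT
      exact ⟨ι, Y, f, hf, hcov, fun i => trunc_good E' m (p m) N (by omega) (Y i)
        fun k hk => subsingleton_HU_toShD O E _ k _ (hvan i m k hk)⟩
    have hπ := sections_bijective_of_isIso ((H m).map (CohCx.toTruncTower E' N)) V
    have hcomp : ∀ x, (((H m).map (CohCx.toTruncTower E' N)).hom.app (op V)).hom x =
        (((H m).map (a' N)).hom.app (op V)).hom ((((H m).map (G.map e)).hom.app (op V)).hom x) :=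
      fun x => by
        rw [← hea', Functor.map_comp]
        rfl
    refine ⟨fun x y hxy => hπ.1 ?_, fun y => ?_⟩
    · rw [hcomp, hcomp, hxy]
    · obtain ⟨x, hx⟩ := hπ.2 ((((H m).map (a' N)).hom.app (op V)).hom y)
      exact ⟨x, hinj ((hcomp x).symm.trans hx)⟩
  exact isIso_homology_of_toShD O e m

lemma subsingleton_HDU_of_vanishing (X : DerivedCategory (Sheaf J AddCommGrpCat.{u})) (a : ℤ)
    [X.IsGE a] (i : ℤ) (U : C)
    (h : ∀ (q : ℤ) (k : ℕ), q + k = i → Subsingleton (CohSite.HU (CohCx.HD X q) k U)) :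
    Subsingleton (CohCx.HDU X i U) := by
  suffices key : ∀ (d : ℕ) (b : ℤ), i + 1 - b ≤ d →
      Subsingleton (CohCx.HDU (((tS).truncGE b).obj X) i U) by
    have : IsIso (((tS).truncGEπ a).app X) := (DerivedCategory.isIso_iff _ _).2 fun q => by
      by_cases hq : a ≤ q
      · exact H9Misc.isIso_map_truncGEπ a q hq X
      · have : (((tS).truncGE a).obj X).IsGE a := (tS).isGE_truncGE_obj ..
        exact Limits.IsZero.isIso (show IsZero ((H q).obj X) from isZero_of_isGE X a q (by omega))
          (isZero_of_isGE _ a q (by omega)) _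
    let e : X⟦i⟧ ≅ (((tS).truncGE a).obj X)⟦i⟧ :=
      (shiftFunctor _ i).mapIso (asIso (((tS).truncGEπ a).app X))
    exact ⟨fun x y => (cancel_mono e.hom).1 (@Subsingleton.elim _ (key _ a (Int.self_le_toNat _)) _ _)⟩
  intro d
  induction d with
  | zero =>
    intro b hb
    have : (((tS).truncGE b).obj X).IsGE b := (tS).isGE_truncGE_obj ..
    exact subsingleton_HDU_of_isGE _ b i (by omega) U
  | succ d ih =>
    intro b hb
    by_cases hbi : i < b
    · have : (((tS).truncGE b).obj X).IsGE b := (tS).isGE_truncGE_obj ..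
      exact subsingleton_HDU_of_isGE _ b i hbi U
    have h0 : ∀ x : CohCx.HDU (((tS).truncGE b).obj X) i U, x = 0 := fun x =>
      trunc_step_injective X b (b + 1) rfl U (i - b).toNat i (by omega) (h b _ (by omega)) x
        (@Subsingleton.elim _ (ih (b + 1) (by omega)) _ _)
    exact ⟨fun x y => (h0 x).trans (h0 y).symm⟩

/-- Transition maps are bijective on hypercohomology in a range of eventual constancy. -/
lemma transition_good {X Y : DerivedCategory (ModSite.Mod O)} (t : X ⟶ Y)
    (A : ObjectProperty (ModSite.Mod O)) [WSerre.IsWeakSerre A]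
    (hX : WSerre.cohInPlus A X) (hY : WSerre.cohInPlus A Y) (d : ℕ) (U : C)
    (hA : ∀ F : ModSite.Mod O, A F → ∀ k : ℕ, d < k → Subsingleton (ModSite.HU O F k U))
    (j : ℤ) (ht : ∀ i : ℤ, j - (d + 2 : ℕ) ≤ i → i ≤ j + 1 →
      IsIso ((DerivedCategory.homologyFunctor (ModSite.Mod O) i).map t)) :
    Function.Bijective (fun x : CohCx.HDU ((toShD O).obj X) j U => x ≫ ((toShD O).map t)⟦j⟧') ∧
      Function.Surjective
        (fun x : CohCx.HDU ((toShD O).obj X) (j - 1) U => x ≫ ((toShD O).map t)⟦j - 1⟧') := by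
  let HM := DerivedCategory.homologyFunctor (ModSite.Mod O)
  obtain ⟨F, f, δ, hT⟩ := distinguished_cocone_triangle₁ t
  obtain ⟨hXA, bX, hbX⟩ := hX
  obtain ⟨hYA, bY, hbY⟩ := hY
  have hFA : WSerre.cohIn A F := by
    refine SiteCmpC.cohIn_obj₂ A (inv_rot_of_distTriang _ hT) (fun i => ?_) hXA
    exact A.prop_of_iso (((DerivedCategory.homologyFunctor (ModSite.Mod O) 0).shiftIso (-1 : ℤ) i (i - 1) (by omega)).app Y).symm (hYA (i - 1))
  have hzero : ∀ i : ℤ, j - (d + 1 : ℕ) ≤ i → i ≤ j + 1 → IsZero ((HM i).obj F) := fun i hi hi' => by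
    have := ht i (by omega) hi'
    have := ht (i - 1) (by omega) (by omega)
    have hm : Mono ((HM i).map f) :=
      (HomologySequence.mono_homologyMap_mor₁_iff _ hT (i - 1) i).2
        ((HomologySequence.epi_homologyMap_mor₂_iff _ hT (i - 1) i).1 (inferInstanceAs (Epi ((HM (i - 1)).map t))))
    have h0 : (HM i).map f = 0 := by
      rw [← cancel_mono ((HM i).map t), zero_comp, ← Functor.map_comp]
      exact (congrArg (HM i).map (comp_distTriang_mor_zero₁₂ _ hT)).trans (Functor.map_zero _ _ _)
    exact @IsZero.of_mono_eq_zero _ _ _ _ _ _ hm h0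
  have : X.IsGE (min bX bY) := (DerivedCategory.TStructure.t).isGE_of_ge _ _ bX (by omega)
  have : Y.IsGE (min bX bY) := (DerivedCategory.TStructure.t).isGE_of_ge _ _ bY (by omega)
  have : F.IsGE (min bX bY) := (isGE_iff _ _).2 fun i hi => by
    have hm : Mono ((HM i).map f) :=
      (HomologySequence.mono_homologyMap_mor₁_iff _ hT (i - 1) i).2
        ((isZero_of_isGE Y (min bX bY) (i - 1) (by omega)).eq_of_src _ _)
    exact @IsZero.of_mono_eq_zero _ _ _ _ _ _ hm
      ((isZero_of_isGE X (min bX bY) i hi).eq_of_tgt _ _)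
  let G := toShD O
  have := isGE_toShD O F (min bX bY)
  have hvan : ∀ j' : ℤ, j ≤ j' → j' ≤ j + 1 → Subsingleton (CohCx.HDU (G.obj F) j' U) := fun j' h1 h2 => by
    refine subsingleton_HDU_of_vanishing (G.obj F) (min bX bY) j' U fun q k hq => ?_
    refine subsingleton_HU_toShD O F q k U ?_
    by_cases hk : d < k
    · exact hA _ (hFA q) k hk
    · exact subsingleton_HU_of_isZero
        ((SheafOfModules.toSheaf.{u} (ModSite.ringSh O)).map_isZero (hzero q (by omega) (by omega))) k U
  have hGT := G.map_distinguished _ hT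
  refine ⟨⟨fun x y hxy => sub_eq_zero.1 ?_, fun z => ?_⟩, fun z => ?_⟩
  · obtain ⟨w, hw⟩ := exact₂_shift _ hGT j (x - y) (by
      show (x - y) ≫ (G.map t)⟦j⟧' = 0
      rw [Preadditive.sub_comp, sub_eq_zero]
      exact hxy)
    rw [← hw, show w = 0 from @Subsingleton.elim _ (hvan j le_rfl (by omega)) _ _]
    exact zero_comp
  · refine exact₃_shift _ hGT j z ?_
    exact (cancel_mono ((shiftFunctorAdd' _ (1 : ℤ) j (j + 1) (by omega)).inv.app (G.obj F))).1
      (@Subsingleton.elim _ (hvan (j + 1) (by omega) le_rfl) _ _)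
  · refine exact₃_shift _ hGT (j - 1) z ?_
    exact (cancel_mono ((shiftFunctorAdd' _ (1 : ℤ) (j - 1) j (by omega)).inv.app (G.obj F))).1
      (@Subsingleton.elim _ (hvan j le_rfl (by omega)) _ _)

/-- A compatible sequence of preimages. -/
lemma exists_compatible {T : ℕ → Type*} (t : ∀ n, T (n + 1) → T n) :
    ∀ (N : ℕ), (∀ n, N ≤ n → Function.Surjective (t n)) → ∀ x : T N,
      ∃ y : ∀ n, T n, (∀ n, t n (y (n + 1)) = y n) ∧ y N = x := by
  intro N
  induction N generalizing T with
  | zero =>
    intro ht x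
    choose g hg using fun n => ht n (Nat.zero_le n)
    exact ⟨fun n => Nat.rec x (fun k yk => g k yk) n, fun n => hg n _, rfl⟩
  | succ N ih =>
    intro ht x
    obtain ⟨y', hy', hyN⟩ := ih (T := fun n => T (n + 1)) (fun n => t (n + 1))
      (fun n hn => ht (n + 1) (by omega)) x
    let y : ∀ n, T n
      | 0 => t 0 (y' 0)
      | n + 1 => y' n
    refine ⟨y, fun n => ?_, hyN⟩
    cases n with
    | zero => rfl
    | succ k => exact hy' k

/-- Cohomology of the derived limit of an eventually constant system. -/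
theorem isIso_homology_rlim (A : ObjectProperty (ModSite.Mod O)) [WSerre.IsWeakSerre A] {B : Set C}
    (hB : IsCoveredBy J B)
    (hA : ∀ V ∈ B, ∃ d : ℕ, ∀ T ∈ J V, ∃ (ι : Type u) (Y : ι → C) (g : ∀ i, Y i ⟶ V),
      (∀ i, T.arrows (g i)) ∧ Sieve.ofArrows Y g ∈ J V ∧
      ∀ (i : ι) (F : ModSite.Mod O), A F → ∀ k : ℕ, d < k → Subsingleton (ModSite.HU O F k (Y i)))
    (K : ℕ → DerivedCategory (ModSite.Mod O)) (t : ∀ n, K (n + 1) ⟶ K n) [HasProduct K]
    (hK : ∀ n, WSerre.cohInPlus A (K n))
    (hconst : ∀ j : ℤ, ∃ n₀ : ℕ, ∀ n, n₀ ≤ n →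
      IsIso ((DerivedCategory.homologyFunctor (ModSite.Mod O) j).map (t n)))
    (L : DerivedCategory (ModSite.Mod O)) (a : ∀ n, L ⟶ K n) (hL : CohCx.IsRlimVia K t L a) (j : ℤ) :
    ∃ n₀ : ℕ, ∀ n, n₀ ≤ n → IsIso ((DerivedCategory.homologyFunctor (ModSite.Mod O) j).map (a n)) := by
  let G := toShD O
  choose n₀ hn₀ using hconst
  refine ⟨n₀ j, fun n hn => ?_⟩
  have := preservesNatProducts_toShD O
  have := hasProduct_sheafD (J := J) fun n => G.obj (K n)
  have hL' := isRlimVia_map G hL
  let K' := fun n => G.obj (K n)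
  let t' := fun n => G.map (t n)
  let a' := fun n => G.map (a n)
  let g := (H j).map (a' n)
  have htr : ∀ k, IsIso ((H j).map (CohCx.transition K' t' n k)) := by
    intro k
    induction k with
    | zero =>
      show IsIso ((H j).map (𝟙 _))
      infer_instance
    | succ k ih =>
      have := hn₀ j (n + k) (by omega)
      have := isIso_toShD_homology O (t (n + k)) j
      show IsIso ((H j).map (t' (n + k) ≫ CohCx.transition K' t' n k))
      rw [Functor.map_comp]
      infer_instance
  have key : ∀ V ∈ B, Function.Injective (g.hom.app (op V)).hom ∧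
      ∀ s, Presheaf.imageSieve g.hom (U := V) s ∈ J V := by
    intro V hV
    obtain ⟨d, hd⟩ := hA V hV
    let M : ℕ := (Finset.range (d + 4)).sup fun r => n₀ (j + 1 - r)
    have hM : ∀ m, M ≤ m → ∀ i : ℤ, j - (d + 2 : ℕ) ≤ i → i ≤ j + 1 →
        IsIso ((DerivedCategory.homologyFunctor (ModSite.Mod O) i).map (t m)) := fun m hm i hi hi' => by
      refine hn₀ i m (le_trans ?_ hm)
      have h1 : (j + 1 - i).toNat ∈ Finset.range (d + 4) := Finset.mem_range.2 (by omega)
      have h2 := Finset.le_sup (f := fun r : ℕ => n₀ (j + 1 - r)) h1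
      rwa [show j + 1 - ((j + 1 - i).toNat : ℤ) = i by omega] at h2
    let N := n + M
    have hgood : ∀ (Y : C),
        (∀ F : ModSite.Mod O, A F → ∀ k : ℕ, d < k → Subsingleton (ModSite.HU O F k Y)) →
        ∀ m, N ≤ m →
          Function.Bijective (fun x : CohCx.HDU (K' (m + 1)) j Y => x ≫ (t' m)⟦j⟧') ∧
          Function.Surjective
            (fun x : CohCx.HDU (K' (m + 1)) (j - 1) Y => x ≫ (t' m)⟦j - 1⟧') := fun Y hY m hm =>
      transition_good O (t m) A (hK _) (hK _) d Y hY j (hM m (by omega))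
    have hfac : (H j).map (a' N) ≫ (H j).map (CohCx.transition K' t' n M) = g := by
      rw [← Functor.map_comp]
      exact congrArg (H j).map (comp_transition hL' n M)
    have hinj : Function.Injective (((H j).map (a' N)).hom.app (op V)).hom := by
      refine sections_injective hL' V j N fun T hT => ?_
      obtain ⟨ι, Y, f, hf, hcov, hvan⟩ := hd T hT
      refine ⟨ι, Y, f, hf, hcov, fun i => ⟨fun b => ?_, fun k => ?_⟩⟩
      · obtain ⟨w, hw⟩ := limOne_of_eventually_surjective N
          (fun n => CohCx.HDU (K' n) (j - 1) (Y i))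
          (fun n => Preadditive.rightComp _ ((shiftFunctor _ (j - 1)).map (t' n)))
          (fun m hm => (hgood (Y i) (hvan i) m hm).2) b
        exact ⟨w, funext hw⟩
      · induction k with
        | zero =>
          intro x y hxy
          have h1 : (shiftFunctor _ j).map (CohCx.transition K' t' N 0) = 𝟙 _ :=
            CategoryTheory.Functor.map_id _ _
          have h2 : x ≫ (shiftFunctor _ j).map (CohCx.transition K' t' N 0) =
              y ≫ (shiftFunctor _ j).map (CohCx.transition K' t' N 0) := hxy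
          rw [h1, Category.comp_id, Category.comp_id] at h2
          exact h2
        | succ k ih =>
          intro x y hxy
          refine (hgood (Y i) (hvan i) (N + k) (by omega)).1.1 (ih ?_)
          have h2 : x ≫ (shiftFunctor _ j).map (t' (N + k) ≫ CohCx.transition K' t' N k) =
              y ≫ (shiftFunctor _ j).map (t' (N + k) ≫ CohCx.transition K' t' N k) := hxy
          rw [Functor.map_comp, ← Category.assoc, ← Category.assoc] at h2
          exact h2
    have := htr M
    have hb := sections_bijective_of_isIso ((H j).map (CohCx.transition K' t' n M)) V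
    constructor
    · rw [← hfac]
      exact hb.1.comp hinj
    · intro s
      obtain ⟨s', hs'⟩ := hb.2 s
      obtain ⟨R, hR, hlift⟩ := exists_cover_cls_lift (K' N) j V s'
      obtain ⟨ι, Yc, f, hf, hcov, hvan⟩ := hd R hR
      refine J.superset_covering ?_ hcov
      rintro Z k ⟨Z', b, c, ⟨i⟩, rfl⟩
      refine Presheaf.imageSieve g.hom s |>.downward_closed ?_ b
      obtain ⟨x, hx⟩ := hlift _ _ (hf i)
      obtain ⟨y, hy, hyN⟩ := exists_compatible
        (T := fun n => CohCx.HDU (K' n) j (Yc i)) (fun n x => x ≫ (t' n)⟦j⟧') N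
        (fun m hm => (hgood (Yc i) (hvan i) m hm).1.2) x
      obtain ⟨z, hz⟩ := rlim_exists_lift hL' j y hy
      refine ⟨cls (G.obj L) j (Yc i) z, ?_⟩
      show (g.hom.app (op (Yc i))).hom (cls (G.obj L) j (Yc i) z) = _
      rw [← hfac]
      show (((H j).map (CohCx.transition K' t' n M)).hom.app (op (Yc i))).hom
        ((((H j).map (a' N)).hom.app (op (Yc i))).hom (cls (G.obj L) j (Yc i) z)) = _
      rw [← cls_comp, hz, hyN, hx, ← hs']
      exact ConcreteCategory.congr_hom
        (((H j).map (CohCx.transition K' t' n M)).hom.naturality (f i).op) s'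
  have : IsIso g := by
    refine (Sheaf.isLocallyBijective_iff_isIso g).1 ⟨?_, ?_⟩
    · constructor
      intro X x y h
      obtain ⟨ι, Yc, f, hf, hY⟩ := hB X.unop
      refine J.superset_covering ?_ hf
      rintro Z k ⟨Z', b, c, ⟨i⟩, rfl⟩
      refine Presheaf.equalizerSieve x y |>.downward_closed ?_ b
      refine (key _ (hY i)).1 ?_
      exact (ConcreteCategory.congr_hom (g.hom.naturality (f i).op) x).trans
        ((congrArg ((CohCx.HD (K' n) j).obj.map (f i).op).hom h).trans
          (ConcreteCategory.congr_hom (g.hom.naturality (f i).op) y).symm)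
    · constructor
      intro U s
      obtain ⟨ι, Y, f, hf, hY⟩ := hB U
      refine J.transitive hf _ ?_
      rintro Z k ⟨Z', b, c, ⟨i⟩, rfl⟩
      rw [Sieve.pullback_comp]
      refine J.pullback_stable b (J.superset_covering ?_
        ((key _ (hY i)).2 (((CohCx.HD (K' n) j).obj.map (f i).op).hom s)))
      rintro W q ⟨z, hz⟩
      refine ⟨z, hz.trans ?_⟩
      exact (ConcreteCategory.congr_hom
        ((CohCx.HD (K' n) j).obj.map_comp (f i).op q.op) s).symm
  exact isIso_homology_of_toShD O (a n) j

end Groth.Agent.Der55
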