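import Groth.Agent.Der55.ToSheafProducts
import Groth.Agent.SiteBase.DLim.Rlim
import Groth.Agent.H9Misc.TFactor
import Groth.Agent.H9Misc.BrownGroth
import Groth.Agent.KFlatLib.PsiC
import Groth.Prelude.Def_ModSite

/-!
# The forgetful functor `D(O) ⥤ D(Ab)` and derived limits
-/

set_option autoImplicit false

universe w u v' u'

open CategoryTheory CategoryTheory.Limits Opposite Pretriangulated DerivedCategory

namespace Groth.Agent.Der55

section General

variable {T : Type u'} [Category.{v'} T] [Preadditive T] [HasZeroObject T] [HasShift T ℤ]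
  [∀ n : ℤ, (shiftFunctor T n).Additive] [Pretriangulated T]

/-- Derived limits of isomorphic systems. -/
lemma isRlimVia_of_iso {K K' : ℕ → T} [HasProduct K] [HasProduct K'] {t : ∀ n, K (n + 1) ⟶ K n}
    {t' : ∀ n, K' (n + 1) ⟶ K' n} {L : T} {a : ∀ n, L ⟶ K n} (hL : CohCx.IsRlimVia K t L a)
    (v : ∀ n, K n ≅ K' n) (hv : ∀ n, t n ≫ (v n).hom = (v (n + 1)).hom ≫ t' n) :
    CohCx.IsRlimVia K' t' L (fun n => a n ≫ (v n).hom) := by
  obtain ⟨c, hc⟩ := hL
  let w : ∏ᶜ K ≅ ∏ᶜ K' :=
    ⟨Limits.Pi.map fun n => (v n).hom, Limits.Pi.map fun n => (v n).inv, Pi.hom_ext _ _ fun n => by simp,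
      Pi.hom_ext _ _ fun n => by simp⟩
  have hw : ∀ n, w.hom ≫ Pi.π K' n = Pi.π K n ≫ (v n).hom := fun n => by simp [w]
  refine ⟨w.inv ≫ c, isomorphic_distinguished _ hc _
    (Triangle.isoMk _ _ (Iso.refl _) w.symm w.symm ?_ ?_ ?_)⟩
  · show Pi.lift (fun n => a n ≫ (v n).hom) ≫ w.inv = 𝟙 L ≫ Pi.lift a
    rw [Category.id_comp, Iso.comp_inv_eq]
    refine Pi.hom_ext _ _ fun n => ?_
    rw [Category.assoc, hw, Pi.lift_π, Pi.lift_π_assoc]
  · show Pi.lift (fun n => Pi.π K' n - Pi.π K' (n + 1) ≫ t' n) ≫ w.inv =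
      w.inv ≫ Pi.lift fun n => Pi.π K n - Pi.π K (n + 1) ≫ t n
    rw [Iso.comp_inv_eq, Category.assoc, Iso.eq_inv_comp]
    refine Pi.hom_ext _ _ fun n => ?_
    rw [Category.assoc, Category.assoc, Pi.lift_π, hw, Pi.lift_π_assoc, Preadditive.comp_sub,
      Preadditive.sub_comp, ← Category.assoc w.hom, hw, hw, Category.assoc, Category.assoc, hv]
  · show (w.inv ≫ c) ≫ (𝟙 L)⟦(1 : ℤ)⟧' = w.inv ≫ c
    simp

variable {T' : Type*} [Category T'] [Preadditive T'] [HasZeroObject T'] [HasShift T' ℤ]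
  [∀ n : ℤ, (shiftFunctor T' n).Additive] [Pretriangulated T']

/-- A triangulated functor preserving the product preserves derived limits. -/
lemma isRlimVia_map (G : T ⥤ T') [G.CommShift ℤ] [G.IsTriangulated] [G.Additive]
    {K : ℕ → T} [HasProduct K] [PreservesLimit (Discrete.functor K) G]
    [HasProduct fun n => G.obj (K n)] {t : ∀ n, K (n + 1) ⟶ K n} {L : T} {a : ∀ n, L ⟶ K n}
    (hL : CohCx.IsRlimVia K t L a) :
    CohCx.IsRlimVia (fun n => G.obj (K n)) (fun n => G.map (t n)) (G.obj L)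
      (fun n => G.map (a n)) := by
  obtain ⟨c, hc⟩ := hL
  let w := PreservesProduct.iso G K
  have hw : ∀ n, w.hom ≫ Pi.π (fun n => G.obj (K n)) n = G.map (Pi.π K n) := fun n => by
    rw [PreservesProduct.iso_hom, piComparison_comp_π]
  refine ⟨w.inv ≫ G.map c ≫ (G.commShiftIso (1 : ℤ)).hom.app L,
    isomorphic_distinguished _ (G.map_distinguished _ hc) _
      (Triangle.isoMk _ _ (Iso.refl _) w.symm w.symm ?_ ?_ ?_)⟩
  · show Pi.lift (fun n => G.map (a n)) ≫ w.inv = 𝟙 _ ≫ G.map (Pi.lift a)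
    rw [Category.id_comp, Iso.comp_inv_eq]
    refine Pi.hom_ext _ _ fun n => ?_
    rw [Category.assoc, hw, ← G.map_comp, Pi.lift_π, Pi.lift_π]
  · show Pi.lift (fun n => Pi.π (fun n => G.obj (K n)) n -
        Pi.π (fun n => G.obj (K n)) (n + 1) ≫ G.map (t n)) ≫ w.inv =
      w.inv ≫ G.map (Pi.lift fun n => Pi.π K n - Pi.π K (n + 1) ≫ t n)
    rw [Iso.comp_inv_eq, Category.assoc, Iso.eq_inv_comp]
    refine Pi.hom_ext _ _ fun n => ?_
    rw [Category.assoc, Category.assoc, Pi.lift_π, hw, ← G.map_comp, Pi.lift_π, G.map_sub,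
      G.map_comp, Preadditive.comp_sub, ← Category.assoc, hw, hw]
  · show (w.inv ≫ G.map c ≫ (G.commShiftIso (1 : ℤ)).hom.app L) ≫ (𝟙 _)⟦(1 : ℤ)⟧' =
      w.inv ≫ G.map c ≫ (G.commShiftIso (1 : ℤ)).hom.app L
    simp

end General

section Comparison

variable {A : Type (u + 1)} [Category.{u} A] [Abelian A] [HasDerivedCategory.{w} A]

/-- The comparison of an object with a derived limit of its truncations. -/
lemma exists_trunc_comparison (E : DerivedCategory A) [HasProduct (CohCx.truncTower E)] :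
    ∃ (L : DerivedCategory A) (a : ∀ n, L ⟶ CohCx.truncTower E n) (e : E ⟶ L),
      CohCx.IsRlimVia (CohCx.truncTower E) (CohCx.truncTowerMap E) L a ∧
      (∀ n, e ≫ a n = CohCx.toTruncTower E n) ∧
      (IsIso e →
        CohCx.IsRlimVia (CohCx.truncTower E) (CohCx.truncTowerMap E) E (CohCx.toTruncTower E)) := by
  let K := CohCx.truncTower E
  let t := CohCx.truncTowerMap E
  let d : ∏ᶜ K ⟶ ∏ᶜ K := Pi.lift fun n => Pi.π K n - Pi.π K (n + 1) ≫ t n
  obtain ⟨L, p, δ, hT⟩ := distinguished_cocone_triangle₁ d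
  let a : ∀ n, L ⟶ K n := fun n => p ≫ Pi.π K n
  have hp : Pi.lift a = p := Pi.hom_ext _ _ fun n => Pi.lift_π _ _
  obtain ⟨e, he⟩ : ∃ e : E ⟶ L, Pi.lift (CohCx.toTruncTower E) = e ≫ p :=
    Triangle.coyoneda_exact₂ _ hT (Pi.lift (CohCx.toTruncTower E)) (Pi.hom_ext _ _ fun n => by
      show (Pi.lift (CohCx.toTruncTower E) ≫ d) ≫ Pi.π K n = 0 ≫ Pi.π K n
      have : CohCx.toTruncTower E (n + 1) ≫ CohCx.truncTowerMap E n = CohCx.toTruncTower E n :=
        (DerivedCategory.TStructure.t (C := A)).π_natTransTruncGEOfLE_app _ _ (by omega) E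
      simp only [d, Category.assoc, Pi.lift_π, Preadditive.comp_sub, zero_comp]
      erw [Pi.lift_π, Pi.lift_π_assoc]
      rw [sub_eq_zero]
      exact this.symm)
  refine ⟨L, a, e, ⟨δ, by rw [hp]; exact hT⟩,
    fun n => by rw [← Category.assoc, ← he, Pi.lift_π], fun hiso => ?_⟩
  let eI : E ≅ L := asIso e
  refine ⟨δ ≫ eI.inv⟦(1 : ℤ)⟧', isomorphic_distinguished _ hT _
    (Triangle.isoMk _ _ eI (Iso.refl _) (Iso.refl _) ?_ ?_ ?_)⟩
  · exact (Category.comp_id _).trans he
  · exact (Category.comp_id _).trans (Category.id_comp _).symm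
  · refine (Category.assoc _ _ _).trans (Eq.trans ?_ (Category.id_comp δ).symm)
    refine (congrArg (δ ≫ ·) ?_).trans (Category.comp_id δ)
    exact (Functor.map_comp _ _ _).symm.trans
      ((congrArg _ eI.inv_hom_id).trans (CategoryTheory.Functor.map_id _ _))

end Comparison

section Sheaves

variable {C : Type u} [SmallCategory C] {J : GrothendieckTopology C}

/-- Injective K-resolutions give a small derived category of abelian sheaves. -/
@[implicit_reducible]
noncomputable def sheafDerived : HasDerivedCategory.{u} (Sheaf J AddCommGrpCat.{u}) :=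
  H9Misc.BrownGroth.smallDerived _ fun K => by
    obtain ⟨I, f, hI, hf, -, -⟩ := TriCat.exists_kInjective_resolution' K
    exact ⟨I, f, hI, hf⟩

attribute [local instance] sheafDerived

variable (O : Sheaf J CommRingCat.{u})

instance preservesFiniteColimits_toSheaf :
    PreservesFiniteColimits (SheafOfModules.toSheaf.{u} (ModSite.ringSh O)) := by
  have := ModTensor.preservesColimits_toSheaf O
  infer_instance

instance reflectsIsomorphisms_toSheaf :
    (SheafOfModules.toSheaf.{u} (ModSite.ringSh O)).ReflectsIsomorphisms :=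
  reflectsIsomorphisms_of_reflectsMonomorphisms_of_reflectsEpimorphisms _

variable [HasDerivedCategory.{w} (ModSite.Mod O)]

/-- The derived forgetful functor to abelian sheaves. -/
noncomputable abbrev toShD : DerivedCategory (ModSite.Mod O) ⥤ DerivedCategory (Sheaf J AddCommGrpCat.{u}) :=
  (SheafOfModules.toSheaf.{u} (ModSite.ringSh O)).mapDerivedCategory

lemma hasProduct_sheafD (K : ℕ → DerivedCategory (Sheaf J AddCommGrpCat.{u})) : HasProduct K := by
  have : HasLimitsOfShape (Discrete ℕ) (DerivedCategory (Sheaf J AddCommGrpCat.{u})) :=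
    TriCat.hasProductsOfShape_derivedCategory fun M => by
      obtain ⟨I, f, hI, hf, -, -⟩ := TriCat.exists_kInjective_resolution' M
      exact ⟨I, f, hI, hf⟩
  infer_instance

lemma preservesNatProducts_toShD : PreservesLimitsOfShape (Discrete ℕ) (toShD O) := by
  have := preservesLimitsOfShape_toSheafD O (ULift.{u} ℕ)
  exact preservesLimitsOfShape_of_equiv (Discrete.equivalence Equiv.ulift) _

/-- Cohomology of the underlying complex of abelian sheaves. -/
noncomputable def hdIso (m : ℤ) (E : DerivedCategory (ModSite.Mod O)) :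
    CohCx.HD ((toShD O).obj E) m ≅
      ModSite.toAb ((DerivedCategory.homologyFunctor (ModSite.Mod O) m).obj E) :=
  (KFlatLib.mapDCHomologyIso (SheafOfModules.toSheaf.{u} (ModSite.ringSh O)) m).app E

lemma isIso_homology_of_toShD {X Y : DerivedCategory (ModSite.Mod O)} (f : X ⟶ Y) (m : ℤ)
    [IsIso ((DerivedCategory.homologyFunctor (Sheaf J AddCommGrpCat.{u}) m).map ((toShD O).map f))] :
    IsIso ((DerivedCategory.homologyFunctor (ModSite.Mod O) m).map f) := by
  have : IsIso ((SheafOfModules.toSheaf.{u} (ModSite.ringSh O)).map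
      ((DerivedCategory.homologyFunctor (ModSite.Mod O) m).map f)) :=
    (NatIso.isIso_map_iff (KFlatLib.mapDCHomologyIso (SheafOfModules.toSheaf.{u} (ModSite.ringSh O)) m)
      f).1 (by assumption)
  exact isIso_of_reflects_iso _ (SheafOfModules.toSheaf.{u} (ModSite.ringSh O))

lemma isIso_toShD_homology {X Y : DerivedCategory (ModSite.Mod O)} (f : X ⟶ Y) (m : ℤ)
    [IsIso ((DerivedCategory.homologyFunctor (ModSite.Mod O) m).map f)] :
    IsIso ((DerivedCategory.homologyFunctor (Sheaf J AddCommGrpCat.{u}) m).map ((toShD O).map f)) :=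
  (NatIso.isIso_map_iff (KFlatLib.mapDCHomologyIso (SheafOfModules.toSheaf.{u} (ModSite.ringSh O)) m)
    f).2 (inferInstanceAs (IsIso ((SheafOfModules.toSheaf.{u} (ModSite.ringSh O)).map
      ((DerivedCategory.homologyFunctor (ModSite.Mod O) m).map f))))

lemma isGE_toShD (E : DerivedCategory (ModSite.Mod O)) (a : ℤ) [E.IsGE a] :
    ((toShD O).obj E).IsGE a :=
  (isGE_iff _ _).2 fun i hi =>
    ((SheafOfModules.toSheaf.{u} (ModSite.ringSh O)).map_isZero (isZero_of_isGE E a i hi)).of_iso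
      (hdIso O i E)

/-- The truncation tower of the underlying complex of abelian sheaves. -/
lemma exists_truncTower_iso (E : DerivedCategory (ModSite.Mod O)) :
    ∃ v : ∀ n, (toShD O).obj (CohCx.truncTower E n) ≅ CohCx.truncTower ((toShD O).obj E) n,
      (∀ n, (toShD O).map (CohCx.truncTowerMap E n) ≫ (v n).hom =
        (v (n + 1)).hom ≫ CohCx.truncTowerMap ((toShD O).obj E) n) ∧
      ∀ n, (toShD O).map (CohCx.toTruncTower E n) ≫ (v n).hom =
        CohCx.toTruncTower ((toShD O).obj E) n := by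
  let G := toShD O
  let tM := DerivedCategory.TStructure.t (C := ModSite.Mod O)
  let tA := DerivedCategory.TStructure.t (C := Sheaf J AddCommGrpCat.{u})
  have hGE : ∀ n : ℕ, (G.obj (CohCx.truncTower E n)).IsGE (-(n : ℤ)) := fun n =>
    have : (CohCx.truncTower E n).IsGE (-(n : ℤ)) := tM.isGE_truncGE_obj ..
    isGE_toShD O _ _
  have hu : ∀ n, ∃ u : CohCx.truncTower (G.obj E) n ⟶ G.obj (CohCx.truncTower E n),
      CohCx.toTruncTower (G.obj E) n ≫ u = G.map (CohCx.toTruncTower E n) := fun n => by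
    have := hGE n
    have : ((tA.truncLT (-(n : ℤ))).obj (G.obj E)).IsLE (-(n : ℤ) - 1) := tA.isLE_truncLT_obj ..
    obtain ⟨u, hu⟩ := Triangle.yoneda_exact₂ _ (tA.triangleLTGE_distinguished (-(n : ℤ)) (G.obj E))
      (G.map (CohCx.toTruncTower E n)) (tA.zero _ (-(n : ℤ) - 1) (-(n : ℤ)))
    exact ⟨u, hu.symm⟩
  choose uu huu using hu
  have hiso : ∀ n, IsIso (uu n) := fun n => (DerivedCategory.isIso_iff _ _).2 fun i => by
    by_cases hi : -(n : ℤ) ≤ i
    · have := H9Misc.isIso_map_truncGEπ (-(n : ℤ)) i hi (G.obj E)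
      have : IsIso ((DerivedCategory.homologyFunctor (ModSite.Mod O) i).map
          (CohCx.toTruncTower E n)) := H9Misc.isIso_map_truncGEπ (-(n : ℤ)) i hi E
      have := isIso_toShD_homology O (CohCx.toTruncTower E n) i
      exact IsIso.of_isIso_fac_left
        (((DerivedCategory.homologyFunctor _ i).map_comp _ _).symm.trans
          (congrArg (DerivedCategory.homologyFunctor _ i).map (huu n)))
    · have := hGE n
      have : (CohCx.truncTower (G.obj E) n).IsGE (-(n : ℤ)) := tA.isGE_truncGE_obj ..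
      exact Limits.IsZero.isIso (isZero_of_isGE _ (-(n : ℤ)) i (by omega))
        (isZero_of_isGE _ (-(n : ℤ)) i (by omega)) _
  refine ⟨fun n => (asIso (uu n)).symm, fun n => ?_, fun n => ?_⟩
  · show G.map _ ≫ inv (uu n) = inv (uu (n + 1)) ≫ _
    rw [IsIso.comp_inv_eq, Category.assoc, IsIso.eq_inv_comp]
    have := hGE n
    have : (G.obj (CohCx.truncTower E n)).IsGE (-((n + 1 : ℕ) : ℤ) - 1) :=
      tA.isGE_of_ge _ (-((n + 1 : ℕ) : ℤ) - 1) (-(n : ℤ)) (by omega)
    refine H9Misc.cancel_truncGEπ (-((n + 1 : ℕ) : ℤ)) ?_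
    rw [← Category.assoc, huu, ← G.map_comp, ← Category.assoc]
    show G.map (CohCx.toTruncTower E (n + 1) ≫ CohCx.truncTowerMap E n) =
      (CohCx.toTruncTower (G.obj E) (n + 1) ≫ CohCx.truncTowerMap (G.obj E) n) ≫ uu n
    rw [tM.π_natTransTruncGEOfLE_app, tA.π_natTransTruncGEOfLE_app]
    exact (huu n).symm
  · show G.map _ ≫ inv (uu n) = _
    rw [IsIso.comp_inv_eq, huu]

end Sheaves

end Groth.Agent.Der55
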