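import Groth.Agent.Der55.RMorSh
import Groth.Agent.ModPull.Unit
import Groth.Agent.ModTensor.ExtZero
import Groth.Agent.H9Misc.RestrExt
import Mathlib.Algebra.Category.ModuleCat.Sheaf.PullbackFree

/-!
# Localisation of inverse images of modules

For a morphism of ringed sites `f`, the restriction of `f^* M` to `C/f⁻¹U` is the inverse image of
the restriction of `M` to `D/U`.
-/

set_option linter.style.haveILetI false

universe u

open CategoryTheory CategoryTheory.Limits Opposite

namespace Groth.Agent.Der55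

open ModTensor ModPull

variable {C D : Type u} [SmallCategory C] [SmallCategory D] {J : GrothendieckTopology C}
  {K : GrothendieckTopology D} {O_C : Sheaf J CommRingCat.{u}} {O_D : Sheaf K CommRingCat.{u}}
  (f : ModSite.RMor O_C O_D) (U : D)

instance isContinuous_post : (Over.post (X := U) f.fn).IsContinuous (K.over U) (J.over (f.fn.obj U)) :=
  ((LocFilt.of_rmor f).over U).isContinuous

/-- The structure map of the localised morphism. -/
noncomputable def overSharp :
    ModSite.ringSh (O_D.over U) ⟶ ((Over.post (X := U) f.fn).sheafPushforwardContinuous RingCat.{u}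
      (K.over U) (J.over (f.fn.obj U))).obj (ModSite.ringSh (O_C.over (f.fn.obj U))) :=
  ((Over.forget U).sheafPushforwardContinuous RingCat.{u} (K.over U) K).map f.sharpR

/-- The direct image of the localised morphism. -/
noncomputable abbrev pushU : ModSite.Mod (O_C.over (f.fn.obj U)) ⥤ ModSite.Mod (O_D.over U) :=
  SheafOfModules.pushforward.{u} (overSharp f U)

/-- The inverse image of the localised morphism. -/
noncomputable abbrev pullU : ModSite.Mod (O_D.over U) ⥤ ModSite.Mod (O_C.over (f.fn.obj U)) :=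
  SheafOfModules.pullback.{u} (overSharp f U)

/-- The adjunction of the localised morphism. -/
noncomputable abbrev adjU : pullU f U ⊣ pushU f U :=
  SheafOfModules.pullbackPushforwardAdjunction.{u} (overSharp f U)

variable {U}

/-- The transpose of a map out of the restricted inverse image. -/
noncomputable def trU {M : ModSite.Mod O_D} {N : ModSite.Mod (O_C.over (f.fn.obj U))}
    (ψ : (ModSite.restr O_C (f.fn.obj U)).obj (f.pull.obj M) ⟶ N) :
    (ModSite.restr O_D U).obj M ⟶ (pushU f U).obj N :=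
  (ModSite.restr O_D U).map (f.adj.unit.app M) ≫ (pushU f U).map ψ

lemma trU_app {M : ModSite.Mod O_D} {N : ModSite.Mod (O_C.over (f.fn.obj U))}
    (ψ : (ModSite.restr O_C (f.fn.obj U)).obj (f.pull.obj M) ⟶ N) (P : Over U)
    (y : ((fg O_D).obj M).obj (op P.left)) :
    ((fg (O_D.over U)).map (trU f ψ)).app (op P) y =
      ((fg (O_C.over (f.fn.obj U))).map ψ).app (op ((Over.post f.fn).obj P)) (pu f M y) :=
  rfl

lemma trU_natural {M M' : ModSite.Mod O_D} (g : M' ⟶ M) {N : ModSite.Mod (O_C.over (f.fn.obj U))}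
    (ψ : (ModSite.restr O_C (f.fn.obj U)).obj (f.pull.obj M) ⟶ N) :
    trU f ((ModSite.restr O_C (f.fn.obj U)).map (f.pull.map g) ≫ ψ) =
      (ModSite.restr O_D U).map g ≫ trU f ψ := by
  refine (fg (O_D.over U)).map_injective (PresheafOfModules.hom_ext fun P => ModuleCat.hom_ext
    (LinearMap.ext fun y => ?_))
  exact congrArg (((fg (O_C.over (f.fn.obj U))).map ψ).app (op ((Over.post f.fn).obj P.unop)))
    (pu_naturality f g (U := op P.unop.left) y)

/-- The free cover of a module pulled back. -/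
noncomputable def pullCover (M : ModSite.Mod O_D) :
    (sh O_C).obj (sigFree O_C (imgFam f (fun p : (Σ V : D, ((fg O_D).obj M).obj (op V)) => p.1))) ⟶
      f.pull.obj M :=
  (pullFreeIso f _).inv ≫ f.pull.map (coverHom M)

lemma pullCover_bs (M : ModSite.Mod O_D) {W : C} (p : Σ V : D, ((fg O_D).obj M).obj (op V))
    (b : W ⟶ f.fn.obj p.1) :
    ((fg O_C).map (pullCover f M)).app (op W)
        (shu _ (bs (imgFam f (fun p : (Σ V : D, ((fg O_D).obj M).obj (op V)) => p.1)) (X := op W) p b)) =
      rs ((fg O_C).obj (f.pull.obj M)) b.op (pu f M (U := op p.1) p.2) := by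
  refine (congrArg (((fg O_C).map (f.pull.map (coverHom M))).app (op W))
    (pullFreeInv_bs f _ (W := op W) p b)).trans ?_
  refine (app_rs _ _ _).trans (congrArg (rs _ b.op) ?_)
  refine (pu_naturality f (coverHom M) (U := op p.1) _).trans (congrArg (pu f M (U := op p.1)) ?_)
  refine (coverHom_bs M (V := op p.1) p (𝟙 _)).trans ?_
  exact rs_id _

instance epi_pullCover (M : ModSite.Mod O_D) : Epi (pullCover f M) :=
  have : PreservesColimitsOfSize.{0, 0} f.pull := f.adj.leftAdjoint_preservesColimits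
  have : Epi (f.pull.map (coverHom M)) := inferInstance
  epi_comp _ _

theorem trU_injective {M : ModSite.Mod O_D} {N : ModSite.Mod (O_C.over (f.fn.obj U))}
    {ψ ψ' : (ModSite.restr O_C (f.fn.obj U)).obj (f.pull.obj M) ⟶ N} (h : trU f ψ = trU f ψ') : ψ = ψ' := by
  have := SuppCore.epi_restr_map (O := O_C) (f.fn.obj U) (pullCover f M)
  refine (cancel_epi ((ModSite.restr O_C (f.fn.obj U)).map (pullCover f M))).1
    (restr_free_hom_ext (f.fn.obj U) fun Z p b => ?_)
  show ((fg (O_C.over (f.fn.obj U))).map ψ).app (op Z)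
      (((fg O_C).map (pullCover f M)).app (op Z.left) _) =
    ((fg (O_C.over (f.fn.obj U))).map ψ').app (op Z) (((fg O_C).map (pullCover f M)).app (op Z.left) _)
  rw [pullCover_bs]
  refine eq_of_locally' N ((locally_over _ ⟨_, (LocFilt.of_rmor f).pair Z.hom b, fun _ _ h => h⟩).mono ?_)
  rintro T t ⟨V, a, a', s, e, e'⟩
  let s' : T ⟶ (Over.post f.fn).obj (Over.mk a) := Over.homMk s (e.trans (Over.w t))
  have key : ∀ φ : (ModSite.restr O_C (f.fn.obj U)).obj (f.pull.obj M) ⟶ N,
      rs ((fg (O_C.over (f.fn.obj U))).obj N) t.op (((fg (O_C.over (f.fn.obj U))).map φ).app (op Z)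
          (rs ((fg O_C).obj (f.pull.obj M)) b.op (pu f M (U := op p.1) p.2))) =
        rs ((fg (O_C.over (f.fn.obj U))).obj N) s'.op (((fg (O_D.over U)).map (trU f φ)).app (op (Over.mk a))
          (rs ((fg O_D).obj M) a'.op p.2)) := fun φ => by
    rw [trU_app, ← app_rs, ← app_rs]
    refine congrArg (((fg (O_C.over (f.fn.obj U))).map φ).app (op T)) ?_
    show rs ((fg O_C).obj (f.pull.obj M)) t.left.op _ = rs ((fg O_C).obj (f.pull.obj M)) s.op _
    refine (rs_comp (P := (fg O_C).obj (f.pull.obj M)) b.op t.left.op _).symm.trans ?_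
    refine Eq.trans ?_ (congrArg (rs ((fg O_C).obj (f.pull.obj M)) s.op) (pu_rs f M (U := op p.1) a'.op p.2)).symm
    refine Eq.trans ?_ (rs_comp _ _ _)
    exact congrArg (fun z => rs ((fg O_C).obj (f.pull.obj M)) z (pu f M (U := op p.1) p.2))
      (congrArg Quiver.Hom.op e'.symm)
  have h' : ∀ w, (((fg (O_D.over U)).map (trU f ψ)).app (op (Over.mk a))) w =
      (((fg (O_D.over U)).map (trU f ψ')).app (op (Over.mk a))) w := fun w => by rw [h]
  exact (key ψ).trans ((congrArg (rs ((fg (O_C.over (f.fn.obj U))).obj N) s'.op) (h' _)).trans (key ψ').symm)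

lemma trU_zero {M : ModSite.Mod O_D} {N : ModSite.Mod (O_C.over (f.fn.obj U))} :
    trU f (0 : (ModSite.restr O_C (f.fn.obj U)).obj (f.pull.obj M) ⟶ N) = 0 :=
  ((ModSite.restr O_D U).map (f.adj.unit.app M)) ≫= ((pushU f U).map_zero _ _) |>.trans comp_zero

section Surj

variable {M : ModSite.Mod O_D} {N : ModSite.Mod (O_C.over (f.fn.obj U))}
  (φ : (ModSite.restr O_D U).obj M ⟶ (pushU f U).obj N)

/-- The value of `φ` on a restricted section. -/
noncomputable def valU (P : Over U) {V : D} (a' : P.left ⟶ V) (y : ((fg O_D).obj M).obj (op V)) :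
    ((fg (O_C.over (f.fn.obj U))).obj N).obj (op ((Over.post f.fn).obj P)) :=
  ((fg (O_D.over U)).map φ).app (op P) (rs ((fg O_D).obj M) a'.op y)

lemma rs_valU {P P' : Over U} (c : P' ⟶ P) {V : D} (a' : P.left ⟶ V) (y : ((fg O_D).obj M).obj (op V)) :
    rs ((fg (O_C.over (f.fn.obj U))).obj N) ((Over.post f.fn).map c).op (valU f φ P a' y) =
      valU f φ P' (c.left ≫ a') y := by
  refine (app_rs ((fg (O_D.over U)).map φ) c.op (rs ((fg O_D).obj M) a'.op y)).symm.trans ?_
  refine congrArg (((fg (O_D.over U)).map φ).app (op P')) ?_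
  exact (rs_comp (P := (fg O_D).obj M) a'.op c.left.op y).symm

/-- The characterisation of the value on a pulled back section. -/
def IsVal (Z : Over (f.fn.obj U)) {V : D} (b : Z.left ⟶ f.fn.obj V) (y : ((fg O_D).obj M).obj (op V))
    (n : ((fg (O_C.over (f.fn.obj U))).obj N).obj (op Z)) : Prop :=
  ∀ ⦃T : Over (f.fn.obj U)⦄ (t : T ⟶ Z) (P : Over U) (a' : P.left ⟶ V) (s : T ⟶ (Over.post f.fn).obj P),
    s.left ≫ f.fn.map a' = t.left ≫ b →
      rs ((fg (O_C.over (f.fn.obj U))).obj N) t.op n =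
        rs ((fg (O_C.over (f.fn.obj U))).obj N) s.op (valU f φ P a' y)

lemma exists_isVal (Z : Over (f.fn.obj U)) {V : D} (b : Z.left ⟶ f.fn.obj V)
    (y : ((fg O_D).obj M).obj (op V)) : ∃ n, IsVal f φ Z b y n := by
  let N' := (fg (O_C.over (f.fn.obj U))).obj N
  obtain ⟨n, hn⟩ := exists_glue N (X := Z) (fun T t x => ∃ (P : Over U) (a' : P.left ⟶ V)
      (s : T ⟶ (Over.post f.fn).obj P), s.left ≫ f.fn.map a' = t.left ≫ b ∧ rs N' s.op (valU f φ P a' y) = x)
    (by
      rintro T T' t r x ⟨P, a', s, e, rfl⟩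
      refine ⟨P, a', r ≫ s, ?_, rs_comp (P := N') s.op r.op _⟩
      show (r.left ≫ s.left) ≫ _ = (r.left ≫ t.left) ≫ b
      rw [Category.assoc, e, Category.assoc])
    ((locally_over _ ⟨_, (LocFilt.of_rmor f).pair Z.hom b, fun _ _ h => h⟩).mono
      fun T t ⟨V', a, a', s, e, e'⟩ =>
        ⟨_, Over.mk a, a', Over.homMk s (e.trans (Over.w t)), e', rfl⟩)
    (by
      rintro T t x x' ⟨P₁, a₁, s₁, e₁, rfl⟩ ⟨P₂, a₂, s₂, e₂, rfl⟩
      refine eq_of_locally' N (Locally.bind (⟨_, ((LocFilt.of_rmor f).over U).pair s₁ s₂, fun _ _ h => h⟩ :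
        Locally (J.over (f.fn.obj U)) T fun _ r => pairSieve (Over.post f.fn) s₁ s₂ r) ?_)
      rintro T₁ r ⟨P, c₁, c₂, s, f₁, f₂⟩
      have g₁ := congrArg CommaMorphism.left f₁
      have g₂ := congrArg CommaMorphism.left f₂
      change s.left ≫ f.fn.map c₁.left = r.left ≫ s₁.left at g₁
      change s.left ≫ f.fn.map c₂.left = r.left ≫ s₂.left at g₂
      have heq : s.left ≫ f.fn.map (c₁.left ≫ a₁) = s.left ≫ f.fn.map (c₂.left ≫ a₂) := by
        rw [f.fn.map_comp, f.fn.map_comp]
        refine (Category.assoc _ _ _).symm.trans ?_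
        refine (congrArg (· ≫ f.fn.map a₁) g₁).trans ?_
        refine (Category.assoc _ _ _).trans ((congrArg (r.left ≫ ·) (e₁.trans e₂.symm)).trans ?_)
        exact (Category.assoc _ _ _).symm.trans
          ((congrArg (· ≫ f.fn.map a₂) g₂.symm).trans (Category.assoc _ _ _))
      refine ((locally_over _ ⟨_, (LocFilt.of_rmor f).equalize _ _ s.left heq, fun _ _ h => h⟩).mono ?_)
      rintro T₂ r' ⟨V₂, k, s', ek, es⟩
      let s'' : T₂ ⟶ (Over.post f.fn).obj (Over.mk (k ≫ P.hom)) := Over.homMk s' (by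
        show s' ≫ f.fn.map (k ≫ P.hom) = T₂.hom
        rw [f.fn.map_comp, reassoc_of% es, ← Over.w r']
        exact congrArg (r'.left ≫ ·) (Over.w s))
      let k' : Over.mk (k ≫ P.hom) ⟶ P := Over.homMk k
      have hs : ∀ {Pi : Over U} (c : P ⟶ Pi) (si : T ⟶ (Over.post f.fn).obj Pi),
          s ≫ (Over.post f.fn).map c = r ≫ si →
          (r' ≫ r) ≫ si = s'' ≫ (Over.post f.fn).map (k' ≫ c) := fun {Pi} c si hc => by
        refine Over.OverMorphism.ext ?_
        show (r'.left ≫ r.left) ≫ si.left = s' ≫ f.fn.map (k ≫ c.left)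
        rw [f.fn.map_comp, reassoc_of% es, Category.assoc]
        exact congrArg (r'.left ≫ ·) (congrArg CommaMorphism.left hc).symm
      show rs N' (r' ≫ r).op (rs N' s₁.op _) = rs N' (r' ≫ r).op (rs N' s₂.op _)
      rw [← rs_comp, ← rs_comp, ← op_comp, ← op_comp, hs c₁ s₁ f₁, hs c₂ s₂ f₂, op_comp, op_comp,
        rs_comp, rs_comp, rs_valU, rs_valU]
      refine congrArg (fun z => rs N' s''.op (valU f φ (Over.mk (k ≫ P.hom)) z y)) ?_
      show (k ≫ c₁.left) ≫ a₁ = (k ≫ c₂.left) ≫ a₂
      rw [Category.assoc, Category.assoc, ek])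
  exact ⟨n, fun T t P a' s e => hn t _ ⟨P, a', s, e, rfl⟩⟩

lemma isVal_unique {Z : Over (f.fn.obj U)} {V : D} {b : Z.left ⟶ f.fn.obj V}
    {y : ((fg O_D).obj M).obj (op V)} {n n' : ((fg (O_C.over (f.fn.obj U))).obj N).obj (op Z)}
    (h : IsVal f φ Z b y n) (h' : IsVal f φ Z b y n') : n = n' := by
  refine eq_of_locally' N ((locally_over _ ⟨_, (LocFilt.of_rmor f).pair Z.hom b, fun _ _ h => h⟩).mono ?_)
  rintro T t ⟨V', a, a', s, e, e'⟩
  exact (h t (Over.mk a) a' (Over.homMk s (e.trans (Over.w t))) e').trans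
    (h' t (Over.mk a) a' (Over.homMk s (e.trans (Over.w t))) e').symm

/-- The chosen value. -/
noncomputable def valOn (Z : Over (f.fn.obj U)) {V : D} (b : Z.left ⟶ f.fn.obj V)
    (y : ((fg O_D).obj M).obj (op V)) : ((fg (O_C.over (f.fn.obj U))).obj N).obj (op Z) :=
  (exists_isVal f φ Z b y).choose

lemma rs_valOn {Z Z' : Over (f.fn.obj U)} (r : Z' ⟶ Z) {V : D} (b : Z.left ⟶ f.fn.obj V)
    (y : ((fg O_D).obj M).obj (op V)) :
    rs ((fg (O_C.over (f.fn.obj U))).obj N) r.op (valOn f φ Z b y) = valOn f φ Z' (r.left ≫ b) y := by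
  refine isVal_unique f φ (fun T t P a' s e => ?_) (exists_isVal f φ Z' _ y).choose_spec
  rw [← rs_comp, ← op_comp]
  refine (exists_isVal f φ Z b y).choose_spec (t ≫ r) P a' s (e.trans ?_)
  exact (Category.assoc _ _ _).symm

/-- The map on the free cover. -/
noncomputable def coverMapU :
    (ModSite.restr O_C (f.fn.obj U)).obj
      ((sh O_C).obj (sigFree O_C (imgFam f (fun p : (Σ V : D, ((fg O_D).obj M).obj (op V)) => p.1)))) ⟶ N :=
  let G : (Over (f.fn.obj U))ᵒᵖ ⥤ Type u := (Over.forget (f.fn.obj U)).op ⋙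
    sigYon (imgFam f (fun p : (Σ V : D, ((fg O_D).obj M).obj (op V)) => p.1))
  let h : PresheafOfModules.freeObj (R := (O_C.over (f.fn.obj U)).obj ⋙ forget₂ CommRingCat.{u} RingCat.{u}) G ⟶
      (fg (O_C.over (f.fn.obj U))).obj N := PresheafOfModules.freeObjDesc
    { app := fun Z => TypeCat.ofHom fun x => valOn f φ Z.unop x.2 x.1.2
      naturality := fun Z Z' g => by
        refine ConcreteCategory.hom_ext _ _ fun x => ?_
        exact (rs_valOn f φ g.unop x.2 x.1.2).symm }
  descRestr _ h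

lemma coverMapU_bs (Z : Over (f.fn.obj U)) (p : Σ V : D, ((fg O_D).obj M).obj (op V))
    (b : Z.left ⟶ f.fn.obj p.1) :
    ((fg (O_C.over (f.fn.obj U))).map (coverMapU f φ)).app (op Z)
        (shu _ (bs (imgFam f (fun p : (Σ V : D, ((fg O_D).obj M).obj (op V)) => p.1)) (X := op Z.left) p b)) =
      valOn f φ Z b p.2 :=
  (descRestr_shu _ _ Z _).trans (ModuleCat.freeDesc_apply _ _)

lemma trU_coverMapU :
    trU f ((ModSite.restr O_C (f.fn.obj U)).map (pullFreeHom f _) ≫ coverMapU f φ) =
      (ModSite.restr O_D U).map (coverHom M) ≫ φ := by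
  refine restr_free_hom_ext U fun P p c => ?_
  rw [trU_app]
  show ((fg (O_C.over (f.fn.obj U))).map (coverMapU f φ)).app (op ((Over.post f.fn).obj P))
      (((fg O_C).map (pullFreeHom f _)).app (op (f.fn.obj P.left)) _) =
    ((fg (O_D.over U)).map φ).app (op P) (((fg O_D).map (coverHom M)).app (op P.left) _)
  refine (congrArg _ (pullFreeHom_pu f _ (V := op P.left) p c)).trans
    ((coverMapU_bs f φ ((Over.post f.fn).obj P) p (f.fn.map c)).trans ?_)
  refine Eq.trans ?_ (congrArg _ (coverHom_bs M (V := op P.left) p c).symm)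
  have h := (exists_isVal f φ ((Over.post f.fn).obj P) (f.fn.map c) p.2).choose_spec (𝟙 _) P c (𝟙 _) rfl
  rw [op_id, rs_id, rs_id] at h
  exact h

end Surj

theorem trU_surjective {M : ModSite.Mod O_D} {N : ModSite.Mod (O_C.over (f.fn.obj U))}
    (φ : (ModSite.restr O_D U).obj M ⟶ (pushU f U).obj N) :
    ∃ ψ, trU f (M := M) ψ = φ := by
  let R := ModSite.restr O_C (f.fn.obj U)
  have := SuppCore.preservesFiniteColimits_restr (O := O_C) (f.fn.obj U)
  have : PreservesColimitsOfSize.{0, 0} f.pull := f.adj.leftAdjoint_preservesColimits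
  have : f.pull.Additive := f.adj.left_adjoint_additive
  let k := coverHom (kernel (coverHom M)) ≫ kernel.ι (coverHom M)
  have w : k ≫ coverHom M = 0 := by simp [k]
  let hk : IsColimit (CokernelCofork.ofπ (coverHom M) w) :=
    isCokernelEpiComp (c := CokernelCofork.ofπ _ (kernel.condition (coverHom M)))
      (Abelian.epiIsCokernelOfKernel _ <| limit.isLimit _) _ rfl
  let hk' := isColimitCoforkMapOfIsColimit' (f.pull ⋙ R) w hk
  let g := R.map (pullFreeHom f _) ≫ coverMapU f φ
  have hg : (f.pull ⋙ R).map k ≫ g = 0 := by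
    refine trU_injective f ((trU_natural f k g).trans ?_)
    rw [trU_coverMapU, ← Category.assoc, ← Functor.map_comp, w, Functor.map_zero, zero_comp]
    exact (trU_zero f).symm
  refine ⟨hk'.desc (CokernelCofork.ofπ g hg), ?_⟩
  have := SuppCore.epi_restr_map (O := O_D) U (coverHom M)
  refine (cancel_epi ((ModSite.restr O_D U).map (coverHom M))).1 ?_
  refine (trU_natural f (coverHom M) _).symm.trans ((congrArg (trU f) ?_).trans (trU_coverMapU f φ))
  exact hk'.fac (CokernelCofork.ofπ g hg) WalkingParallelPair.one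

/-- The comparison of the localised inverse image with the restricted one. -/
noncomputable def pullRestrHom (M : ModSite.Mod O_D) :
    (pullU f U).obj ((ModSite.restr O_D U).obj M) ⟶ (ModSite.restr O_C (f.fn.obj U)).obj (f.pull.obj M) :=
  ((adjU f U).homEquiv _ _).symm ((ModSite.restr O_D U).map (f.adj.unit.app M))

instance isIso_pullRestrHom (M : ModSite.Mod O_D) : IsIso (pullRestrHom f (U := U) M) := by
  refine (isIso_iff_coyoneda_map_bijective _).2 fun N => ?_
  have h : (fun ψ : (ModSite.restr O_C (f.fn.obj U)).obj (f.pull.obj M) ⟶ N => pullRestrHom f M ≫ ψ) =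
      ((adjU f U).homEquiv _ _).symm ∘ trU f := funext fun ψ =>
    ((adjU f U).homEquiv_naturality_right_symm _ ψ).symm
  rw [h]
  exact ((adjU f U).homEquiv _ _).symm.bijective.comp ⟨fun _ _ => trU_injective f, trU_surjective f⟩

/-- The restriction of an inverse image is the localised inverse image of the restriction. -/
noncomputable def pullRestrIso (M : ModSite.Mod O_D) :
    (pullU f U).obj ((ModSite.restr O_D U).obj M) ≅ (ModSite.restr O_C (f.fn.obj U)).obj (f.pull.obj M) :=
  asIso (pullRestrHom f M)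

end Groth.Agent.Der55
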