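import Groth.Agent.Der55.RMorOver
import Groth.Prelude.Def_AlgSpPerf
import Mathlib.Algebra.Category.ModuleCat.Sheaf.LocallyFree

/-!
# Local properties of modules are preserved by inverse images
-/

set_option linter.style.haveILetI false

universe u

open CategoryTheory CategoryTheory.Limits Opposite

namespace Groth.Agent.Der55

open ModTensor ModPull

variable {C D : Type u} [SmallCategory C] [SmallCategory D] {J : GrothendieckTopology C}
  {K : GrothendieckTopology D} {O_C : Sheaf J CommRingCat.{u}} {O_D : Sheaf K CommRingCat.{u}}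
  (f : ModSite.RMor O_C O_D)

/-- The sections of a direct image are the sections. -/
theorem bijective_pushforwardSections (M : ModSite.Mod O_C) :
    Function.Bijective (SheafOfModules.pushforwardSections f.sharpR (M := M)) := by
  let P := (fg O_C).obj M
  refine ⟨fun s s' h => Subtype.ext (funext fun X => ?_), fun t => ?_⟩
  · refine eq_of_locally' M (W := X.unop) ⟨_, (LocFilt.of_rmor f).some' X.unop, ?_⟩
    rintro W r ⟨V, ⟨g⟩⟩
    have hV : s.val (op (f.fn.obj V)) = s'.val (op (f.fn.obj V)) :=
      congrFun (congrArg Subtype.val h) (op V)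
    show M.val.map r.op (s.val (op X.unop)) = M.val.map r.op (s'.val (op X.unop))
    rw [show M.val.map r.op (s.val (op X.unop)) = s.val (op W) from s.property r.op,
      show M.val.map r.op (s'.val (op X.unop)) = s'.val (op W) from s'.property r.op,
      ← show M.val.map g.op (s.val (op (f.fn.obj V))) = s.val (op W) from s.property g.op, hV]
    exact s'.property g.op
  · have ht : ∀ {V V' : D} (c : V' ⟶ V), rs P (f.fn.map c).op (t.val (op V)) = t.val (op V') :=
      fun c => t.property c.op
    let rel : ∀ (X : C) ⦃T : C⦄, (T ⟶ X) → P.obj (op T) → Prop := fun X T _ a =>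
      ∃ (V : D) (g : T ⟶ f.fn.obj V), rs P g.op (t.val (op V)) = a
    have hfun : ∀ {T : C} {V₁ V₂ : D} (g₁ : T ⟶ f.fn.obj V₁) (g₂ : T ⟶ f.fn.obj V₂),
        rs P g₁.op (t.val (op V₁)) = rs P g₂.op (t.val (op V₂)) := fun {T V₁ V₂} g₁ g₂ => by
      refine eq_of_locally' M ⟨_, (LocFilt.of_rmor f).pair g₁ g₂, ?_⟩
      rintro W r ⟨V, a₁, a₂, s, e₁, e₂⟩
      rw [← rs_comp, ← rs_comp, ← op_comp, ← op_comp, ← e₁, ← e₂, op_comp, op_comp, rs_comp, rs_comp,
        ht a₁, ht a₂]
    have hex : ∀ X : C, ∃ x : P.obj (op X), ∀ ⦃T : C⦄ (r : T ⟶ X) a, rel X r a → rs P r.op x = a :=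
      fun X => exists_glue M (rel X)
        (by
          rintro T T' r s a ⟨V, g, rfl⟩
          exact ⟨V, s ≫ g, rs_comp (P := P) g.op s.op _⟩)
        ⟨_, (LocFilt.of_rmor f).some' X, fun T r ⟨V, ⟨g⟩⟩ => ⟨_, V, g, rfl⟩⟩
        (by
          rintro T r a b ⟨V₁, g₁, rfl⟩ ⟨V₂, g₂, rfl⟩
          exact hfun g₁ g₂)
    choose x hx using hex
    refine ⟨⟨fun X => x X.unop, fun {X Y} r => ?_⟩, Subtype.ext (funext fun V => ?_)⟩
    · refine eq_of_locally' M (W := Y.unop) ⟨_, (LocFilt.of_rmor f).some' Y.unop, ?_⟩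
      rintro W k ⟨V, ⟨g⟩⟩
      show rs P k.op (rs P r (x X.unop)) = rs P k.op (x Y.unop)
      rw [← rs_comp, hx Y.unop k _ ⟨V, g, rfl⟩]
      exact hx X.unop (k ≫ r.unop) _ ⟨V, g, rfl⟩
    · show x (f.fn.obj V.unop) = _
      have h := hx _ (𝟙 _) _ ⟨V.unop, 𝟙 _, rfl⟩
      rw [op_id, rs_id, rs_id] at h
      exact h

/-- The inverse image of the structure sheaf is the structure sheaf. -/
theorem isIso_pullbackObjUnitToUnit : IsIso (SheafOfModules.pullbackObjUnitToUnit f.sharpR) := by
  rw [isIso_iff_coyoneda_map_bijective]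
  intro M
  rw [← ((SheafOfModules.pullbackPushforwardAdjunction.{u} f.sharpR).homEquiv _ _).bijective.of_comp_iff',
    ← (SheafOfModules.unitHomEquiv _).bijective.of_comp_iff']
  convert! (bijective_pushforwardSections f M).comp (SheafOfModules.unitHomEquiv _).bijective
  ext k : 1
  dsimp
  rw [SheafOfModules.pushforwardSections_unitHomEquiv, EmbeddingLike.apply_eq_iff_eq,
    Adjunction.homEquiv_naturality_right,
    SheafOfModules.pullbackPushforwardAdjunction_homEquiv_pullbackObjUnitToUnit]

/-- The inverse image of the structure sheaf. -/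
noncomputable def pullUnitIso : f.pull.obj (ModSite.unit O_D) ≅ ModSite.unit O_C :=
  have := isIso_pullbackObjUnitToUnit f
  asIso (SheafOfModules.pullbackObjUnitToUnit f.sharpR)

/-- The localised inverse image of the structure sheaf. -/
noncomputable def pullUUnitIso (U : D) :
    ModSite.unit (O_C.over (f.fn.obj U)) ≅ (pullU f U).obj (ModSite.unit (O_D.over U)) :=
  (ModSite.restr O_C (f.fn.obj U)).mapIso (pullUnitIso f).symm ≪≫ (pullRestrIso f (U := U) _).symm

lemma coversTop_img {I : Type*} {X : I → D} (h : K.CoversTop X) :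
    J.CoversTop fun i => f.fn.obj (X i) := fun W => by
  refine mem_of_locally (Locally.bind (⟨_, (LocFilt.of_rmor f).some' W, fun _ _ h => h⟩ :
    Locally J W fun _ g => someSieve f.fn W g) fun T g hg => ?_)
  obtain ⟨V, ⟨k⟩⟩ := hg
  refine Locally.mono (⟨_, (LocFilt.of_rmor f).img (h V) k, fun _ _ h => h⟩ :
    Locally J T fun _ r => imgSieve f.fn (Sieve.ofObjects X V) k r) ?_
  rintro T' r ⟨V', a, s, ⟨i, ⟨b⟩⟩, -⟩
  exact ⟨i, ⟨s ≫ f.fn.map b⟩⟩

/-- The localised inverse image, between the restricted sheaves of rings. -/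
noncomputable def pullU' (U : D) : SheafOfModules.{u} ((ModSite.ringSh O_D).over U) ⥤
    SheafOfModules.{u} ((ModSite.ringSh O_C).over (f.fn.obj U)) :=
  pullU f U

instance preservesColimits_pullU (U : D) : PreservesColimitsOfSize.{u, u} (pullU' f U) :=
  (adjU f U).leftAdjoint_preservesColimits

/-- The inverse image of local generators. -/
@[simps I X]
noncomputable def pullLGD {F : ModSite.Mod O_D}
    (q : SheafOfModules.LocalGeneratorsData.{u} (R := ModSite.ringSh O_D) F) :
    SheafOfModules.LocalGeneratorsData.{u} (R := ModSite.ringSh O_C) (f.pull.obj F) where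
  I := q.I
  X i := f.fn.obj (q.X i)
  coversTop := coversTop_img f q.coversTop
  generators i :=
    ((q.generators i).map (pullU' f (q.X i)) (pullUUnitIso f _)).ofEpi
    (pullRestrIso f (U := q.X i) F).hom

/-- The inverse image of quasi-coherence data. -/
@[simps I X]
noncomputable def pullQCD {F : ModSite.Mod O_D}
    (q : SheafOfModules.QuasicoherentData.{u} (R := ModSite.ringSh O_D) F) :
    SheafOfModules.QuasicoherentData.{u} (R := ModSite.ringSh O_C) (f.pull.obj F) where
  I := q.I
  X i := f.fn.obj (q.X i)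
  coversTop := coversTop_img f q.coversTop
  presentation i :=
    ((q.presentation i).map (pullU' f (q.X i)) (pullUUnitIso f _)).ofIsIso
    (pullRestrIso f (U := q.X i) F).hom

theorem isQuasicoherent_pull (F : ModSite.Mod O_D)
    [SheafOfModules.IsQuasicoherent (R := ModSite.ringSh O_D) F] :
    SheafOfModules.IsQuasicoherent (R := ModSite.ringSh O_C) (f.pull.obj F) :=
  (pullQCD f (SheafOfModules.IsQuasicoherent.nonempty_quasicoherentData (R := ModSite.ringSh O_D) (M := F)).some).isQuasicoherent

theorem isFiniteType_pull (F : ModSite.Mod O_D)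
    [SheafOfModules.IsFiniteType (R := ModSite.ringSh O_D) F] :
    SheafOfModules.IsFiniteType (R := ModSite.ringSh O_C) (f.pull.obj F) := by
  obtain ⟨q, hq⟩ := SheafOfModules.IsFiniteType.exists_localGeneratorsData (R := ModSite.ringSh O_D) F
  have h : (pullLGD f q).IsFiniteType := { isFiniteType := fun i => { finite := (hq.isFiniteType i).finite } }
  exact SheafOfModules.IsFiniteType.mk (R := ModSite.ringSh O_C) ⟨pullLGD f q, h⟩

theorem isFinitePresentation_pull (F : ModSite.Mod O_D)
    [SheafOfModules.IsFinitePresentation (R := ModSite.ringSh O_D) F] :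
    SheafOfModules.IsFinitePresentation (R := ModSite.ringSh O_C) (f.pull.obj F) := by
  obtain ⟨q, hq⟩ := SheafOfModules.IsFinitePresentation.exists_quasicoherentData (R := ModSite.ringSh O_D) F
  have h : (pullQCD f q).IsFinitePresentation := { isFinite_presentation := fun i =>
    { isFiniteType_generators := { finite := (hq.isFinite_presentation i).isFiniteType_generators.finite }
      isFiniteType_relations := { finite := (hq.isFinite_presentation i).isFiniteType_relations.finite } } }
  exact SheafOfModules.IsFinitePresentation.mk (R := ModSite.ringSh O_C) ⟨pullQCD f q, h⟩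

theorem isLocallyFree_pull (F : ModSite.Mod O_D)
    [SheafOfModules.IsLocallyFree (R := ModSite.ringSh O_D) F] :
    SheafOfModules.IsLocallyFree (R := ModSite.ringSh O_C) (f.pull.obj F) := by
  obtain ⟨q, hq⟩ := SheafOfModules.IsLocallyFree.exists_isLocallyFreeData (R := ModSite.ringSh O_D) (M := F)
  suffices h : (pullLGD f q).IsLocallyFreeData from
    SheafOfModules.IsLocallyFree.mk (R := ModSite.ringSh O_C) ⟨pullLGD f q, h⟩
  refine { isIso := fun i => ?_ }
  have := hq.isIso i
  show IsIso (((q.generators i).map (pullU' f (q.X i)) (pullUUnitIso f _)).ofEpi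
    (pullRestrIso f (U := q.X i) F).hom).π
  rw [SheafOfModules.GeneratingSections.ofEpi_π, SheafOfModules.GeneratingSections.map_π_eq]
  have h1 : IsIso ((SheafOfModules.mapFreeIso (pullU' f (q.X i)) (q.generators i).I (pullUUnitIso f (q.X i))).hom ≫
      (pullU' f (q.X i)).map (q.generators i).π) := inferInstance
  exact @IsIso.comp_isIso _ _ _ _ _ _ _ h1 (pullRestrIso f (U := q.X i) F).isIso_hom

/-- The inverse image of a strictly perfect complex is strictly perfect. -/
theorem isStrictlyPerfectMod_pull (E : CochainComplex (ModSite.Mod O_D) ℤ)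
    (hE : DCoh.IsStrictlyPerfectMod (ModSite.ringSh O_D) E) :
    DCoh.IsStrictlyPerfectMod (ModSite.ringSh O_C) ((f.pull.mapHomologicalComplex (ComplexShape.up ℤ)).obj E) := by
  have : f.pull.Additive := f.adj.left_adjoint_additive
  have : PreservesColimitsOfSize.{u, u} f.pull := f.adj.leftAdjoint_preservesColimits
  obtain ⟨⟨a, b, hab⟩, hs⟩ := hE
  refine ⟨⟨a, b, fun i hi => f.pull.map_isZero (hab i hi)⟩, fun i => ?_⟩
  obtain ⟨n, j, r, hjr⟩ := hs i
  let e : SheafOfModules.free (R := ModSite.ringSh O_C) (ULift.{u} (Fin n)) ≅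
      f.pull.obj (SheafOfModules.free (R := ModSite.ringSh O_D) (ULift.{u} (Fin n))) :=
    SheafOfModules.mapFreeIso f.pull (ULift.{u} (Fin n)) (pullUnitIso f).symm
  refine ⟨n, f.pull.map j ≫ e.inv, e.hom ≫ f.pull.map r, ?_⟩
  rw [Category.assoc, e.inv_hom_id_assoc]
  exact (f.pull.map_comp j r).symm.trans ((congrArg f.pull.map hjr).trans (f.pull.map_id _))

end Groth.Agent.Der55
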