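import Groth.Agent.Der55.RMorGlue
import Groth.Agent.ModPull.Free
import Groth.Agent.ModTensor.ExtZero
import Groth.Agent.SiteBase.ModGroth
import Mathlib.CategoryTheory.Sites.EpiMono

/-!
# Restriction to a slice commutes with sheafification
-/

set_option linter.style.haveILetI false

universe u

open CategoryTheory CategoryTheory.Limits Opposite

namespace Groth.Agent.Der55

open ModTensor ModPull

variable {C : Type u} [SmallCategory C] {J : GrothendieckTopology C} {O : Sheaf J CommRingCat.{u}} (W : C)

/-- A property of the underlying maps holds locally on a slice. -/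
lemma locally_over {Z : Over W} {P : ∀ ⦃T : C⦄, (T ⟶ Z.left) → Prop} (h : Locally J Z.left P) :
    Locally (J.over W) Z fun _ t => P t.left := by
  obtain ⟨S, hS, hP⟩ := h
  refine ⟨(Sieve.overEquiv Z).symm S, ?_, fun T t ht => hP _ ht⟩
  rw [GrothendieckTopology.mem_over_iff, OrderIso.apply_symm_apply]
  exact hS

/-- The restriction of a presheaf of modules to a slice. -/
noncomputable abbrev rP (P : P₀ O) : P₀ (O.over W) := (resP O.obj W).obj P

/-- The unit of sheafification on a slice. -/
noncomputable abbrev shuW (P : P₀ O) (Z : Over W) (p : P.obj (op Z.left)) :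
    ((fg (O.over W)).obj ((sh (O.over W)).obj (rP W P))).obj (op Z) :=
  shu (O := O.over W) (rP W P) (X := op Z) p

/-- The comparison of restriction and sheafification. -/
noncomputable def shRestr (P : P₀ O) :
    (sh (O.over W)).obj (rP W P) ⟶ (ModSite.restr O W).obj ((sh O).obj P) :=
  ((shAdj (O.over W)).homEquiv _ _).symm ((resP O.obj W).map ((shAdj O).unit.app P))

lemma shRestr_shu (P : P₀ O) (Z : Over W) (p : P.obj (op Z.left)) :
    ((fg (O.over W)).map (shRestr W P)).app (op Z) (shuW W P Z p) = shu P (X := op Z.left) p := by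
  refine (shu_desc _ _).trans ?_
  rw [shRestr, Equiv.apply_symm_apply]
  rfl

theorem epi_shRestr (P : P₀ O) : Epi (shRestr W P) := by
  let g := (SheafOfModules.toSheaf (ModSite.ringSh (O.over W))).map (shRestr W P)
  suffices h : Epi g from (SheafOfModules.toSheaf (ModSite.ringSh (O.over W))).epi_of_epi_map h
  have hloc : Sheaf.IsLocallySurjective g := ⟨fun {Z} s => by
    refine mem_of_locally ((locally_over W (locally_exists_shu P (W := Z.left) s)).mono ?_)
    rintro T t ⟨p, hp⟩
    exact ⟨shuW W P T p, (shRestr_shu W P T p).trans hp⟩⟩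
  exact (Sheaf.isLocallySurjective_iff_epi' _ g).1 hloc

lemma shuW_eq_zero (P : P₀ O) (Z : Over W) (p : P.obj (op Z.left)) (h : shu P (X := op Z.left) p = 0) :
    shuW W P Z p = 0 := by
  refine eq_of_locally' _ ((locally_over W (locally_eq_of_shu_eq P (W := Z.left) p 0
    (h.trans (shu_zero P).symm))).mono fun T t ht => ?_)
  refine (rs_shu (rP W P) t.op p).trans ?_
  refine (congrArg (shu (rP W P) (X := op T)) (show rs (rP W P) t.op p = 0 from
    ht.trans (map_zero (P.map t.left.op).hom))).trans ?_
  exact (shu_zero _).trans (map_zero (((fg (O.over W)).obj ((sh (O.over W)).obj (rP W P))).map t.op).hom).symm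

theorem mono_shRestr (P : P₀ O) : Mono (shRestr W P) := by
  refine Preadditive.mono_of_cancel_zero _ fun {G} z hz => ?_
  refine (fg (O.over W)).map_injective (PresheafOfModules.hom_ext fun X => ModuleCat.hom_ext
    (LinearMap.ext fun x => ?_))
  let H := (fg (O.over W)).obj ((sh (O.over W)).obj (rP W P))
  let H' := (fg (O.over W)).obj ((ModSite.restr O W).obj ((sh O).obj P))
  let y : H.obj (op X.unop) := ((fg (O.over W)).map z).app X x
  have hy : ((fg (O.over W)).map (shRestr W P)).app (op X.unop) y = 0 :=
    congrArg (fun k => ((fg (O.over W)).map k).app X x) hz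
  show y = 0
  refine eq_of_locally' _ ((locally_exists_shu (rP W P) (W := X.unop) y).mono ?_)
  rintro T t ⟨p, hp⟩
  refine hp.symm.trans (Eq.trans ?_ (map_zero (H.map t.op).hom).symm)
  refine shuW_eq_zero W P T p ((shRestr_shu W P T p).symm.trans ?_)
  refine (congrArg (((fg (O.over W)).map (shRestr W P)).app (op T)) hp).trans ?_
  refine (app_rs ((fg (O.over W)).map (shRestr W P)) t.op y).trans ?_
  exact (congrArg (rs H' t.op) hy).trans (map_zero (H'.map t.op).hom)

instance isIso_shRestr (P : P₀ O) : IsIso (shRestr W P) :=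
  have := mono_shRestr W P
  have := epi_shRestr W P
  isIso_of_mono_of_epi _

/-- Maps out of a restricted sheafification, from presheaves. -/
noncomputable def descRestr {P : P₀ O} {N : ModSite.Mod (O.over W)}
    (φ : rP W P ⟶ (fg (O.over W)).obj N) : (ModSite.restr O W).obj ((sh O).obj P) ⟶ N :=
  inv (shRestr W P) ≫ ((shAdj (O.over W)).homEquiv _ _).symm φ

lemma descRestr_shu {P : P₀ O} {N : ModSite.Mod (O.over W)}
    (φ : rP W P ⟶ (fg (O.over W)).obj N) (Z : Over W) (p : P.obj (op Z.left)) :
    ((fg (O.over W)).map (descRestr W φ)).app (op Z) (shu P (X := op Z.left) p) = φ.app (op Z) p := by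
  refine (congrArg (((fg (O.over W)).map (descRestr W φ)).app (op Z)) (shRestr_shu W P Z p).symm).trans ?_
  show ((fg (O.over W)).map (shRestr W P ≫ descRestr W φ)).app (op Z) (shuW W P Z p) = _
  rw [descRestr, IsIso.hom_inv_id_assoc]
  refine (shu_desc _ _).trans ?_
  rw [Equiv.apply_symm_apply]

/-- Maps out of a restricted sheafification agree if they agree on the presheaf. -/
lemma restr_sh_hom_ext {P : P₀ O} {N : ModSite.Mod (O.over W)}
    {a b : (ModSite.restr O W).obj ((sh O).obj P) ⟶ N}
    (h : ∀ (Z : Over W) (p : P.obj (op Z.left)),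
      ((fg (O.over W)).map a).app (op Z) (shu P (X := op Z.left) p) =
        ((fg (O.over W)).map b).app (op Z) (shu P (X := op Z.left) p)) :
    a = b := by
  refine (cancel_epi (shRestr W P)).1 (((shAdj (O.over W)).homEquiv _ _).injective ?_)
  refine PresheafOfModules.hom_ext fun X => ModuleCat.hom_ext (LinearMap.ext fun p => ?_)
  refine (shu_desc _ _).symm.trans (Eq.trans ?_ (shu_desc _ _))
  refine (congrArg (((fg (O.over W)).map a).app (op X.unop)) (shRestr_shu W P X.unop p)).trans
    ((h X.unop p).trans ?_)
  exact (congrArg (((fg (O.over W)).map b).app (op X.unop)) (shRestr_shu W P X.unop p)).symm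

/-- Maps out of a restricted free module agree if they agree on the basis. -/
lemma restr_free_hom_ext {ι : Type u} {V : ι → C} {N : ModSite.Mod (O.over W)}
    {a b : (ModSite.restr O W).obj ((sh O).obj (sigFree O V)) ⟶ N}
    (h : ∀ (Z : Over W) (i : ι) (c : Z.left ⟶ V i),
      ((fg (O.over W)).map a).app (op Z) (shu (sigFree O V) (X := op Z.left) (bs V i c)) =
        ((fg (O.over W)).map b).app (op Z) (shu (sigFree O V) (X := op Z.left) (bs V i c))) : a = b := by
  refine restr_sh_hom_ext W fun Z p => ?_
  induction p using sigFree_induction with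
  | zero =>
    refine (congrArg (((fg (O.over W)).map a).app (op Z)) (shu_zero (sigFree O V))).trans ?_
    refine Eq.trans ?_ (congrArg (((fg (O.over W)).map b).app (op Z)) (shu_zero (sigFree O V))).symm
    exact (map_zero (((fg (O.over W)).map a).app (op Z)).hom).trans
      (map_zero (((fg (O.over W)).map b).app (op Z)).hom).symm
  | add x y hx hy =>
    refine (congrArg (((fg (O.over W)).map a).app (op Z)) (shu_add (sigFree O V) x y)).trans ?_
    refine Eq.trans ?_ (congrArg (((fg (O.over W)).map b).app (op Z)) (shu_add (sigFree O V) x y)).symm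
    exact (map_add (((fg (O.over W)).map a).app (op Z)).hom _ _).trans
      ((congrArg₂ (· + ·) hx hy).trans (map_add (((fg (O.over W)).map b).app (op Z)).hom _ _).symm)
  | smul r i c =>
    refine (congrArg (((fg (O.over W)).map a).app (op Z)) (shu_smul (sigFree O V) r _)).trans ?_
    refine Eq.trans ?_ (congrArg (((fg (O.over W)).map b).app (op Z)) (shu_smul (sigFree O V) r _)).symm
    let r' : (O.over W).obj.obj (op Z) := r
    exact (map_smul (((fg (O.over W)).map a).app (op Z)).hom r' _).trans
      ((congrArg (r' • ·) (h Z i c)).trans (map_smul (((fg (O.over W)).map b).app (op Z)).hom r' _).symm)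

end Groth.Agent.Der55
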