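import Groth.Agent.Der55.TermSplit
import Groth.Agent.TriCat.Resolve
import Groth.Agent.TriCat.ResolveOp
import Groth.Agent.TriCat.KInjCriterion
import Mathlib.CategoryTheory.Limits.Shapes.Pullback.IsPullback.Kernels
import Mathlib.Algebra.Homology.HomotopyCategory.Acyclic
import Mathlib.Algebra.Homology.HomologicalComplexAbelian

/-! The induction step for special systems of resolutions. -/

universe v u

open CategoryTheory Limits

namespace Groth.Agent.Der55

open CochainComplex HomologicalComplex HomComplex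

variable {A : Type u} [Category.{v} A] [Abelian A]

lemma acyclic_mappingCone_of_quasiIso {K L : CochainComplex A ℤ} (g : K ⟶ L) [QuasiIso g] :
    (mappingCone g).Acyclic := by
  have h : (HomotopyCategory.quasiIso A (ComplexShape.up ℤ))
      ((HomotopyCategory.quotient A (ComplexShape.up ℤ)).map g) :=
    (HomotopyCategory.quotient_map_mem_quasiIso_iff g).2 ((mem_quasiIso_iff g).2 inferInstance)
  rw [HomotopyCategory.quasiIso_eq_trW_subcategoryAcyclic] at h
  exact (HomotopyCategory.quotient_obj_mem_subcategoryAcyclic_iff_acyclic _).1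
    (((HomotopyCategory.subcategoryAcyclic A).trW_iff_of_distinguished _
      (HomotopyCategory.mappingCone_triangleh_distinguished g)).1 h)

lemma acyclic_mappingCocone_of_quasiIso {K L : CochainComplex A ℤ} (g : K ⟶ L) [QuasiIso g] :
    (mappingCocone g).Acyclic := by
  refine (HomotopyCategory.quotient_obj_mem_subcategoryAcyclic_iff_acyclic _).1 ?_
  exact (HomotopyCategory.subcategoryAcyclic A).prop_of_iso
    ((((HomotopyCategory.quotient A (ComplexShape.up ℤ)).commShiftIso (-1 : ℤ)).app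
      (mappingCone g)).symm)
    ((HomotopyCategory.subcategoryAcyclic A).le_shift (-1 : ℤ) _
      ((HomotopyCategory.quotient_obj_mem_subcategoryAcyclic_iff_acyclic _).2
        (acyclic_mappingCone_of_quasiIso g)))

lemma quasiIso_g_of_acyclic {S : ShortComplex (CochainComplex A ℤ)} (hS : S.ShortExact)
    (h : S.X₁.Acyclic) : QuasiIso S.g := by
  refine ⟨fun i => ?_⟩
  rw [quasiIsoAt_iff_isIso_homologyMap]
  have z : ∀ j, IsZero (S.X₁.homology j) := fun j =>
    (HomologicalComplex.exactAt_iff_isZero_homology _ _).1 (h j)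
  have : Mono (homologyMap S.g i) := (hS.homology_exact₂ i).mono_g ((z _).eq_of_src _ _)
  have : Epi (homologyMap S.g i) :=
    (hS.homology_exact₃ i (i + 1) (by simp)).epi_f ((z _).eq_of_tgt _ _)
  exact isIso_of_mono_of_epi _

lemma cocone_hom_ext {K L : CochainComplex A ℤ} (φ : K ⟶ L) {n : ℤ} {Z : A}
    {x y : Z ⟶ (mappingCocone φ).X n}
    (h₁ : x ≫ (mappingCocone.fst φ).f n = y ≫ (mappingCocone.fst φ).f n)
    (h₂ : x ≫ (mappingCocone.snd φ).v n (n + -1) rfl =
      y ≫ (mappingCocone.snd φ).v n (n + -1) rfl) : x = y := by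
  rw [← Category.comp_id x, ← Category.comp_id y, ← mappingCocone.id_X φ n (n + -1) rfl]
  simp only [Preadditive.comp_add, reassoc_of% h₁, reassoc_of% h₂]

lemma cocone_δ_snd {K L : CochainComplex A ℤ} (φ : K ⟶ L) :
    δ (-1) 0 (mappingCocone.snd φ) + Cochain.ofHom (mappingCocone.fst φ ≫ φ) = 0 := by
  have h : mappingCocone.liftCochain φ (Cochain.ofHom (mappingCocone.fst φ))
      (mappingCocone.snd φ) (by omega) = Cochain.ofHom (𝟙 (mappingCocone φ)) := by
    ext p
    exact cocone_hom_ext φ (by simp) (by simp)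
  have h2 := mappingCocone.δ_liftCochain φ (Cochain.ofHom (mappingCocone.fst φ))
    (mappingCocone.snd φ) (by omega) 1 (by omega)
  rw [h, δ_ofHom, δ_ofHom, Cochain.zero_comp, zero_sub, zero_eq_neg, ← Cochain.ofHom_comp] at h2
  ext p
  have h3 := Cochain.congr_v h2 p (p + 1) rfl =≫ (mappingCocone.snd φ).v (p + 1) p (by omega)
  rw [Cochain.comp_v _ _ _ p p (p + 1) (add_zero p) rfl, Category.assoc,
    mappingCocone.inr_v_snd_v, Category.comp_id] at h3
  simpa using h3

variable (I : ObjectProperty A) [I.IsClosedUnderIsomorphisms]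

structure RightStep {T' Q : CochainComplex A ℤ} (f : T' ⟶ Q) where
  obj : CochainComplex A ℤ
  π : T' ⟶ obj
  p : obj ⟶ Q
  fac : π ≫ p = f
  qis : QuasiIso π
  mono : ∀ i, Mono (π.f i)
  bdd : ∃ a : ℤ, obj.IsStrictlyGE a
  mem : ∀ i, I (obj.X i)
  split : ∀ i, (∃ s : Q.X i ⟶ obj.X i, s ≫ p.f i = 𝟙 _) ∧ I (kernel (p.f i))

theorem exists_rightStep (hI0 : ∃ Z : A, IsZero Z ∧ I Z)
    (hIprod : ∀ X Y : A, I X → I Y → I (X ⊞ Y))
    (hI : ∀ X : A, ∃ (Y : A) (ι : X ⟶ Y), I Y ∧ Mono ι)
    {T' Q : CochainComplex A ℤ} (f : T' ⟶ Q) (a b : ℤ) [T'.IsStrictlyGE a] [Q.IsStrictlyGE b]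
    (hQ : ∀ i, I (Q.X i)) : Nonempty (RightStep I f) := by
  obtain ⟨J, e, hJa, hJ, he, hqe⟩ := TriCat.exists_quasiIso_resolution I hI0 hI T' a
  have : Mono e := HomologicalComplex.mono_of_mono_f e he
  have sq := IsPushout.of_hasPushout e (-f)
  have hmr : Mono (pushout.inr e (-f)) := inferInstance
  have hqr : QuasiIso (pushout.inr e (-f)) := by
    refine (TriCat.quasiIso_iff_acyclic_cokernel _).2 fun i => ?_
    have := isIso_cokernel_map_of_isPushout sq
    exact (((TriCat.quasiIso_iff_acyclic_cokernel e).1 hqe) i).of_iso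
      (asIso (cokernel.map _ _ _ _ sq.w))
  have : (pushout e (-f)).IsStrictlyGE (min a b) := by
    rw [CochainComplex.isStrictlyGE_iff]
    intro i hi
    have he' : Epi (biprod.desc (pushout.inl e (-f)) (pushout.inr e (-f))) :=
      ⟨fun u v huv => pushout.hom_ext (by simpa using biprod.inl ≫= huv)
        (by simpa using biprod.inr ≫= huv)⟩
    refine IsZero.of_epi ((biprod.desc (pushout.inl e (-f)) (pushout.inr e (-f))).f i) ?_
    exact IsZero.of_iso ((biprod_isZero_iff _ _).2
      ⟨J.isZero_of_isStrictlyGE a i (by omega), Q.isZero_of_isStrictlyGE b i (by omega)⟩)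
      (HomologicalComplex.biprodXIso J Q i)
  obtain ⟨W, w, hWc, hW, hw, hqw⟩ :=
    TriCat.exists_quasiIso_resolution I hI0 hI (pushout e (-f)) (min a b)
  let g : Q ⟶ W := pushout.inr e (-f) ≫ w
  have hg : QuasiIso g := inferInstanceAs (QuasiIso (_ ≫ _))
  let φ : J ⊞ Q ⟶ W := biprod.desc (pushout.inl e (-f) ≫ w) g
  have hφ : biprod.lift e f ≫ φ = 0 := by
    simp [φ, g, biprod.lift_desc, reassoc_of% (pushout.condition (f := e) (g := -f))]
  let π : T' ⟶ mappingCocone φ := mappingCocone.lift φ (biprod.lift e f) 0 (by simp [hφ])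
  let p : mappingCocone φ ⟶ Q := mappingCocone.fst φ ≫ biprod.snd
  let q : mappingCocone φ ⟶ J := mappingCocone.fst φ ≫ biprod.fst
  let k : mappingCocone g ⟶ mappingCocone φ :=
    mappingCocone.lift φ (mappingCocone.fst g ≫ biprod.inr) (mappingCocone.snd g)
      (by simpa [φ] using cocone_δ_snd g)
  have hkq : k ≫ q = 0 := by simp [k, q]
  let S : ShortComplex (CochainComplex A ℤ) := ShortComplex.mk k q hkq
  have hS : S.ShortExact := HomologicalComplex.shortExact_of_degreewise_shortExact S fun n =>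
    (show (ShortComplex.mk (k.f n) (q.f n)
        (by rw [← HomologicalComplex.comp_f, hkq]; rfl)).Splitting from
    { r := (mappingCocone.fst φ).f n ≫ (biprod.snd : J ⊞ Q ⟶ Q).f n ≫
          (mappingCocone.inl g).v n n (add_zero n) +
        (mappingCocone.snd φ).v n (n + -1) rfl ≫ (mappingCocone.inr g).1.v (n + -1) n (by omega)
      s := (biprod.inl : J ⟶ J ⊞ Q).f n ≫ (mappingCocone.inl φ).v n n (add_zero n)
      f_r := by
        dsimp [k]
        refine cocone_hom_ext g ?_ ?_ <;> simp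
      s_g := by dsimp [q]; simp
      id := by
        dsimp [k, q]
        refine cocone_hom_ext φ ?_ ?_
        · simp
          rw [add_comm, ← Preadditive.comp_add, biprod_f_total, Category.comp_id]
        · simp }).shortExact
  have hq : QuasiIso q := quasiIso_g_of_acyclic hS (acyclic_mappingCocone_of_quasiIso g)
  have hπq : π ≫ q = e := by simp [π, q]
  have hπ : QuasiIso π := by
    have : QuasiIso (π ≫ q) := by rw [hπq]; exact hqe
    exact quasiIso_of_comp_right π q
  have hmono : ∀ i, Mono (π.f i) := fun i => by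
    have : Mono (π.f i ≫ q.f i) := by rw [← HomologicalComplex.comp_f, hπq]; exact he i
    exact mono_of_mono (π.f i) (q.f i)
  have spl : ∀ i, ∃ (j : J.X i ⊞ W.X (i + -1) ⟶ (mappingCocone φ).X i) (w : j ≫ p.f i = 0),
      Nonempty (ShortComplex.mk j (p.f i) w).Splitting := fun i => by
    refine ⟨biprod.desc ((biprod.inl : J ⟶ J ⊞ Q).f i ≫ (mappingCocone.inl φ).v i i (add_zero i))
      ((mappingCocone.inr φ).1.v (i + -1) i (by omega)), by ext <;> simp [p],
      ⟨{ r := biprod.lift (q.f i) ((mappingCocone.snd φ).v i (i + -1) rfl)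
         s := (biprod.inr : Q ⟶ J ⊞ Q).f i ≫ (mappingCocone.inl φ).v i i (add_zero i)
         f_r := by ext <;> simp [q]
         s_g := by simp [p]
         id := ?_ }⟩⟩
    refine cocone_hom_ext φ ?_ ?_
    · simp [p, q, biprod.lift_desc]
      rw [← Preadditive.comp_add, biprod_f_total, Category.comp_id]
    · simp [p, q, biprod.lift_desc]
  choose j hj hspl using spl
  have e' : ∀ i, (mappingCocone φ).X i ≅ (J.X i ⊞ W.X (i + -1)) ⊞ Q.X i := fun i =>
    (hspl i).some.isoBinaryBiproduct
  refine ⟨⟨mappingCocone φ, π, p, by simp [π, p], hπ, hmono, ⟨min a b, ?_⟩, ?_, ?_⟩⟩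
  · refine isStrictlyGE_of_split _ _ e' _ (fun n hn => ?_) (fun n hn => ?_)
    · exact (biprod_isZero_iff _ _).2 ⟨J.isZero_of_isStrictlyGE a n (by omega),
        W.isZero_of_isStrictlyGE (min a b) (n + -1) (by omega)⟩
    · exact Q.isZero_of_isStrictlyGE b n (by omega)
  · exact fun i => I.prop_of_iso (e' i).symm (hIprod _ _ (hIprod _ _ (hJ _) (hW _)) (hQ i))
  · exact fun i => ⟨⟨_, (hspl i).some.s_g⟩,
      I.prop_of_iso ((hspl i).some.fIsKernel.conePointUniqueUpToIso (limit.isLimit _))
        (hIprod _ _ (hJ _) (hW _))⟩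

variable (P : ObjectProperty A) [P.IsClosedUnderIsomorphisms]

structure LeftStep {Q T' : CochainComplex A ℤ} (f : Q ⟶ T') where
  obj : CochainComplex A ℤ
  π : obj ⟶ T'
  ι : Q ⟶ obj
  fac : ι ≫ π = f
  qis : QuasiIso π
  epi : ∀ i, Epi (π.f i)
  bdd : ∃ a : ℤ, obj.IsStrictlyLE a
  mem : ∀ i, P (obj.X i)
  split : ∀ i, (∃ r : obj.X i ⟶ Q.X i, ι.f i ≫ r = 𝟙 _) ∧ P (cokernel (ι.f i))

theorem exists_leftStep (hP0 : ∃ Z : A, IsZero Z ∧ P Z)
    (hPsum : ∀ X Y : A, P X → P Y → P (X ⊞ Y))
    (hP : ∀ X : A, ∃ (Y : A) (π : Y ⟶ X), P Y ∧ Epi π)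
    {Q T' : CochainComplex A ℤ} (f : Q ⟶ T') (a b : ℤ) [T'.IsStrictlyLE a] [Q.IsStrictlyLE b]
    (hQ : ∀ i, P (Q.X i)) : Nonempty (LeftStep P f) := by
  obtain ⟨J, e, hJa, hJ, he, hqe⟩ := TriCat.exists_quasiIso_left_resolution P hP0 hP T' a
  have : Epi e := HomologicalComplex.epi_of_epi_f e he
  have sq := IsPullback.of_hasPullback e (-f)
  have hqr : QuasiIso (pullback.snd e (-f)) := by
    have hk : (kernel e).Acyclic :=
      ({ exact := ShortComplex.exact_kernel e } :
        (ShortComplex.mk _ _ (kernel.condition e)).ShortExact).acyclic_X₁ hqe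
    have := isIso_kernel_map_of_isPullback sq.flip
    exact quasiIso_g_of_acyclic (S := ShortComplex.mk _ _ (kernel.condition (pullback.snd e (-f))))
      { exact := ShortComplex.exact_kernel _ }
      (fun i => (hk i).of_iso (asIso (kernel.map _ _ _ _ sq.flip.w)).symm)
  have : (pullback e (-f)).IsStrictlyLE (max a b) := by
    rw [CochainComplex.isStrictlyLE_iff]
    intro i hi
    have he' : Mono (biprod.lift (pullback.fst e (-f)) (pullback.snd e (-f))) :=
      ⟨fun u v huv => pullback.hom_ext (by simpa using huv =≫ biprod.fst)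
        (by simpa using huv =≫ biprod.snd)⟩
    refine IsZero.of_mono ((biprod.lift (pullback.fst e (-f)) (pullback.snd e (-f))).f i) ?_
    exact IsZero.of_iso ((biprod_isZero_iff _ _).2
      ⟨J.isZero_of_isStrictlyLE a i (by omega), Q.isZero_of_isStrictlyLE b i (by omega)⟩)
      (HomologicalComplex.biprodXIso J Q i)
  obtain ⟨W, w, hWc, hW, hw, hqw⟩ :=
    TriCat.exists_quasiIso_left_resolution P hP0 hP (pullback e (-f)) (max a b)
  let g : W ⟶ Q := w ≫ pullback.snd e (-f)
  have hg : QuasiIso g := inferInstanceAs (QuasiIso (_ ≫ _))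
  let φ : W ⟶ J ⊞ Q := biprod.lift (w ≫ pullback.fst e (-f)) g
  have hφ : φ ≫ biprod.desc e f = 0 := by
    simp [φ, g, biprod.lift_desc, pullback.condition (f := e) (g := -f)]
  let π : mappingCone φ ⟶ T' := mappingCone.desc φ 0 (biprod.desc e f) (by simp [hφ])
  let ι : Q ⟶ mappingCone φ := biprod.inr ≫ mappingCone.inr φ
  let q : J ⟶ mappingCone φ := biprod.inl ≫ mappingCone.inr φ
  let k : mappingCone φ ⟶ mappingCone g :=
    mappingCone.map φ g (𝟙 W) biprod.snd (by simp [φ])
  have hqk : q ≫ k = 0 := by simp [q, k, mappingCone.map]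
  let S : ShortComplex (CochainComplex A ℤ) := ShortComplex.mk q k hqk
  have hS : S.ShortExact := HomologicalComplex.shortExact_of_degreewise_shortExact S fun n =>
    (show (ShortComplex.mk (q.f n) (k.f n)
        (by rw [← HomologicalComplex.comp_f, hqk]; rfl)).Splitting from
    { r := (mappingCone.snd φ).v n n (add_zero n) ≫ (biprod.fst : J ⊞ Q ⟶ J).f n
      s := (mappingCone.fst g).1.v n (n + 1) rfl ≫ (mappingCone.inl φ).v (n + 1) n (by omega) +
        (mappingCone.snd g).v n n (add_zero n) ≫ (biprod.inr : Q ⟶ J ⊞ Q).f n ≫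
          (mappingCone.inr φ).f n
      f_r := by dsimp [q]; simp
      s_g := by
        dsimp [k, mappingCone.map]
        simp [mappingCone.ext_from_iff g (n + 1) n rfl]
      id := by
        dsimp [k, q, mappingCone.map]
        simp [mappingCone.ext_from_iff φ (n + 1) n rfl]
        rw [← Category.assoc, ← Category.assoc, ← Preadditive.add_comp,
          biprod_f_total, Category.id_comp] }).shortExact
  have hq : QuasiIso q := TriCat.quasiIso_f_of_acyclic hS (acyclic_mappingCone_of_quasiIso g)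
  have hπq : q ≫ π = e := by simp [π, q]
  have hπ : QuasiIso π := by
    have : QuasiIso (q ≫ π) := by rw [hπq]; exact hqe
    exact quasiIso_of_comp_left q π
  have hepi : ∀ i, Epi (π.f i) := fun i => by
    have : Epi (q.f i ≫ π.f i) := by rw [← HomologicalComplex.comp_f, hπq]; exact he i
    exact epi_of_epi (q.f i) (π.f i)
  have spl : ∀ i, ∃ (j : (mappingCone φ).X i ⟶ J.X i ⊞ W.X (i + 1)) (w : ι.f i ≫ j = 0),
      Nonempty (ShortComplex.mk (ι.f i) j w).Splitting := fun i => by
    refine ⟨biprod.lift ((mappingCone.snd φ).v i i (add_zero i) ≫ (biprod.fst : J ⊞ Q ⟶ J).f i)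
      ((mappingCone.fst φ).1.v i (i + 1) rfl), by ext <;> simp [ι],
      ⟨{ r := (mappingCone.snd φ).v i i (add_zero i) ≫ (biprod.snd : J ⊞ Q ⟶ Q).f i
         s := biprod.desc (q.f i) ((mappingCone.inl φ).v (i + 1) i (by omega))
         f_r := by simp [ι]
         s_g := by ext <;> simp [q]
         id := ?_ }⟩⟩
    simp [ι, q, biprod.lift_desc, mappingCone.ext_from_iff φ (i + 1) i rfl]
    rw [add_comm, ← Category.assoc, ← Category.assoc, ← Preadditive.add_comp,
      biprod_f_total, Category.id_comp]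
  choose j hj hspl using spl
  have e' : ∀ i, (mappingCone φ).X i ≅ Q.X i ⊞ (J.X i ⊞ W.X (i + 1)) := fun i =>
    (hspl i).some.isoBinaryBiproduct
  refine ⟨⟨mappingCone φ, π, ι, by simp [π, ι], hπ, hepi, ⟨max a b, ?_⟩, ?_, ?_⟩⟩
  · refine isStrictlyLE_of_split _ _ e' _ (fun n hn => ?_) (fun n hn => ?_)
    · exact Q.isZero_of_isStrictlyLE b n (by omega)
    · exact (biprod_isZero_iff _ _).2 ⟨J.isZero_of_isStrictlyLE a n (by omega),
        W.isZero_of_isStrictlyLE (max a b) (n + 1) (by omega)⟩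
  · exact fun i => P.prop_of_iso (e' i).symm (hPsum _ _ (hQ i) (hPsum _ _ (hJ _) (hW _)))
  · exact fun i => ⟨⟨_, (hspl i).some.f_r⟩,
      P.prop_of_iso ((hspl i).some.gIsCokernel.coconePointUniqueUpToIso (colimit.isColimit _))
        (hPsum _ _ (hJ _) (hW _))⟩

end Groth.Agent.Der55
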