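import Groth.Agent.TriCat.Compact
import Mathlib.Algebra.Homology.Single
import Mathlib.CategoryTheory.Limits.Shapes.BinaryBiproducts
import Mathlib.CategoryTheory.Preadditive.Yoneda.Basic
import Mathlib.Algebra.Category.Grp.Colimits
import Mathlib.CategoryTheory.Limits.Preserves.Shapes.Products
import Mathlib.Algebra.Homology.HomologicalComplexLimits
import Mathlib.Algebra.Homology.ShortComplex.ShortExact

/-! Subcomplexes of a complex whose terms are direct sums, cut out by subsets of the index sets. -/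

universe v u

open CategoryTheory Limits Opposite

namespace Groth.Agent.Der55

variable {A : Type u} [Category.{v} A] [Preadditive A]

open Classical in
/-- Morphisms out of an object whose `Hom` preserves direct sums have finite support. -/
lemma finFactor_of_preservesColimit {κ : Type v} (F : κ → A) [HasCoproduct F] (X : A)
    [PreservesColimitsOfShape (Discrete κ) (preadditiveCoyoneda.obj (op X))] (g : X ⟶ ∐ F) :
    TriCat.FinFactor g := by
  let hc := isColimitCofanMkObjOfIsColimit (preadditiveCoyoneda.obj (op X)) F _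
    (coproductIsCoproduct F)
  let S : AddSubgroup (X ⟶ ∐ F) :=
    { carrier := {f | TriCat.FinFactor f}
      add_mem' := fun h h' => h.add h'
      zero_mem' := TriCat.FinFactor.zero
      neg_mem' := fun h => h.neg }
  let q : (preadditiveCoyoneda.obj (op X)).obj (∐ F) ⟶ AddCommGrpCat.of ((X ⟶ ∐ F) ⧸ S) :=
    AddCommGrpCat.ofHom (QuotientAddGroup.mk' S)
  have hq : q = 0 := Cofan.IsColimit.hom_ext hc _ _ fun k => by
    ext a
    exact (QuotientAddGroup.eq_zero_iff _).2 (TriCat.FinFactor.postcomp_ι k a)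
  exact (QuotientAddGroup.eq_zero_iff (N := S) g).1 (ConcreteCategory.congr_hom hq g)

variable [HasCoproducts.{v} A]

section

variable {J : Type v} {E : J → A} {X : A} (e : X ≅ ∐ E) (T : Set J)

/-- The sum over a subset. -/
noncomputable abbrev partSum : A := ∐ fun j : T => E j.1

variable (E) in
/-- The inclusion of the sum over a subset. -/
noncomputable def partIncl : (∐ fun j : T => E j.1) ⟶ X :=
  Sigma.desc fun j => Sigma.ι E j.1 ≫ e.inv

open Classical in
variable (E) in
/-- The projection onto the sum over a subset. -/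
noncomputable def partProj : X ⟶ ∐ fun j : T => E j.1 :=
  e.hom ≫ Sigma.desc fun j => if h : j ∈ T then Sigma.ι (fun j : T => E j.1) ⟨j, h⟩ else 0

@[reassoc]
lemma ι_partIncl (j : T) :
    Sigma.ι (fun j : T => E j.1) j ≫ partIncl E e T = Sigma.ι E j.1 ≫ e.inv := by
  simp [partIncl]

@[reassoc]
lemma ι_partProj {j : J} (h : j ∈ T) :
    (Sigma.ι E j ≫ e.inv) ≫ partProj E e T = Sigma.ι (fun j : T => E j.1) ⟨j, h⟩ := by
  simp [partProj, h]

@[reassoc]
lemma ι_partProj_of_notMem {j : J} (h : j ∉ T) :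
    (Sigma.ι E j ≫ e.inv) ≫ partProj E e T = 0 := by
  simp [partProj, h]

@[reassoc (attr := simp)]
lemma partIncl_partProj : partIncl E e T ≫ partProj E e T = 𝟙 _ := by
  ext j
  rw [ι_partIncl_assoc]
  simpa using ι_partProj e T j.2

instance : Mono (partIncl E e T) := mono_of_mono_fac (partIncl_partProj e T)

lemma partIncl_compl (x : T) :
    (Sigma.ι (fun j : T => E j.1) x ≫ partIncl E e T) ≫ partProj E e Tᶜ = 0 := by
  rw [ι_partIncl, ι_partProj_of_notMem e Tᶜ (by simp [x.2])]

@[reassoc]
lemma partIncl_partProj_compl : partIncl E e T ≫ partProj E e Tᶜ = 0 := by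
  ext x
  rw [← Category.assoc, partIncl_compl, comp_zero]

lemma part_total : partProj E e T ≫ partIncl E e T + partProj E e Tᶜ ≫ partIncl E e Tᶜ = 𝟙 X := by
  rw [← cancel_epi e.inv]
  ext j
  rw [Preadditive.comp_add, Preadditive.comp_add, Category.comp_id]
  by_cases h : j ∈ T
  · rw [ι_partProj_assoc e T h,
      ι_partProj_of_notMem_assoc e Tᶜ (by simpa using h), zero_comp, add_zero, ι_partIncl]
  · rw [ι_partProj_of_notMem_assoc e T h, ι_partProj_assoc e Tᶜ (Set.mem_compl h), zero_comp,
      zero_add, ι_partIncl]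

lemma partProj_univ : partProj E e Set.univ ≫ partIncl E e Set.univ = 𝟙 X := by
  rw [← cancel_epi e.inv]
  ext j
  rw [ι_partProj_assoc e Set.univ (Set.mem_univ j), ι_partIncl]
  simp

lemma partIncl_mono {T' : Set J} (h : T ⊆ T') :
    partIncl E e T ≫ partProj E e T' ≫ partIncl E e T' = partIncl E e T := by
  ext j
  rw [ι_partIncl_assoc, ι_partProj_assoc e T' (h j.2), ι_partIncl, ι_partIncl]

/-- A map landing in finitely many summands is stable under the projection to a set containing
them. -/
lemma exists_finset_of_finFactor {W : A} (g : W ⟶ X) (h : TriCat.FinFactor (g ≫ e.hom)) :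
    ∃ F : Finset J, ∀ T' : Set J, ↑F ⊆ T' → g ≫ partProj E e T' ≫ partIncl E e T' = g := by
  obtain ⟨F, a, ha⟩ := h
  refine ⟨F, fun T' hT' => ?_⟩
  have hg : g = ∑ i ∈ F, a i ≫ Sigma.ι E i ≫ e.inv := by
    rw [← Category.comp_id g, ← e.hom_inv_id, ← Category.assoc, ha, Preadditive.sum_comp]
    simp
  rw [hg, Preadditive.sum_comp]
  refine Finset.sum_congr rfl fun i hi => ?_
  simp only [Category.assoc, ι_partProj_assoc e T' (hT' hi), ι_partIncl]

variable (E) in
/-- The idempotent projecting onto the sum over a subset. -/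
noncomputable def pr : X ⟶ X := partProj E e T ≫ partIncl E e T

@[reassoc (attr := simp)]
lemma partIncl_pr : partIncl E e T ≫ pr E e T = partIncl E e T := by simp [pr]

lemma ι_pr [DecidablePred (· ∈ T)] (j : J) :
    (Sigma.ι E j ≫ e.inv) ≫ pr E e T = if j ∈ T then Sigma.ι E j ≫ e.inv else 0 := by
  split_ifs with h
  · simp only [pr, Category.assoc, ι_partProj_assoc e T h, ι_partIncl]
  · simp only [pr, Category.assoc, ι_partProj_of_notMem_assoc e T h, zero_comp]

lemma hom_ext_of_iso {Z : A} {f g : X ⟶ Z}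
    (h : ∀ j, (Sigma.ι E j ≫ e.inv) ≫ f = (Sigma.ι E j ≫ e.inv) ≫ g) : f = g := by
  rw [← cancel_epi e.inv]
  ext j
  simpa only [Category.assoc] using h j

lemma pr_comp (T' : Set J) : pr E e T ≫ pr E e T' = pr E e (T ∩ T') := by
  classical
  refine hom_ext_of_iso e fun j => ?_
  rw [← Category.assoc, ι_pr e T, ι_pr e (T ∩ T')]
  by_cases h : j ∈ T <;> by_cases h' : j ∈ T' <;> simp [h, h', ι_pr e T', -Category.assoc]

lemma pr_comp_of_subset {T' : Set J} (h : T ⊆ T') : pr E e T ≫ pr E e T' = pr E e T := by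
  rw [pr_comp, Set.inter_eq_left.2 h]

lemma pr_comp_of_subset' {T' : Set J} (h : T' ⊆ T) : pr E e T ≫ pr E e T' = pr E e T' := by
  rw [pr_comp, Set.inter_eq_right.2 h]

lemma pr_univ : pr E e Set.univ = 𝟙 X := partProj_univ e

lemma pr_empty : pr E e ∅ = 0 := by
  classical
  exact hom_ext_of_iso e fun j => by rw [ι_pr e]; simp

lemma pr_disjoint {T' : Set J} (h : Disjoint T T') : pr E e T ≫ pr E e T' = 0 := by
  rw [pr_comp, Set.disjoint_iff_inter_eq_empty.1 h, pr_empty]

lemma pr_add {T' : Set J} (h : Disjoint T T') : pr E e T + pr E e T' = pr E e (T ∪ T') := by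
  classical
  refine hom_ext_of_iso e fun j => ?_
  rw [Preadditive.comp_add, ι_pr e, ι_pr e, ι_pr e]
  by_cases h1 : j ∈ T
  · simp [h1, Set.disjoint_left.1 h h1]
  · by_cases h2 : j ∈ T' <;> simp [h1, h2]

lemma pr_of_finFactor {W : A} (g : W ⟶ X) (h : TriCat.FinFactor (g ≫ e.hom)) :
    ∃ F : Finset J, g ≫ pr E e ↑F = g := by
  obtain ⟨F, hF⟩ := exists_finset_of_finFactor e g h
  exact ⟨F, hF _ subset_rfl⟩

lemma partSplit_left {S : Set J} (h : S ⊆ T) :
    (partIncl E e S ≫ partProj E e T) ≫ (partIncl E e T ≫ partProj E e S) = 𝟙 _ := by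
  simp [reassoc_of% partIncl_mono e S h]

lemma partSplit_total {S S' : Set J} (h : Disjoint S S') (hu : S ∪ S' = T) :
    (partIncl E e T ≫ partProj E e S) ≫ (partIncl E e S ≫ partProj E e T) +
      (partIncl E e T ≫ partProj E e S') ≫ (partIncl E e S' ≫ partProj E e T) = 𝟙 _ := by
  have : partIncl E e T ≫ (pr E e S + pr E e S') ≫ partProj E e T = 𝟙 _ := by
    rw [pr_add e S h, hu, partIncl_pr_assoc, partIncl_partProj]
  simpa [pr, Preadditive.comp_add, Preadditive.add_comp] using this

lemma partSplit_self {S : Set J} (h : S = T) :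
    (partIncl E e T ≫ partProj E e S) ≫ (partIncl E e S ≫ partProj E e T) = 𝟙 _ := by
  subst h
  simp

end

variable {J : ℤ → Type v} {E : ∀ i, J i → A} (L : CochainComplex A ℤ)
  (e : ∀ i, L.X i ≅ ∐ E i)

/-- The differential respects the chosen subsets. -/
def Closed (T : ∀ i, Set (J i)) : Prop :=
  ∀ i k, pr (E i) (e i) (T i) ≫ L.d i k ≫ pr (E k) (e k) (T k) = pr (E i) (e i) (T i) ≫ L.d i k

variable {L e}

lemma Closed.incl {T : ∀ i, Set (J i)} (hT : Closed L e T) (i k : ℤ) :
    partIncl (E i) (e i) (T i) ≫ L.d i k ≫ partProj (E k) (e k) (T k) ≫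
      partIncl (E k) (e k) (T k) = partIncl (E i) (e i) (T i) ≫ L.d i k := by
  have := congrArg (partIncl (E i) (e i) (T i) ≫ ·) (hT i k)
  simpa only [pr, Category.assoc, partIncl_partProj_assoc] using this

/-- The subcomplex cut out by closed subsets. -/
noncomputable def subCx {T : ∀ i, Set (J i)} (hT : Closed L e T) : CochainComplex A ℤ where
  X i := ∐ fun j : T i => E i j.1
  d i k := partIncl (E i) (e i) (T i) ≫ L.d i k ≫ partProj (E k) (e k) (T k)
  shape i k h := by rw [L.shape i k h, zero_comp, comp_zero]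
  d_comp_d' i k l _ _ := by
    rw [← cancel_mono (partIncl (E l) (e l) (T l)), zero_comp]
    simp only [Category.assoc, reassoc_of% hT.incl i k, HomologicalComplex.d_comp_d_assoc, zero_comp, comp_zero]

/-- The inclusion of a subcomplex. -/
noncomputable def subι {T : ∀ i, Set (J i)} (hT : Closed L e T) : subCx hT ⟶ L where
  f i := partIncl (E i) (e i) (T i)
  comm' i k _ := by simpa [subCx] using (hT.incl i k).symm

/-- The inclusion between subcomplexes. -/
noncomputable def subMap {T T' : ∀ i, Set (J i)} (hT : Closed L e T) (hT' : Closed L e T')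
    (h : ∀ i, T i ⊆ T' i) : subCx hT ⟶ subCx hT' where
  f i := partIncl (E i) (e i) (T i) ≫ partProj (E i) (e i) (T' i)
  comm' i k _ := by
    change (partIncl (E i) (e i) (T i) ≫ partProj (E i) (e i) (T' i)) ≫
        partIncl (E i) (e i) (T' i) ≫ L.d i k ≫ partProj (E k) (e k) (T' k) =
      (partIncl (E i) (e i) (T i) ≫ L.d i k ≫ partProj (E k) (e k) (T k)) ≫
        partIncl (E k) (e k) (T k) ≫ partProj (E k) (e k) (T' k)
    simp only [Category.assoc, reassoc_of% hT.incl i k,
      reassoc_of% partIncl_mono (e i) (T i) (h i)]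

@[reassoc]
lemma subMap_subι {T T' : ∀ i, Set (J i)} (hT : Closed L e T) (hT' : Closed L e T')
    (h : ∀ i, T i ⊆ T' i) : subMap hT hT' h ≫ subι hT' = subι hT := by
  ext i
  exact (Category.assoc _ _ _).trans (partIncl_mono (e i) (T i) (h i))

end Groth.Agent.Der55
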