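import Mathlib.Algebra.Homology.Embedding.CochainComplex
import Mathlib.Algebra.Homology.HomotopyCategory.MappingCocone
import Mathlib.Algebra.Homology.HomologicalComplexBiprod
import Mathlib.Algebra.Homology.HomotopyCategory.Shift
import Mathlib.CategoryTheory.Preadditive.Biproducts

/-! Factorizations of chain maps through termwise split injections / surjections. -/

universe v u

open CategoryTheory Limits

namespace Groth.Agent.Der55

open CochainComplex HomologicalComplex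

variable {V : Type u} [Category.{v} V] [Preadditive V] [HasBinaryBiproducts V]

noncomputable def coconeIdHomotopy (K : CochainComplex V ℤ) :
    Homotopy (𝟙 (mappingCocone (𝟙 K))) 0 :=
  (Homotopy.ofEq (((CategoryTheory.shiftFunctor (CochainComplex V ℤ) (-1 : ℤ)).map_id _).symm)).trans
    (((CochainComplex.mappingCone.homotopyToZeroOfId K).shift (-1)).trans
      (Homotopy.ofEq ((CategoryTheory.shiftFunctor (CochainComplex V ℤ) (-1 : ℤ)).map_zero _ _)))

lemma biprod_f_total (K L : CochainComplex V ℤ) (n : ℤ) :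
    (biprod.fst : K ⊞ L ⟶ K).f n ≫ (biprod.inl : K ⟶ K ⊞ L).f n +
      (biprod.snd : K ⊞ L ⟶ L).f n ≫ (biprod.inr : L ⟶ K ⊞ L).f n = 𝟙 _ := by
  have h := HomologicalComplex.congr_hom (biprod.total (X := K) (Y := L)) n
  simpa using h

theorem exists_split_injective_factorization {K L : CochainComplex V ℤ} (α : K ⟶ L) :
    ∃ (L' : CochainComplex V ℤ) (α' : K ⟶ L') (π : L' ⟶ L) (s : L ⟶ L'),
      α' ≫ π = α ∧ s ≫ π = 𝟙 L ∧ Nonempty (Homotopy (π ≫ s) (𝟙 L')) ∧
      ∀ n : ℤ, Nonempty { e : L'.X n ≅ K.X n ⊞ (L.X n ⊞ K.X (n + 1)) //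
        α'.f n ≫ e.hom = biprod.inl } := by
  let M := mappingCone (𝟙 K)
  refine ⟨L ⊞ M, biprod.lift α (mappingCone.inr (𝟙 K)), biprod.fst, biprod.inl, by simp, by simp,
    ?_, ?_⟩
  · have h1 : Homotopy (biprod.snd ≫ (biprod.inr : M ⟶ L ⊞ M)) 0 :=
      (Homotopy.ofEq (by simp [M])).trans
        ((((mappingCone.homotopyToZeroOfId K).compLeft (biprod.snd : L ⊞ M ⟶ M)).compRight
          biprod.inr).trans (Homotopy.ofEq (by simp [M])))
    refine ⟨(Homotopy.trans ?_ (((Homotopy.refl (biprod.fst ≫ biprod.inl)).add h1.symm).trans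
      (Homotopy.ofEq biprod.total)))⟩
    exact Homotopy.ofEq (by simp)
  · intro n
    let k : (L ⊞ M).X n ⟶ K.X n :=
      (biprod.snd : L ⊞ M ⟶ M).f n ≫ (mappingCone.snd (𝟙 K)).v n n (add_zero n)
    let kl : (L ⊞ M).X n ⟶ K.X (n + 1) :=
      (biprod.snd : L ⊞ M ⟶ M).f n ≫ (mappingCone.fst (𝟙 K)).1.v n (n + 1) rfl
    let a := (biprod.lift α (mappingCone.inr (𝟙 K))).f n
    have a1 : a ≫ (biprod.fst : L ⊞ M ⟶ L).f n = α.f n := by
      rw [← HomologicalComplex.comp_f, biprod.lift_fst]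
    have a2 : a ≫ (biprod.snd : L ⊞ M ⟶ M).f n = (mappingCone.inr (𝟙 K)).f n := by
      rw [← HomologicalComplex.comp_f, biprod.lift_snd]
    let il : L.X n ⟶ (L ⊞ M).X n := (biprod.inl : L ⟶ L ⊞ M).f n
    let ir : K.X (n + 1) ⟶ (L ⊞ M).X n :=
      (mappingCone.inl (𝟙 K)).v (n + 1) n (by omega) ≫ (biprod.inr : M ⟶ L ⊞ M).f n
    refine ⟨⟨⟨biprod.lift k (biprod.lift ((biprod.fst : L ⊞ M ⟶ L).f n - k ≫ α.f n) kl),
      biprod.desc a (biprod.desc il ir), ?_, ?_⟩, ?_⟩⟩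
    · have e1 : a = α.f n ≫ il +
          (mappingCone.inr (𝟙 K)).f n ≫ (biprod.inr : M ⟶ L ⊞ M).f n := by
        conv_lhs => rw [← Category.comp_id a, ← biprod_f_total L M n]
        rw [Preadditive.comp_add, reassoc_of% a1, reassoc_of% a2]
      conv_rhs => rw [← biprod_f_total L M n,
        ← Category.id_comp ((biprod.inr : M ⟶ L ⊞ M).f n),
        ← mappingCone.id_X (𝟙 K) n (n + 1) rfl]
      simp only [biprod.lift_desc, e1, k, kl, il, ir, Preadditive.comp_add, Preadditive.add_comp,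
        Preadditive.sub_comp, Category.assoc]
      abel
    · ext <;> simp [k, kl, il, ir, a1, a2, reassoc_of% a1, reassoc_of% a2, M]
    · simp only [k, kl]
      ext <;> simp [a]

theorem exists_split_surjective_factorization {K L : CochainComplex V ℤ} (α : K ⟶ L) :
    ∃ (K' : CochainComplex V ℤ) (i : K ⟶ K') (α' : K' ⟶ L) (s : K' ⟶ K),
      i ≫ α' = α ∧ i ≫ s = 𝟙 K ∧ Nonempty (Homotopy (s ≫ i) (𝟙 K')) ∧
      ∀ n : ℤ, Nonempty { e : K'.X n ≅ (K.X n ⊞ L.X (n + -1)) ⊞ L.X n //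
        e.inv ≫ α'.f n = biprod.snd } := by
  let M := mappingCocone (𝟙 L)
  refine ⟨K ⊞ M, biprod.inl, biprod.desc α (mappingCocone.fst (𝟙 L)), biprod.fst, by simp, by simp,
    ?_, ?_⟩
  · have h1 : Homotopy (biprod.snd ≫ (biprod.inr : M ⟶ K ⊞ M)) 0 :=
      (Homotopy.ofEq (by simp [M])).trans
        ((((coconeIdHomotopy L).compLeft (biprod.snd : K ⊞ M ⟶ M)).compRight
          biprod.inr).trans (Homotopy.ofEq (by simp [M])))
    refine ⟨(Homotopy.trans ?_ (((Homotopy.refl (biprod.fst ≫ biprod.inl)).add h1.symm).trans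
      (Homotopy.ofEq biprod.total)))⟩
    exact Homotopy.ofEq (by simp)
  · intro n
    let a := (biprod.desc α (mappingCocone.fst (𝟙 L))).f n
    let il : K.X n ⟶ (K ⊞ M).X n := (biprod.inl : K ⟶ K ⊞ M).f n
    let ix : L.X (n + -1) ⟶ (K ⊞ M).X n :=
      (mappingCocone.inr (𝟙 L)).1.v (n + -1) n (by omega) ≫ (biprod.inr : M ⟶ K ⊞ M).f n
    let il' : L.X n ⟶ (K ⊞ M).X n :=
      (mappingCocone.inl (𝟙 L)).v n n (add_zero n) ≫ (biprod.inr : M ⟶ K ⊞ M).f n
    let p : (K ⊞ M).X n ⟶ K.X n := (biprod.fst : K ⊞ M ⟶ K).f n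
    let q : (K ⊞ M).X n ⟶ L.X (n + -1) :=
      (biprod.snd : K ⊞ M ⟶ M).f n ≫ (mappingCocone.snd (𝟙 L)).v n (n + -1) rfl
    have a1 : il ≫ a = α.f n := by
      simp only [il, a]; rw [← HomologicalComplex.comp_f, biprod.inl_desc]
    have a2 : (biprod.inr : M ⟶ K ⊞ M).f n ≫ a = (mappingCocone.fst (𝟙 L)).f n := by
      simp only [a]; rw [← HomologicalComplex.comp_f, biprod.inr_desc]
    refine ⟨⟨⟨biprod.lift (biprod.lift p q) a,
      biprod.desc (biprod.desc (il - α.f n ≫ il') ix) il', ?_, ?_⟩, ?_⟩⟩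
    · have e1 : a = p ≫ α.f n +
          (biprod.snd : K ⊞ M ⟶ M).f n ≫ (mappingCocone.fst (𝟙 L)).f n := by
        conv_lhs => rw [← Category.id_comp a, ← biprod_f_total K M n]
        rw [Preadditive.add_comp, Category.assoc, Category.assoc, a1, a2]
      conv_rhs => rw [← biprod_f_total K M n,
        ← Category.id_comp ((biprod.inr : M ⟶ K ⊞ M).f n),
        ← mappingCocone.id_X (𝟙 L) n (n + -1) rfl]
      simp only [biprod.lift_desc, e1, p, q, il, ix, il', Preadditive.comp_add, Preadditive.add_comp,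
        Preadditive.comp_sub, Category.assoc]
      abel
    · ext <;> simp [p, q, il', ix, il, a, M]
    · dsimp only [il, ix, il']
      ext <;> simp [a, M]

theorem isStrictlyGE_of_split {P : CochainComplex V ℤ} (A B : ℤ → V)
    (h : ∀ n, P.X n ≅ A n ⊞ B n) (a : ℤ)
    (hA : ∀ n, n < a → IsZero (A n)) (hB : ∀ n, n < a → IsZero (B n)) : P.IsStrictlyGE a := by
  rw [CochainComplex.isStrictlyGE_iff]
  intro i hi
  exact ((biprod_isZero_iff _ _).2 ⟨hA i hi, hB i hi⟩).of_iso (h i)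

theorem isStrictlyLE_of_split {P : CochainComplex V ℤ} (A B : ℤ → V)
    (h : ∀ n, P.X n ≅ A n ⊞ B n) (a : ℤ)
    (hA : ∀ n, a < n → IsZero (A n)) (hB : ∀ n, a < n → IsZero (B n)) : P.IsStrictlyLE a := by
  rw [CochainComplex.isStrictlyLE_iff]
  intro i hi
  exact ((biprod_isZero_iff _ _).2 ⟨hA i hi, hB i hi⟩).of_iso (h i)

end Groth.Agent.Der55
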