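import Groth.Agent.Der55.MapDerivedProducts
import Groth.Agent.SiteBase.ModKill
import Groth.Agent.SiteBase.ModGroth
import Groth.Agent.ModTensor.FreeOn
import Mathlib.CategoryTheory.Adjunction.PartialAdjoint

/-! The derived forgetful functor from modules to abelian sheaves preserves products. -/

universe t w u

open CategoryTheory Limits Opposite Abelian

namespace Groth.Agent.Der55

open SiteBase

variable {C : Type u} [SmallCategory C] {J : GrothendieckTopology C}

/-- The underlying sheaf of sets. -/
noncomputable abbrev setSh (F : Sheaf J AddCommGrpCat.{u}) : Sheaf J (Type u) :=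
  (sheafCompose J (CategoryTheory.forget AddCommGrpCat.{u})).obj F

/-- The canonical map from the free sheaf on the underlying sheaf of sets. -/
noncomputable def freeCover (F : Sheaf J AddCommGrpCat.{u}) : freeSh (setSh F) ⟶ F :=
  (freeEquiv J (setSh F).obj F).symm (𝟙 _)

instance (F : Sheaf J AddCommGrpCat.{u}) : Epi (freeCover F) := ⟨fun {G} g h w => by
  have e : ∀ t : F ⟶ G, freeEquiv J (setSh F).obj G (freeCover F ≫ t) =
      Functor.whiskerRight t.hom _ := fun t => by
    rw [freeEquiv_comp, freeCover, Equiv.apply_symm_apply]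
    exact Category.id_comp _
  have hw := (e g).symm.trans ((congrArg (freeEquiv J (setSh F).obj G) w).trans (e h))
  exact (sheafToPresheaf J AddCommGrpCat.{u}).map_injective
    (NatTrans.ext (funext fun U => ConcreteCategory.hom_ext _ _ fun x =>
      congrArg (fun t => (t.app U) x) hw))⟩

variable (O : Sheaf J CommRingCat.{u})

lemma leftAdjointObjIsDefined_freeSh (K : Sheaf J (Type u)) :
    (SheafOfModules.toSheaf.{u} (ModSite.ringSh O)).leftAdjointObjIsDefined (freeSh K) :=
  Functor.CorepresentableBy.isCorepresentable
    (X := (freeModSh (ModSite.ringSh O)).obj K)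
    { homEquiv := fun {M} => freeModEquiv K M
      homEquiv_comp := fun {M N} g f => by
        refine (freeModEquiv_eq K (f ≫ g)).trans ?_
        rw [Functor.map_comp, ← Category.assoc]
        exact congrArg (· ≫ _) (freeModEquiv_eq K f).symm }

/-- The forgetful functor to abelian sheaves has a left adjoint. -/
theorem isRightAdjoint_toSheaf : (SheafOfModules.toSheaf.{u} (ModSite.ringSh O)).IsRightAdjoint := by
  refine Functor.isRightAdjoint_of_leftAdjointObjIsDefined_eq_top ?_
  ext F
  simp only [Pi.top_apply, Prop.top_eq_true, iff_true]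
  let π := freeCover F
  let π' := freeCover (kernel π)
  have : Epi π' := inferInstanceAs (Epi (freeCover _))
  have : Epi π := inferInstanceAs (Epi (freeCover _))
  have hc : IsColimit (CokernelCofork.ofπ π (show (π' ≫ kernel.ι π) ≫ π = 0 by simp)) :=
    isCokernelEpiComp (Abelian.epiIsCokernelOfKernel _ (kernelIsKernel π)) π' rfl
  have h := Functor.leftAdjointObjIsDefined_of_isColimit
    (F := SheafOfModules.toSheaf.{u} (ModSite.ringSh O)) hc fun j => by
      cases j
      · exact leftAdjointObjIsDefined_freeSh O _
      · exact leftAdjointObjIsDefined_freeSh O _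
  exact h

lemma adapted_freeSh [HasExt.{u} (Sheaf J AddCommGrpCat.{u})] (K : Sheaf J (Type u)) :
    adapted (SheafOfModules.toSheaf.{u} (ModSite.ringSh O)) (freeSh K) := fun I _ k =>
  isTotallyAcyclic_toSheaf_injective (ModSite.ringSh O) I K k

/-- The derived forgetful functor preserves products. -/
theorem preservesLimitsOfShape_toSheafD [HasDerivedCategory.{w} (ModSite.Mod O)]
    [HasDerivedCategory.{u} (Sheaf J AddCommGrpCat.{u})]
    [(SheafOfModules.toSheaf.{u} (ModSite.ringSh O)).Additive]
    [PreservesFiniteLimits (SheafOfModules.toSheaf.{u} (ModSite.ringSh O))]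
    [PreservesFiniteColimits (SheafOfModules.toSheaf.{u} (ModSite.ringSh O))] (ι : Type u) :
    PreservesLimitsOfShape (Discrete ι)
      (SheafOfModules.toSheaf.{u} (ModSite.ringSh O)).mapDerivedCategory := by
  have := isRightAdjoint_toSheaf O
  let adj := Adjunction.ofIsRightAdjoint (SheafOfModules.toSheaf.{u} (ModSite.ringSh O))
  have : (SheafOfModules.toSheaf.{u} (ModSite.ringSh O)).leftAdjoint.Additive := adj.left_adjoint_additive
  have hK : ∀ (A : Type (u + 1)) [Category.{u} A] [Abelian A] [IsGrothendieckAbelian.{u} A]
      (K : CochainComplex A ℤ),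
      ∃ (I : CochainComplex A ℤ) (f : K ⟶ I), I.IsKInjective ∧ QuasiIso f := fun A _ _ _ K => by
    obtain ⟨I, f, hI, hf, -, -⟩ := TriCat.exists_kInjective_resolution' K
    exact ⟨I, f, hI, hf⟩
  have : HasLimitsOfShape (Discrete ι) (DerivedCategory (Sheaf J AddCommGrpCat.{u})) :=
    TriCat.hasProductsOfShape_derivedCategory (hK _)
  exact preservesLimitsOfShape_mapDerivedCategory adj (hK _)
    fun F => ⟨freeSh (setSh F), freeCover F, adapted_freeSh O _, inferInstance⟩

end Groth.Agent.Der55
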