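import Groth.Agent.Der55.SpecialSystem
import Mathlib.Algebra.Homology.TotalComplex
import Mathlib.CategoryTheory.Abelian.Refinements
import Mathlib.Order.Interval.Finset.Basic
import Mathlib.Data.Int.Interval

/-! The total complex functor preserves quasi-isomorphisms of bounded below double complexes. -/

universe v u

open CategoryTheory Limits

namespace Groth.Agent.Der55

open HomologicalComplex CochainComplex HomComplex

variable {A : Type u} [Category.{v} A] [Abelian A]
  (K : HomologicalComplex₂ A (ComplexShape.up ℤ) (ComplexShape.up ℤ))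
  [K.HasTotal (ComplexShape.up ℤ)]

local notation "Tot" K => HomologicalComplex₂.total K (ComplexShape.up ℤ)

/-- Projection of the total complex on a summand. -/
noncomputable def totπ (p c n : ℤ) (h : p + c = n) : (Tot K).X n ⟶ (K.X p).X c :=
  K.totalDesc fun p' q h' =>
    if hq : q = c then
      (HomologicalComplex₂.XXIsoOfEq A _ _ K (show p' = p from by
        have h'' : p' + q = n := h'
        omega) hq).hom
    else 0

lemma ι_totπ_self (p c n : ℤ) (h : p + c = n) :
    K.ιTotal (ComplexShape.up ℤ) p c n h ≫ totπ K p c n h = 𝟙 _ := by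
  simp [totπ, HomologicalComplex₂.XXIsoOfEq]

lemma ι_totπ_ne (p' q p c n : ℤ) (h' : p' + q = n) (h : p + c = n) (hq : q ≠ c) :
    K.ιTotal (ComplexShape.up ℤ) p' q n h' ≫ totπ K p c n h = 0 := by
  simp [totπ, hq]

lemma ι_d_totπ_self (p p' c n n' : ℤ) (h : p + c = n) (h' : p' + c = n') (hp : p + 1 = p')
    (hn : n + 1 = n') :
    K.ιTotal (ComplexShape.up ℤ) p c n h ≫ (Tot K).d n n' ≫ totπ K p' c n' h' =
      (K.d p p').f c := by
  rw [HomologicalComplex₂.total_d, Preadditive.add_comp, Preadditive.comp_add,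
    HomologicalComplex₂.ι_D₁_assoc, HomologicalComplex₂.ι_D₂_assoc,
    HomologicalComplex₂.d₁_eq K (ComplexShape.up ℤ) hp c n' h',
    HomologicalComplex₂.d₂_eq K (ComplexShape.up ℤ) p (i₂ := c) (i₂' := c + 1) rfl n'
      (show p + (c + 1) = n' by omega)]
  simp [ι_totπ_self, ι_totπ_ne K p (c + 1) p' c n' (by omega) h' (by omega)]

lemma ι_d_totπ_ne (p' q p c n n' : ℤ) (h : p' + q = n) (h' : p + c = n')
    (hn : n + 1 = n') (hq : q ≠ c) (hq' : q + 1 ≠ c) :
    K.ιTotal (ComplexShape.up ℤ) p' q n h ≫ (Tot K).d n n' ≫ totπ K p c n' h' = 0 := by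
  rw [HomologicalComplex₂.total_d, Preadditive.add_comp, Preadditive.comp_add,
    HomologicalComplex₂.ι_D₁_assoc, HomologicalComplex₂.ι_D₂_assoc,
    HomologicalComplex₂.d₁_eq K (ComplexShape.up ℤ) (i₁ := p') (i₁' := p' + 1) rfl q n'
      (show p' + 1 + q = n' by omega),
    HomologicalComplex₂.d₂_eq K (ComplexShape.up ℤ) p' (i₂ := q) (i₂' := q + 1) rfl n'
      (show p' + (q + 1) = n' by omega)]
  simp [ι_totπ_ne K (p' + 1) q p c n' (by omega) h' hq,
    ι_totπ_ne K p' (q + 1) p c n' (by omega) h' hq']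

lemma d_totπ (p p' c c' n n' : ℤ) (h : p + c = n) (h' : p' + c = n') (hp : p + 1 = p')
    (hn : n + 1 = n') (hc : c' + 1 = c) :
    (Tot K).d n n' ≫ totπ K p' c n' h' = totπ K p c n h ≫ (K.d p p').f c +
      totπ K p' c' n (by omega) ≫
        K.ιTotal (ComplexShape.up ℤ) p' c' n (show p' + c' = n by omega) ≫
          (Tot K).d n n' ≫ totπ K p' c n' h' := by
  refine HomologicalComplex₂.total.hom_ext (ComplexShape.up ℤ) fun i q hi => ?_
  have hi' : i + q = n := hi
  rw [Preadditive.comp_add]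
  by_cases hq : q = c
  · subst hq
    obtain rfl : i = p := by omega
    rw [reassoc_of% (ι_totπ_self K i q n hi'), ι_d_totπ_self K i p' q n n' hi' h' hp hn,
      reassoc_of% (ι_totπ_ne K i q p' c' n hi' (by omega) (by omega))]
    simp
  · rw [reassoc_of% (ι_totπ_ne K i q p c n hi' h hq), zero_comp, zero_add]
    by_cases hq' : q = c'
    · subst hq'
      obtain rfl : i = p' := by omega
      rw [reassoc_of% (ι_totπ_self K i q n hi')]
    · rw [reassoc_of% (ι_totπ_ne K i q p' c' n hi' (by omega) hq'), zero_comp,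
        ι_d_totπ_ne K i q p' c n n' hi' h' hn hq (by omega)]

lemma eq_zero_of_totπ (a b : ℤ) (hK : ∀ p q : ℤ, p < a ∨ q < b → IsZero ((K.X p).X q))
    {T : A} {n : ℤ} (u : T ⟶ (Tot K).X n)
    (h : ∀ (p q : ℤ) (hpq : p + q = n), u ≫ totπ K p q n hpq = 0) : u = 0 := by
  have hid : 𝟙 ((Tot K).X n) = ∑ q ∈ Finset.Icc b (n - a),
      totπ K (n - q) q n (by omega) ≫
        K.ιTotal (ComplexShape.up ℤ) (n - q) q n (show n - q + q = n by omega) := by
    refine HomologicalComplex₂.total.hom_ext (ComplexShape.up ℤ) fun i q hi => ?_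
    have hi' : i + q = n := hi
    rw [Category.comp_id, Preadditive.comp_sum]
    by_cases hq : q ∈ Finset.Icc b (n - a)
    · rw [Finset.sum_eq_single q]
      · obtain rfl : i = n - q := by omega
        rw [reassoc_of% (ι_totπ_self K (n - q) q n hi')]
      · intro q' _ hne
        rw [reassoc_of% (ι_totπ_ne K i q (n - q') q' n hi' (by omega) hne.symm), zero_comp]
      · exact fun h0 => absurd hq h0
    · refine IsZero.eq_of_src (hK i q ?_) _ _
      simp only [Finset.mem_Icc, not_and_or, not_le] at hq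
      omega
  rw [← Category.comp_id u, hid, Preadditive.comp_sum]
  exact Finset.sum_eq_zero fun q _ => by rw [reassoc_of% (h (n - q) q (by omega)), zero_comp]

variable {K}
variable {L : HomologicalComplex₂ A (ComplexShape.up ℤ) (ComplexShape.up ℤ)}
  [L.HasTotal (ComplexShape.up ℤ)] (φ : K ⟶ L)

lemma map_totπ (p c n : ℤ) (h : p + c = n) :
    (HomologicalComplex₂.total.map φ (ComplexShape.up ℤ)).f n ≫ totπ L p c n h =
      totπ K p c n h ≫ (φ.f p).f c := by
  refine HomologicalComplex₂.total.hom_ext (ComplexShape.up ℤ) fun i q hi => ?_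
  have hi' : i + q = n := hi
  rw [HomologicalComplex₂.ιTotal_map_assoc]
  by_cases hq : q = c
  · subst hq
    obtain rfl : i = p := by omega
    rw [ι_totπ_self L i q n hi', reassoc_of% (ι_totπ_self K i q n hi')]
    simp
  · rw [ι_totπ_ne L i q p c n hi' h hq, reassoc_of% (ι_totπ_ne K i q p c n hi' h hq)]
    simp

lemma exists_cone_boundary {M N : CochainComplex A ℤ} (ψ : M ⟶ N) [QuasiIso ψ] {T : A}
    (p₀ p p₁ p₂ : ℤ) (h₀ : p₀ + 1 = p) (h₁ : p + 1 = p₁) (h₂ : p₁ + 1 = p₂)
    (x : T ⟶ M.X p₁) (y : T ⟶ N.X p)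
    (hx : x ≫ M.d p₁ p₂ = 0) (hy : x ≫ ψ.f p₁ + y ≫ N.d p p₁ = 0) :
    ∃ (T' : A) (π : T' ⟶ T) (_ : Epi π) (x' : T' ⟶ M.X p) (y' : T' ⟶ N.X p₀),
      π ≫ x = -x' ≫ M.d p p₁ ∧ π ≫ y = x' ≫ ψ.f p + y' ≫ N.d p₀ p := by
  let z : T ⟶ (mappingCone ψ).X p :=
    x ≫ (mappingCone.inl ψ).v p₁ p (by omega) + y ≫ (mappingCone.inr ψ).f p
  have hz : z ≫ (mappingCone ψ).d p p₁ = 0 := by
    rw [mappingCone.ext_to_iff ψ p₁ p₂ h₂]
    simp [z, mappingCone.d_fst_v ψ p p₁ p₂ h₁ h₂, mappingCone.d_snd_v ψ p p₁ h₁, hx, hy]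
  have hex := ((HomologicalComplex.exactAt_iff' _ p₀ p p₁ (by simp; omega) (by simp [h₁])).1
    (acyclic_mappingCone_of_quasiIso ψ p))
  obtain ⟨T', π, hπ, w, hw⟩ := hex.exact_up_to_refinements z hz
  obtain ⟨w', hw'⟩ : ∃ w' : T' ⟶ (mappingCone ψ).X p₀, w' = w := ⟨w, rfl⟩
  replace hw : π ≫ z = w' ≫ (mappingCone ψ).d p₀ p := by rw [hw']; exact hw
  refine ⟨T', π, hπ, w' ≫ (mappingCone.fst ψ).1.v p₀ p h₀,
    w' ≫ (mappingCone.snd ψ).v p₀ p₀ (add_zero _), ?_, ?_⟩
  · have := hw =≫ (mappingCone.fst ψ).1.v p p₁ h₁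
    simpa [z, mappingCone.d_fst_v ψ p₀ p p₁ h₀ h₁] using this
  · have := hw =≫ (mappingCone.snd ψ).v p p (add_zero p)
    simpa [z, mappingCone.d_snd_v ψ p₀ p h₀] using this

/-- The components of a map to the cone of the total map vanish in lines below `c`. -/
def SupportedAbove (c : ℤ) {T : A} {n : ℤ}
    (u : T ⟶ (mappingCone (HomologicalComplex₂.total.map φ (ComplexShape.up ℤ))).X n) : Prop :=
  ∀ q < c,
    (∀ (p : ℤ) (h : p + q = n + 1),
      u ≫ (mappingCone.fst (HomologicalComplex₂.total.map φ (ComplexShape.up ℤ))).1.v n (n + 1) rfl ≫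
        totπ K p q (n + 1) h = 0) ∧
    (∀ (p : ℤ) (h : p + q = n),
      u ≫ (mappingCone.snd (HomologicalComplex₂.total.map φ (ComplexShape.up ℤ))).v n n (add_zero n) ≫
        totπ L p q n h = 0)

variable [QuasiIso φ] (a b : ℤ) (hK : ∀ p q : ℤ, p < a ∨ q < b → IsZero ((K.X p).X q))
  (hL : ∀ p q : ℤ, p < a ∨ q < b → IsZero ((L.X p).X q))

include hK hL in
lemma exists_boundary (n : ℤ) : ∀ (k : ℕ) (c : ℤ), n + 2 - a ≤ c + k → ∀ (T : A)
    (u : T ⟶ (mappingCone (HomologicalComplex₂.total.map φ (ComplexShape.up ℤ))).X n),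
    u ≫ (mappingCone (HomologicalComplex₂.total.map φ (ComplexShape.up ℤ))).d n (n + 1) = 0 →
    SupportedAbove φ c u →
    ∃ (T' : A) (π : T' ⟶ T) (_ : Epi π)
      (w : T' ⟶ (mappingCone (HomologicalComplex₂.total.map φ (ComplexShape.up ℤ))).X (n - 1)),
      π ≫ u = w ≫ (mappingCone (HomologicalComplex₂.total.map φ (ComplexShape.up ℤ))).d (n - 1) n := by
  intro k
  induction k with
  | zero =>
    intro c hc T u _ hu
    refine ⟨T, 𝟙 T, inferInstance, 0, ?_⟩
    have : u = 0 := by
      rw [mappingCone.ext_to_iff _ n (n + 1) rfl]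
      refine ⟨?_, ?_⟩
      · rw [zero_comp]
        refine eq_zero_of_totπ K a b hK _ fun p q hpq => ?_
        by_cases hq : q < c
        · rw [Category.assoc, (hu q hq).1 p hpq]
        · exact IsZero.eq_of_tgt (hK p q (by omega)) _ _
      · rw [zero_comp]
        refine eq_zero_of_totπ L a b hL _ fun p q hpq => ?_
        by_cases hq : q < c
        · rw [Category.assoc, (hu q hq).2 p hpq]
        · exact IsZero.eq_of_tgt (hL p q (by omega)) _ _
    simp [this]
  | succ k ih =>
    intro c hc T u hd hu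
    obtain ⟨p, hp⟩ : ∃ p, p + c = n := ⟨n - c, by omega⟩
    let F := HomologicalComplex.eval A (ComplexShape.up ℤ) c
    let ψ := (F.mapHomologicalComplex (ComplexShape.up ℤ)).map φ
    obtain ⟨x, hx⟩ : ∃ x, x = u ≫ (mappingCone.fst (HomologicalComplex₂.total.map φ (ComplexShape.up ℤ))).1.v n (n + 1) rfl :=
      ⟨_, rfl⟩
    obtain ⟨y, hy⟩ : ∃ y, y = u ≫ (mappingCone.snd (HomologicalComplex₂.total.map φ (ComplexShape.up ℤ))).v n n (add_zero n) :=
      ⟨_, rfl⟩
    have hd₁ : x ≫ (Tot K).d (n + 1) (n + 2) = 0 := by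
      have := hd =≫ (mappingCone.fst (HomologicalComplex₂.total.map φ (ComplexShape.up ℤ))).1.v
        (n + 1) (n + 2) (by omega)
      simpa [hx, mappingCone.d_fst_v _ n (n + 1) (n + 2) rfl (by omega)] using this
    have hd₂ : x ≫ (HomologicalComplex₂.total.map φ (ComplexShape.up ℤ)).f (n + 1) +
        y ≫ (Tot L).d n (n + 1) = 0 := by
      have := hd =≫ (mappingCone.snd (HomologicalComplex₂.total.map φ (ComplexShape.up ℤ))).v
        (n + 1) (n + 1) (add_zero _)
      simpa [hx, hy, mappingCone.d_snd_v _ n (n + 1) rfl] using this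
    let xc : T ⟶ (K.X (p + 1)).X c := x ≫ totπ K (p + 1) c (n + 1) (by omega)
    let yc : T ⟶ (L.X p).X c := y ≫ totπ L p c n hp
    have h₁ : xc ≫ (K.d (p + 1) (p + 2)).f c = 0 := by
      have := hd₁ =≫ totπ K (p + 2) c (n + 2) (by omega)
      rw [zero_comp, Category.assoc, d_totπ K (p + 1) (p + 2) c (c - 1) (n + 1) (n + 2)
        (by omega) (by omega) (by omega) (by omega) (by omega), Preadditive.comp_add] at this
      have h0 : x ≫ totπ K (p + 2) (c - 1) (n + 1) (by omega) = 0 := by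
        rw [hx, Category.assoc]; exact (hu (c - 1) (by omega)).1 _ (by omega)
      rw [reassoc_of% h0, zero_comp, add_zero, ← Category.assoc] at this
      exact this
    have h₂ : xc ≫ (φ.f (p + 1)).f c + yc ≫ (L.d p (p + 1)).f c = 0 := by
      have := hd₂ =≫ totπ L (p + 1) c (n + 1) (by omega)
      rw [zero_comp, Preadditive.add_comp, Category.assoc, map_totπ, Category.assoc,
        d_totπ L p (p + 1) c (c - 1) n (n + 1) hp (by omega) rfl rfl (by omega),
        Preadditive.comp_add] at this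
      have h0 : y ≫ totπ L (p + 1) (c - 1) n (by omega) = 0 := by
        rw [hy, Category.assoc]; exact (hu (c - 1) (by omega)).2 _ (by omega)
      rw [reassoc_of% h0, zero_comp, add_zero, ← Category.assoc, ← Category.assoc] at this
      exact this
    obtain ⟨T₁, π₁, hπ₁, x', y', e₁, e₂⟩ : ∃ (T₁ : A) (π₁ : T₁ ⟶ T) (_ : Epi π₁)
        (x' : T₁ ⟶ (K.X p).X c) (y' : T₁ ⟶ (L.X (p - 1)).X c),
        π₁ ≫ xc = -x' ≫ (K.d p (p + 1)).f c ∧
        π₁ ≫ yc = x' ≫ (φ.f p).f c + y' ≫ (L.d (p - 1) p).f c :=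
      exists_cone_boundary ψ (p - 1) p (p + 1) (p + 2) (by omega) rfl (by omega) xc yc h₁ h₂
    let w : T₁ ⟶ (mappingCone (HomologicalComplex₂.total.map φ (ComplexShape.up ℤ))).X (n - 1) :=
      x' ≫ K.ιTotal (ComplexShape.up ℤ) p c n hp ≫
          (mappingCone.inl (HomologicalComplex₂.total.map φ (ComplexShape.up ℤ))).v n (n - 1) (by omega) +
        y' ≫ L.ιTotal (ComplexShape.up ℤ) (p - 1) c (n - 1) (show p - 1 + c = n - 1 by omega) ≫
          (mappingCone.inr (HomologicalComplex₂.total.map φ (ComplexShape.up ℤ))).f (n - 1)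
    let u' := π₁ ≫ u -
      w ≫ (mappingCone (HomologicalComplex₂.total.map φ (ComplexShape.up ℤ))).d (n - 1) n
    have hd' : u' ≫ (mappingCone (HomologicalComplex₂.total.map φ (ComplexShape.up ℤ))).d n (n + 1) = 0 := by
      simp [u', hd]
    have hu' : SupportedAbove φ (c + 1) u' := by
      intro q hq
      refine ⟨fun i hi => ?_, fun i hi => ?_⟩
      · have : u' ≫ (mappingCone.fst (HomologicalComplex₂.total.map φ (ComplexShape.up ℤ))).1.v n (n + 1) rfl =
            π₁ ≫ x + x' ≫ K.ιTotal (ComplexShape.up ℤ) p c n hp ≫ (Tot K).d n (n + 1) := by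
          simp [u', w, hx, mappingCone.d_fst_v _ (n - 1) n (n + 1) (by omega) rfl]
        rw [reassoc_of% this, Preadditive.add_comp, Category.assoc, Category.assoc, Category.assoc]
        rcases (show q < c ∨ q = c by omega) with hq' | rfl
        · have h0 : x ≫ totπ K i q (n + 1) hi = 0 := by
            rw [hx, Category.assoc]; exact (hu q hq').1 i hi
          rw [h0, ι_d_totπ_ne K p c i q n (n + 1) hp hi rfl (by omega) (by omega)]
          simp
        · obtain rfl : i = p + 1 := by omega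
          rw [ι_d_totπ_self K p (p + 1) q n (n + 1) hp hi rfl rfl]
          exact (congrArg (· + _) e₁).trans (by simp)
      · have : u' ≫ (mappingCone.snd (HomologicalComplex₂.total.map φ (ComplexShape.up ℤ))).v n n (add_zero n) =
            π₁ ≫ y - (x' ≫ K.ιTotal (ComplexShape.up ℤ) p c n hp ≫
                (HomologicalComplex₂.total.map φ (ComplexShape.up ℤ)).f n +
              y' ≫ L.ιTotal (ComplexShape.up ℤ) (p - 1) c (n - 1) (show p - 1 + c = n - 1 by omega) ≫
                (Tot L).d (n - 1) n) := by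
          simp [u', w, hy, mappingCone.d_snd_v _ (n - 1) n (by omega)]
        rw [reassoc_of% this, Preadditive.sub_comp, Preadditive.add_comp, Category.assoc,
          Category.assoc, Category.assoc, Category.assoc, Category.assoc, map_totπ]
        rcases (show q < c ∨ q = c by omega) with hq' | rfl
        · have h0 : y ≫ totπ L i q n hi = 0 := by
            rw [hy, Category.assoc]; exact (hu q hq').2 i hi
          rw [h0, ι_d_totπ_ne L (p - 1) c i q (n - 1) n (by omega) hi (by omega) (by omega) (by omega),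
            reassoc_of% (ι_totπ_ne K p c i q n hp hi (by omega))]
          simp
        · obtain rfl : i = p := by omega
          rw [reassoc_of% (ι_totπ_self K i q n hi),
            ι_d_totπ_self L (i - 1) i q (n - 1) n (by omega) hi (by omega) (by omega)]
          exact sub_eq_zero.2 e₂
    obtain ⟨T₂, π₂, hπ₂, w₂, hw₂⟩ := ih (c + 1) (by omega) T₁ u' hd' hu'
    refine ⟨T₂, π₂ ≫ π₁, inferInstance, w₂ + π₂ ≫ w, ?_⟩
    simp only [u', Preadditive.comp_sub, sub_eq_iff_eq_add] at hw₂
    simpa [Preadditive.add_comp] using hw₂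

include hK hL in
theorem quasiIso_total_map : QuasiIso (HomologicalComplex₂.total.map φ (ComplexShape.up ℤ)) := by
  have hac : (mappingCone (HomologicalComplex₂.total.map φ (ComplexShape.up ℤ))).Acyclic := by
    intro n
    rw [HomologicalComplex.exactAt_iff' _ (n - 1) n (n + 1) (by simp) (by simp),
      ShortComplex.exact_iff_exact_up_to_refinements]
    intro T u hd
    obtain ⟨T', π, hπ, w, hw⟩ := exists_boundary φ a b hK hL n (n + 2 - a - b).toNat b (by omega) T u hd
      (fun q hq => ⟨fun p _ => IsZero.eq_of_tgt (hK p q (Or.inr hq)) _ _,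
        fun p _ => IsZero.eq_of_tgt (hL p q (Or.inr hq)) _ _⟩)
    exact ⟨T', π, hπ, w, hw⟩
  rw [← HomologicalComplex.mem_quasiIso_iff, ← HomotopyCategory.quotient_map_mem_quasiIso_iff,
    HomotopyCategory.quasiIso_eq_trW_subcategoryAcyclic]
  exact ((HomotopyCategory.subcategoryAcyclic A).trW_iff_of_distinguished _
    (HomotopyCategory.mappingCone_triangleh_distinguished _)).2
      ((HomotopyCategory.quotient_obj_mem_subcategoryAcyclic_iff_acyclic _).2 hac)

end Groth.Agent.Der55
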