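import Mathlib.CategoryTheory.Triangulated.Pretriangulated
import Mathlib.CategoryTheory.Triangulated.Triangulated

/-! Factorizations through the ends of a distinguished triangle. -/

universe v u

open CategoryTheory Limits Pretriangulated

namespace Groth.Agent.Der55

variable {D : Type u} [Category.{v} D] [Preadditive D] [HasZeroObject D] [HasShift D ℤ]
  [∀ n : ℤ, (shiftFunctor D n).Additive] [Pretriangulated D]

lemma exists_factor_mor₁ {X Y Z W : D} {f : X ⟶ Y} {g : Y ⟶ Z} {h : Z ⟶ X⟦(1 : ℤ)⟧}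
    (hT : Triangle.mk f g h ∈ distTriang D) (t : X ⟶ W) (ht : h ≫ t⟦(1 : ℤ)⟧' = 0) :
    ∃ c : Y ⟶ W, f ≫ c = t := by
  obtain ⟨c', hc'⟩ := Triangle.yoneda_exact₃ _ (rot_of_distTriang _ hT) (t⟦(1 : ℤ)⟧') ht
  obtain ⟨c'', hc''⟩ : ∃ c'' : Y ⟶ W, c''⟦(1 : ℤ)⟧' = c' := (shiftFunctor D (1 : ℤ)).map_surjective c'
  refine ⟨-c'', (shiftFunctor D (1 : ℤ)).map_injective ?_⟩
  rw [Functor.map_comp, Functor.map_neg, Preadditive.comp_neg, hc'', ← Preadditive.neg_comp]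
  exact hc'.symm

lemma exists_factor_mor₃ {X Y Z A : D} {f : X ⟶ Y} {g : Y ⟶ Z} {h : Z ⟶ X⟦(1 : ℤ)⟧}
    (hT : Triangle.mk f g h ∈ distTriang D) (ψ : A ⟶ X) (hψ : ψ ≫ f = 0) :
    ∃ χ : A⟦(1 : ℤ)⟧ ⟶ Z, χ ≫ h = ψ⟦(1 : ℤ)⟧' := by
  obtain ⟨χ, hχ⟩ := Triangle.coyoneda_exact₃ _ (rot_of_distTriang _ hT) (ψ⟦(1 : ℤ)⟧')
    (by
      have h0 : ψ⟦(1 : ℤ)⟧' ≫ (-f⟦(1 : ℤ)⟧') = 0 := by
        rw [Preadditive.comp_neg, ← Functor.map_comp, hψ, Functor.map_zero, neg_zero]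
      exact h0)
  exact ⟨χ, hχ.symm⟩

end Groth.Agent.Der55
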